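import Cfsg.Agent.EqLemmas

/-!
# Finite facts about the alternating group of degree five (S3717, case B; owner: helper31)
-/

set_option autoImplicit false

namespace Cfsg.Agent.M11Local

/-- The alternating group of degree five. -/
abbrev A5 : Type := ↥(alternatingGroup (Fin 5))

/-- An element of order five. -/
def five : A5 := ⟨finRotate 5, Equiv.Perm.mem_alternatingGroup.2 (by decide)⟩

/-- An element of order three. -/
def threeA : A5 := ⟨Equiv.swap 0 2 * Equiv.swap 2 3, Equiv.Perm.mem_alternatingGroup.2 (by decide)⟩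

/-- An element of order three. -/
def threeB : A5 := ⟨Equiv.swap 1 3 * Equiv.swap 3 4, Equiv.Perm.mem_alternatingGroup.2 (by decide)⟩

/-- An element of order three. -/
def threeC : A5 := ⟨Equiv.swap 2 3 * Equiv.swap 3 4, Equiv.Perm.mem_alternatingGroup.2 (by decide)⟩

/-- An involution. -/
def two : A5 := ⟨Equiv.swap 0 1 * Equiv.swap 2 3, Equiv.Perm.mem_alternatingGroup.2 (by decide)⟩

theorem threeA_spec : threeA ^ 3 = 1 ∧ threeA ≠ 1 := by decide +kernel

theorem threeB_spec : threeB ^ 3 = 1 ∧ threeB ≠ 1 := by decide +kernel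

theorem threeC_spec : threeC ^ 3 = 1 ∧ threeC ≠ 1 := by decide +kernel

theorem five_spec : five ^ 5 = 1 ∧ five ≠ 1 := by decide +kernel

/-- Two coset identities for `five`. -/
theorem certificate :
    threeA * threeA * threeC * five ^ 4 = threeB * (threeC * threeC) ∧
      threeA * threeC * five ^ 2 = threeB * threeB * (threeC * threeC) := by decide +kernel

theorem A5_orders : ∀ x : A5, x * x = 1 ∨ x ^ 3 = 1 ∨ x ^ 5 = 1 := by decide +kernel

theorem isConj_three : ∀ x : A5, x ^ 3 = 1 → x ≠ 1 → ∃ c, c * threeC * c⁻¹ = x := by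
  decide +kernel

theorem isConj_two : ∀ x : A5, x * x = 1 → x ≠ 1 → ∃ c, c * two * c⁻¹ = x := by
  decide +kernel

theorem isConj_five : ∀ x : A5, x ^ 5 = 1 → x ≠ 1 →
    ∃ c, c * x * c⁻¹ = five ∨ c * (x * x) * c⁻¹ = five := by
  decide +kernel

theorem commute_two_sq : ∀ x : A5, x * two = two * x → x * x = 1 := by decide +kernel

theorem card_commute_two : Nat.card {x : A5 // x * two = two * x} = 4 := by
  rw [Nat.card_eq_fintype_card, Fintype.card_subtype]
  decide +kernel

theorem card_A5 : Nat.card A5 = 60 := by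
  rw [nat_card_alternatingGroup, Nat.card_fin]
  rfl

theorem three_conj {x y : A5} (hx : x ^ 3 = 1) (hx1 : x ≠ 1) (hy : y ^ 3 = 1) (hy1 : y ≠ 1) :
    ∃ c, c * x * c⁻¹ = y := by
  obtain ⟨p, rfl⟩ := isConj_three x hx hx1
  obtain ⟨q, rfl⟩ := isConj_three y hy hy1
  exact ⟨q * p⁻¹, by group⟩

theorem two_conj {x y : A5} (hx : x * x = 1) (hx1 : x ≠ 1) (hy : y * y = 1) (hy1 : y ≠ 1) :
    ∃ c, c * x * c⁻¹ = y := by
  obtain ⟨p, rfl⟩ := isConj_two x hx hx1
  obtain ⟨q, rfl⟩ := isConj_two y hy hy1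
  exact ⟨q * p⁻¹, by group⟩

/-- The centralizer of an involution is a group of order four and exponent two. -/
theorem commute_sq {x t : A5} (ht : t * t = 1) (ht1 : t ≠ 1) (h : x * t = t * x) : x * x = 1 := by
  obtain ⟨c, rfl⟩ := isConj_two t ht ht1
  have h' : c⁻¹ * x * c * two = two * (c⁻¹ * x * c) := by
    calc c⁻¹ * x * c * two = c⁻¹ * (x * (c * two * c⁻¹)) * c := by group
      _ = c⁻¹ * (c * two * c⁻¹ * x) * c := by rw [h]
      _ = two * (c⁻¹ * x * c) := by group
  calc x * x = c * (c⁻¹ * x * c * (c⁻¹ * x * c)) * c⁻¹ := by group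
    _ = 1 := by rw [commute_two_sq _ h']; group

theorem card_commute {t : A5} (ht : t * t = 1) (ht1 : t ≠ 1) :
    Nat.card {x : A5 // x * t = t * x} = 4 := by
  obtain ⟨c, rfl⟩ := isConj_two t ht ht1
  rw [← card_commute_two]
  refine Nat.card_congr ((MulAut.conj c⁻¹).toEquiv.subtypeEquiv fun x => ?_)
  show x * (c * two * c⁻¹) = c * two * c⁻¹ * x ↔
    c⁻¹ * x * c⁻¹⁻¹ * two = two * (c⁻¹ * x * c⁻¹⁻¹)
  constructor
  · intro h
    calc c⁻¹ * x * c⁻¹⁻¹ * two = c⁻¹ * (x * (c * two * c⁻¹)) * c := by group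
      _ = c⁻¹ * (c * two * c⁻¹ * x) * c := by rw [h]
      _ = two * (c⁻¹ * x * c⁻¹⁻¹) := by group
  · intro h
    calc x * (c * two * c⁻¹) = c * (c⁻¹ * x * c⁻¹⁻¹ * two) * c⁻¹ := by group
      _ = c * (two * (c⁻¹ * x * c⁻¹⁻¹)) * c⁻¹ := by rw [h]
      _ = c * two * c⁻¹ * x := by group

theorem commute_two_norm : ∀ q : A5, q * two = two * q →
    threeA * q * threeA⁻¹ * two = two * (threeA * q * threeA⁻¹) := by decide +kernel

/-- An element of order three normalizes the centralizer of an involution. -/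
theorem exists_norm {t : A5} (ht : t * t = 1) (ht1 : t ≠ 1) : ∃ w : A5, w ^ 3 = 1 ∧ w ≠ 1 ∧
    ∀ q, q * t = t * q → w * q * w⁻¹ * t = t * (w * q * w⁻¹) := by
  obtain ⟨c, rfl⟩ := isConj_two t ht ht1
  refine ⟨c * threeA * c⁻¹, ?_, fun h => threeA_spec.2 (conj_eq_one_iff.1 h), fun q hq => ?_⟩
  · rw [conj_pow, threeA_spec.1]; simp
  · have h' : c⁻¹ * q * c * two = two * (c⁻¹ * q * c) := by
      calc c⁻¹ * q * c * two = c⁻¹ * (q * (c * two * c⁻¹)) * c := by group
        _ = c⁻¹ * (c * two * c⁻¹ * q) * c := by rw [hq]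
        _ = two * (c⁻¹ * q * c) := by group
    have h := commute_two_norm _ h'
    calc c * threeA * c⁻¹ * q * (c * threeA * c⁻¹)⁻¹ * (c * two * c⁻¹)
        = c * (threeA * (c⁻¹ * q * c) * threeA⁻¹ * two) * c⁻¹ := by group
      _ = c * (two * (threeA * (c⁻¹ * q * c) * threeA⁻¹)) * c⁻¹ := by rw [h]
      _ = c * two * c⁻¹ * (c * threeA * c⁻¹ * q * (c * threeA * c⁻¹)⁻¹) := by group

/-- The centralizer of an involution is commutative. -/
theorem commute_comm {t x y : A5} (ht : t * t = 1) (ht1 : t ≠ 1) (hx : x * t = t * x)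
    (hy : y * t = t * y) : x * y = y * x := by
  have h := commute_sq ht ht1 ((show Commute x t from hx).mul_left hy).eq
  calc x * y = (x * y)⁻¹ := (inv_eq_of_mul_eq_one_right h).symm
    _ = y * x := by
      rw [mul_inv_rev, inv_eq_of_mul_eq_one_right (commute_sq ht ht1 hx),
        inv_eq_of_mul_eq_one_right (commute_sq ht ht1 hy)]

end Cfsg.Agent.M11Local
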