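import Cfsg.Agent.Lib.M11Local.Basic
import Cfsg.Agent.Lib.M11Local.AltFacts

/-!
# An elementary abelian 2-group under `A₅`, elements of order 3 fixed-point-free (S3717, case B;
owner: helper31)

* `AltMod.five_fix` : elements of order 5 fix no non-identity vector
* `AltMod.card_ker` : the module has `|C(z)|²` elements
* `AltMod.card_cases` : it has order 1 or 16 when `|C(z)| ≤ 8`
* `AltMod.isConj_of_ne_one`, `AltMod.fix_cent` : for order 16
-/

set_option autoImplicit false

namespace Cfsg.Agent.M11Local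

/-- A group over `A₅` with elementary abelian kernel on which `g` is fixed-point-free. -/
structure AltMod {Q : Type*} [Group Q] (f : Q →* A5) (g z : Q) : Prop where
  surj : Function.Surjective f
  comm : ∀ u v, f u = 1 → f v = 1 → u * v = v * u
  sq : ∀ u, f u = 1 → u * u = 1
  g_cube : g ^ 3 = 1
  g_ne : f g ≠ 1
  fix : ∀ u, f u = 1 → u * g = g * u → u = 1
  z_sq : z * z = 1
  z_g : cj z g = g⁻¹

variable {Q : Type*} [Group Q] {f : Q →* A5} {g z : Q}

theorem ker_cj {u : Q} (hu : f u = 1) (p : Q) : f (cj p u) = 1 := by simp [cj, hu]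

theorem AltMod.z_ne (A : AltMod f g z) : f z ≠ 1 := fun h => by
  have h1 : f g = (f g)⁻¹ := by
    conv_rhs => rw [← map_inv, ← A.z_g]
    simp [cj, h]
  have h2 : f g * f g = 1 := by nth_rewrite 2 [h1]; exact mul_inv_cancel _
  exact A.g_ne (eq_one_of_cube_sq (by rw [← map_pow, A.g_cube, map_one]) h2)

theorem AltMod.fz_sq (A : AltMod f g z) : f z * f z = 1 := by rw [← map_mul, A.z_sq, map_one]

/-- The action on the kernel depends only on the image. -/
theorem AltMod.conj_eq (A : AltMod f g z) {p q u : Q} (h : f p = f q) (hu : f u = 1) :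
    cj p u = cj q u := by
  have h1 : f (q⁻¹ * p) = 1 := by rw [map_mul, map_inv, h, inv_mul_cancel]
  calc cj p u = cj q (cj (q⁻¹ * p) u) := by rw [cj_cj, mul_inv_cancel_left]
    _ = cj q u := by rw [cj_eq_self.2 (A.comm _ _ h1 hu)]

theorem AltMod.triple_g (A : AltMod f g z) {v : Q} (hv : f v = 1) :
    v * cj g v * cj (g * g) v = 1 := by
  have h1 := ker_cj hv g
  have h2 := ker_cj hv (g * g)
  refine A.fix _ (by rw [map_mul, map_mul, hv, h1, h2, one_mul, one_mul]) ?_
  refine (cj_eq_self.1 ?_).symm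
  rw [cj_mul, cj_mul, cj_cj, cj_cj, show g * (g * g) = g ^ 3 by rw [pow_three], A.g_cube,
    cj_one]
  exact A.comm _ _ (by rw [map_mul, h1, h2, one_mul]) hv |>.trans (mul_assoc _ _ _).symm

theorem AltMod.triple (A : AltMod f g z) {T v : Q} (hT : f T ^ 3 = 1) (hT1 : f T ≠ 1)
    (hv : f v = 1) : v * cj T v * cj (T * T) v = 1 := by
  obtain ⟨c, hc⟩ := three_conj (by rw [← map_pow, A.g_cube, map_one]) A.g_ne hT hT1
  obtain ⟨C, rfl⟩ := A.surj c
  have e1 : cj T v = cj (C * g * C⁻¹) v :=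
    A.conj_eq (by rw [map_mul, map_mul, map_inv, hc]) hv
  have e2 : cj (T * T) v = cj (C * (g * g) * C⁻¹) v :=
    A.conj_eq (by simp only [map_mul, map_inv, ← hc]; group) hv
  have h := congrArg (cj C) (A.triple_g (ker_cj hv C⁻¹))
  rw [cj_mul, cj_mul, cj_cj_inv, cj_cj, cj_cj, cj_cj, cj_cj] at h
  rw [show cj C (1 : Q) = 1 by simp [cj]] at h
  rw [e1, e2]
  exact h

theorem AltMod.five_fix' (A : AltMod f g z) {F u : Q} (hF : f F = five) (hu : f u = 1)
    (hFu : cj F u = u) : u = 1 := by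
  obtain ⟨T1, hT1⟩ := A.surj threeA
  obtain ⟨T2, hT2⟩ := A.surj threeB
  obtain ⟨T3, hT3⟩ := A.surj threeC
  have hpow : ∀ n : ℕ, cj (F ^ n) u = u := fun n =>
    cj_eq_self.2 ((show Commute F u from cj_eq_self.1 hFu).pow_left n).eq
  have e0 := A.triple (T := T3) (hT3 ▸ threeC_spec.1) (hT3 ▸ threeC_spec.2) hu
  have eA := A.triple (T := T1) (hT1 ▸ threeA_spec.1) (hT1 ▸ threeA_spec.2) (ker_cj hu T3)
  have eB := A.triple (T := T2) (hT2 ▸ threeB_spec.1) (hT2 ▸ threeB_spec.2) (ker_cj hu (T3 * T3))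
  rw [cj_cj, cj_cj] at eA eB
  have h1 : cj (T2 * (T3 * T3)) u = cj (T1 * T1 * T3) u := by
    have e : cj (T1 * T1 * T3) u = cj (T1 * T1 * T3 * F ^ 4) u := by rw [← cj_cj _ (F ^ 4), hpow]
    rw [e]
    exact A.conj_eq (by simp only [map_mul, map_pow, hT1, hT2, hT3, hF]; exact certificate.1.symm)
      hu
  have h2 : cj (T2 * T2 * (T3 * T3)) u = cj (T1 * T3) u := by
    have e : cj (T1 * T3) u = cj (T1 * T3 * F ^ 2) u := by rw [← cj_cj _ (F ^ 2), hpow]
    rw [e]
    exact A.conj_eq (by simp only [map_mul, map_pow, hT1, hT2, hT3, hF]; exact certificate.2.symm)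
      hu
  rw [h1, h2] at eB
  have hab := A.comm _ _ (ker_cj hu (T1 * T3)) (ker_cj hu (T1 * T1 * T3))
  have h34 : cj (T3 * T3) u = cj T3 u := by
    rw [mul_assoc] at eA eB
    rw [eq_inv_of_mul_eq_one_left eA, eq_inv_of_mul_eq_one_left eB, hab]
  rw [h34, mul_assoc, A.sq _ (ker_cj hu T3), mul_one] at e0
  exact e0

/-- An element of order five fixes no non-identity vector. -/
theorem AltMod.five_fix (A : AltMod f g z) {y u : Q} (hy : f y ^ 5 = 1) (hy1 : f y ≠ 1)
    (hu : f u = 1) (h : cj y u = u) : u = 1 := by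
  obtain ⟨c, hc⟩ := isConj_five (f y) hy hy1
  obtain ⟨C, rfl⟩ := A.surj c
  have key : ∀ Y, cj Y u = u → cj (C * Y * C⁻¹) (cj C u) = cj C u := fun Y hY => by
    rw [cj_cj, inv_mul_cancel_right, ← cj_cj, hY]
  refine (conj_eq_one_iff (a := C) (b := u)).1 ?_
  rcases hc with hc | hc
  · exact A.five_fix' (by rw [map_mul, map_mul, map_inv, hc]) (ker_cj hu C) (key y h)
  · exact A.five_fix' (F := C * (y * y) * C⁻¹) (by simp only [map_mul, map_inv]; exact hc)
      (ker_cj hu C) (key _ (by rw [← cj_cj, h, h]))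

/-- The action of `A₅` on the kernel. -/
@[reducible] noncomputable def AltMod.action (A : AltMod f g z) : MulAction A5 f.ker where
  smul x v := ⟨cj (Function.surjInv A.surj x) v, ker_cj v.2 _⟩
  one_smul v := Subtype.ext ((A.conj_eq (q := 1)
    (by rw [Function.surjInv_eq A.surj, map_one]) v.2).trans (cj_one _))
  mul_smul x y v := Subtype.ext ((A.conj_eq
    (q := Function.surjInv A.surj x * Function.surjInv A.surj y)
    (by rw [map_mul]; simp only [Function.surjInv_eq A.surj]) v.2).trans (cj_cj _ _ _).symm)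

/-- A stabilizer of a non-identity vector has exponent two. -/
theorem AltMod.stab_sq (A : AltMod f g z) {p v : Q} (hv : f v = 1) (hv1 : v ≠ 1)
    (h : cj p v = v) : f p * f p = 1 := by
  rcases A5_orders (f p) with h2 | h3 | h5
  · exact h2
  · by_contra hne
    have hp1 : f p ≠ 1 := fun e => hne (by rw [e, mul_one])
    have ht := A.triple h3 hp1 hv
    rw [← cj_cj, h, h, A.sq v hv, one_mul] at ht
    exact hv1 ht
  · by_contra hne
    exact hv1 (A.five_fix h5 (fun e => hne (by rw [e, mul_one])) hv h)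

/-- The number of vectors fixed by `z`. -/
noncomputable def cCard (f : Q →* A5) (z : Q) : ℕ := Nat.card {v : Q // f v = 1 ∧ cj z v = v}

theorem AltMod.card_ker [Finite Q] (A : AltMod f g z) :
    Nat.card f.ker = cCard f z * cCard f z := by
  refine le_antisymm ?_ ?_
  · let d : f.ker →* Q :=
      MonoidHom.mk' (fun v => (v : Q) * cj z v) fun v w => by
        have h := A.comm _ _ (ker_cj v.2 z) (MonoidHom.mem_ker.1 w.2)
        push_cast
        rw [cj_mul, mul_assoc, ← mul_assoc (w : Q), ← h]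
        simp only [mul_assoc]
    rw [← d.ker.card_mul_index, Subgroup.index_ker]
    refine Nat.mul_le_mul ?_ ?_
    · refine Nat.card_le_card_of_injective
        (fun v : d.ker => (⟨((v : f.ker) : Q), (v : f.ker).2, ?_⟩ :
          {v : Q // f v = 1 ∧ cj z v = v})) ?_
      · have h : ((v : f.ker) : Q) * cj z ((v : f.ker) : Q) = 1 := v.2
        rw [eq_inv_of_mul_eq_one_right h, inv_of_sq (A.sq _ (v : f.ker).2)]
      · intro v w e
        exact Subtype.ext (Subtype.ext (congrArg (fun q : {v : Q // f v = 1 ∧ cj z v = v} => (q : Q)) e))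
    · refine Nat.card_le_card_of_injective
        (fun v : d.range => (⟨(v : Q), ?_⟩ : {v : Q // f v = 1 ∧ cj z v = v})) ?_
      · obtain ⟨w, hw⟩ := v.2
        have hw' : (w : Q) * cj z w = v := hw
        rw [← hw', map_mul, MonoidHom.mem_ker.1 w.2, ker_cj w.2 z, one_mul, cj_mul, cj_cj,
          A.z_sq, cj_one]
        exact ⟨rfl, A.comm _ _ (ker_cj w.2 z) w.2⟩
      · intro v w e
        exact Subtype.ext (congrArg (fun q : {v : Q // f v = 1 ∧ cj z v = v} => (q : Q)) e :)
  · rw [cCard, ← Nat.card_prod]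
    refine Nat.card_le_card_of_injective
      (fun pq : {v : Q // f v = 1 ∧ cj z v = v} × {v : Q // f v = 1 ∧ cj z v = v} =>
        (⟨pq.1.1 * cj g pq.2.1, by
          rw [MonoidHom.mem_ker, map_mul, pq.1.2.1, ker_cj pq.2.2.1 g, one_mul]⟩ : f.ker)) ?_
    rintro ⟨⟨p, hp, hpz⟩, ⟨q, hq, hqz⟩⟩ ⟨⟨p', hp', hpz'⟩, ⟨q', hq', hqz'⟩⟩ e
    have e' : p * cj g q = p' * cj g q' := congrArg (fun v : f.ker => (v : Q)) e
    have hw : p'⁻¹ * p = cj g (q' * q⁻¹) := by
      rw [cj_mul, cj_inv, eq_mul_inv_iff_mul_eq, mul_assoc, e', inv_mul_cancel_left]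
    have hwz : cj z (p'⁻¹ * p) = p'⁻¹ * p := by rw [cj_mul, cj_inv, hpz, hpz']
    have hr : cj z (q' * q⁻¹) = q' * q⁻¹ := by rw [cj_mul, cj_inv, hqz, hqz']
    rw [hw, cj_cj, cj_eq_iff.1 A.z_g, ← cj_cj, hr] at hwz
    have hgg : cj (g * g) (q' * q⁻¹) = q' * q⁻¹ := by
      rw [← cj_cj, ← hwz, cj_cj_inv]
    have h1 : cj g (q' * q⁻¹) = q' * q⁻¹ := by
      have h4 : cj (g * g * (g * g)) (q' * q⁻¹) = q' * q⁻¹ := by rw [← cj_cj, hgg, hgg]
      rwa [show g * g * (g * g) = g * g ^ 3 by rw [pow_three]; group, A.g_cube, mul_one] at h4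
    have hq1 : q' * q⁻¹ = 1 := A.fix _ (by rw [map_mul, map_inv, hq, hq', inv_one, mul_one])
      (cj_eq_self.1 h1).symm
    have hqq : q = q' := (mul_inv_eq_one.1 hq1).symm
    subst hqq
    have hpp : p = p' := mul_right_cancel e'
    subst hpp
    rfl

theorem AltMod.card_mod_five [Finite Q] (A : AltMod f g z) : Nat.card f.ker % 5 = 1 := by
  letI := A.action
  haveI : Fact (Nat.Prime 5) := ⟨by norm_num⟩
  set Y := Subgroup.zpowers five
  have hY : IsPGroup 5 Y := IsPGroup.of_card (n := 1)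
    (by rw [Nat.card_zpowers, orderOf_eq_prime five_spec.1 five_spec.2, pow_one])
  have h := hY.card_modEq_card_fixedPoints f.ker
  have hfix : MulAction.fixedPoints Y f.ker = {1} := by
    ext v
    refine ⟨fun hv => ?_, ?_⟩
    · have h5 : cj (Function.surjInv A.surj five) (v : Q) = v :=
        congrArg (fun w : f.ker => (w : Q)) (hv ⟨five, Subgroup.mem_zpowers five⟩)
      exact Subtype.ext (A.five_fix' (Function.surjInv_eq A.surj five) v.2 h5)
    · rintro rfl y
      exact Subtype.ext (show cj _ (1 : Q) = 1 by simp [cj])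
  rw [hfix, Nat.card_eq_fintype_card (α := ({1} : Set f.ker)), Set.card_singleton] at h
  exact h

theorem AltMod.card_cases [Finite Q] (A : AltMod f g z) (h8 : cCard f z ≤ 8) :
    Nat.card f.ker = 1 ∨ (Nat.card f.ker = 16 ∧ cCard f z = 4) := by
  have h1 := A.card_ker
  have h5 := A.card_mod_five
  haveI : Fact (Nat.Prime 2) := ⟨Nat.prime_two⟩
  have h2 : IsPGroup 2 f.ker := fun v => ⟨1, Subtype.ext (by
    push_cast; rw [pow_two]; exact A.sq _ v.2)⟩
  obtain ⟨n, hn⟩ := IsPGroup.iff_card.1 h2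
  have h3 : ¬ 3 ∣ Nat.card f.ker := by
    rw [hn]
    exact fun h => by
      have := (Nat.prime_dvd_prime_iff_eq Nat.prime_three Nat.prime_two).1
        (Nat.prime_three.dvd_of_dvd_pow h)
      omega
  rw [h1] at h5 h3 ⊢
  generalize cCard f z = c at *
  interval_cases c <;> simp_all

theorem AltMod.isConj_of_ne_one [Finite Q] (A : AltMod f g z) (h16 : Nat.card f.ker = 16)
    {v w : Q} (hv : f v = 1) (hv1 : v ≠ 1) (hw : f w = 1) (hw1 : w ≠ 1) :
    ∃ p, cj p v = w := by
  letI := A.action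
  classical
  let v' : f.ker := ⟨v, hv⟩
  have horb : MulAction.orbit A5 v' ⊆ {1}ᶜ := by
    rintro _ ⟨x, rfl⟩ e
    exact hv1 (conj_eq_one_iff.1 (congrArg (fun q : f.ker => (q : Q)) (Set.mem_singleton_iff.1 e)))
  have hcompl : ({1}ᶜ : Set f.ker).ncard = 15 := by
    rw [Set.ncard_compl, h16, Set.ncard_singleton]
  have hS : IsPGroup 2 (MulAction.stabilizer A5 v') := fun x => ⟨1, Subtype.ext (by
    push_cast
    rw [pow_two, ← Function.surjInv_eq A.surj (x : A5)]
    exact A.stab_sq hv hv1 (congrArg (fun q : f.ker => (q : Q)) x.2))⟩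
  haveI : Fact (Nat.Prime 2) := ⟨Nat.prime_two⟩
  obtain ⟨n, hn⟩ := IsPGroup.iff_card.1 hS
  have hmul := (MulAction.stabilizer A5 v').card_mul_index
  rw [hn, MulAction.index_stabilizer, card_A5] at hmul
  have hle := Set.ncard_le_ncard horb (Set.toFinite _)
  rw [hcompl] at hle
  have hn2 : n ≤ 2 := by
    by_contra hlt
    have h8 : 2 ^ 3 ∣ 60 := dvd_trans (pow_dvd_pow 2 (by omega)) ⟨_, hmul.symm⟩
    norm_num at h8
  have h15 : (MulAction.orbit A5 v').ncard = 15 := by
    interval_cases n <;> omega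
  have heq := Set.eq_of_subset_of_ncard_le horb (by rw [hcompl, h15]) (Set.toFinite _)
  obtain ⟨x, hx⟩ : (⟨w, hw⟩ : f.ker) ∈ MulAction.orbit A5 v' := by
    rw [heq]
    exact fun e => hw1 (congrArg (fun q : f.ker => (q : Q)) (Set.mem_singleton_iff.1 e))
  exact ⟨_, congrArg (fun q : f.ker => (q : Q)) hx⟩

/-- A vector fixed by `r` is fixed by the preimage of the centralizer of `f r`. -/
theorem AltMod.fix_cent' [Finite Q] (A : AltMod f g z) (h16 : Nat.card f.ker = 16)
    {r q v : Q} (hr : f r * f r = 1) (hr1 : f r ≠ 1) (hv : f v = 1) (hz : cj r v = v)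
    (hq : f q * f r = f r * f q) : cj q v = v := by
  by_cases hv1 : v = 1
  · simp [hv1, cj]
  letI := A.action
  classical
  let v' : f.ker := ⟨v, hv⟩
  set S := MulAction.stabilizer A5 v' with hSdef
  have hmem : ∀ p : Q, f p ∈ S ↔ cj p v = v := by
    intro p
    constructor
    · intro h
      exact (A.conj_eq (Function.surjInv_eq A.surj (f p)).symm hv).trans
        (congrArg (fun q : f.ker => (q : Q)) (MulAction.mem_stabilizer_iff.1 h))
    · intro h
      refine MulAction.mem_stabilizer_iff.2 (Subtype.ext ?_)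
      exact (A.conj_eq (Function.surjInv_eq A.surj (f p)) hv).trans h
  have hsq : ∀ x ∈ S, x * x = 1 := by
    intro x hx
    obtain ⟨p, rfl⟩ := A.surj x
    exact A.stab_sq hv hv1 ((hmem p).1 hx)
  have hzS : f r ∈ S := (hmem r).2 hz
  have hsub : (S : Set A5) ⊆ {x | x * f r = f r * x} := by
    intro x hx
    show x * f r = f r * x
    have := inv_of_sq (hsq _ (S.mul_mem hx hzS))
    rw [mul_inv_rev, inv_of_sq (hsq x hx), inv_of_sq hr] at this
    exact this.symm
  have hidx : S.index ≤ 15 := by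
    rw [hSdef, MulAction.index_stabilizer]
    have horb : MulAction.orbit A5 v' ⊆ {1}ᶜ := by
      rintro _ ⟨x, rfl⟩ e
      exact hv1 (conj_eq_one_iff.1
        (congrArg (fun q : f.ker => (q : Q)) (Set.mem_singleton_iff.1 e)))
    refine (Set.ncard_le_ncard horb (Set.toFinite _)).trans_eq ?_
    rw [Set.ncard_compl, h16, Set.ncard_singleton]
  have hcard : 4 ≤ Nat.card S := by
    have := S.card_mul_index
    rw [card_A5] at this
    by_contra hlt
    nlinarith
  have heq : (S : Set A5) = {x | x * f r = f r * x} := by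
    refine Set.eq_of_subset_of_ncard_le hsub ?_ (Set.toFinite _)
    rw [← Nat.card_coe_set_eq, ← Nat.card_coe_set_eq]
    exact (card_commute hr hr1).trans_le hcard
  exact (hmem q).1 (heq.symm ▸ (hq : f q ∈ {x : A5 | x * f r = f r * x}) : f q ∈ (S : Set A5))

theorem AltMod.fix_cent [Finite Q] (A : AltMod f g z) (h16 : Nat.card f.ker = 16)
    {q v : Q} (hv : f v = 1) (hz : cj z v = v) (hq : f q * f z = f z * f q) : cj q v = v :=
  A.fix_cent' h16 A.fz_sq A.z_ne hv hz hq

end Cfsg.Agent.M11Local
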