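import Cfsg.Agent.EqLemmas
import Cfsg.Agent.Lib.Coprime.Generation

/-!
# `M₁₁` from its 3-local: the setting (S3717; owner helper21)

`Local M g g' a s`: `M = ⟨g⟩ × ⟨g'⟩` is a self-centralizing Sylow 3-subgroup of order 9, `⟨a, s⟩` is
semidihedral of order 16, `a ^ 4` inverts `M`, `s` fixes `g` and inverts `g'`, `a ^ 2` maps `g` to `g'`,
and the centralizer of `g` is `M⟨s⟩`.

* `Local.cent3` : an element commuting with an element of order 3 and an involution commuting with it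
* `Local.refl` : an involution commuting with an element of order 3 is conjugate to `s`
* `Local.cV` : `C(s) ∩ C(a ^ 4)` has no element of order 3
* `Local.eq_bot_of_invar` : an `M`-invariant subgroup of order prime to 3 is trivial
* `Local.eq_one_of_commute` : no non-identity element of order prime to 3 commutes with all its
  conjugates under `M`
-/

set_option autoImplicit false
set_option linter.unusedSectionVars false

namespace Cfsg.Agent.M11Local

open Subgroup

/-- Conjugation, written as an abbreviation. -/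
abbrev cj {G : Type*} [Group G] (c x : G) : G := c * x * c⁻¹

/-- The local setting. -/
structure Local {G : Type*} [Group G] (M : Subgroup G) (g g' a s : G) : Prop where
  card : Nat.card M = 9
  comm : ∀ x ∈ M, ∀ y ∈ M, x * y = y * x
  cube : ∀ x ∈ M, x ^ 3 = 1
  self : ∀ x : G, (∀ m ∈ M, x * m = m * x) → x ∈ M
  sylow : ∀ x : G, x ^ 3 = 1 → ∃ c : G, cj c x ∈ M
  g_mem : g ∈ M
  g_ne : g ≠ 1
  g'_mem : g' ∈ M
  g'_ne : g' ≠ 1
  span : ∀ m ∈ M, ∃ i j : ℕ, m = g ^ i * g' ^ j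
  trans : ∀ m ∈ M, m ≠ 1 → ∃ c : G, cj c g = m
  orderOf_a : orderOf a = 8
  orderOf_s : orderOf s = 2
  s_a : cj s a = a ^ 3
  s_g : cj s g = g
  s_g' : cj s g' = g'⁻¹
  a_g : cj (a ^ 2) g = g'
  a_M : ∀ m ∈ M, cj a m ∈ M
  z_inv : ∀ m ∈ M, cj (a ^ 4) m = m⁻¹
  cent : ∀ x : G, x * g = g * x → ∃ m ∈ M, x = m ∨ x = m * s

section Generic

variable {G : Type*} [Group G]

theorem cj_eq_iff {c x y : G} : cj c x = y ↔ c * x = y * c := mul_inv_eq_iff_eq_mul

theorem cj_eq_self {c x : G} : cj c x = x ↔ c * x = x * c := cj_eq_iff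

theorem cj_mul (c x y : G) : cj c (x * y) = cj c x * cj c y := conj_mul.symm

theorem cj_cj (c d x : G) : cj c (cj d x) = cj (c * d) x := by simp [cj, mul_assoc]

theorem cj_inv (c x : G) : cj c x⁻¹ = (cj c x)⁻¹ := by simp [cj, mul_assoc]

theorem cj_pow (c x : G) (n : ℕ) : cj c (x ^ n) = cj c x ^ n := conj_pow.symm

theorem cj_inv_cj (c x : G) : cj c⁻¹ (cj c x) = x := by simp [cj, mul_assoc]

theorem cj_cj_inv (c x : G) : cj c (cj c⁻¹ x) = x := by simp [cj, mul_assoc]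

theorem cj_one (x : G) : cj 1 x = x := by simp [cj]

theorem cj_commute {c x y : G} (h : x * y = y * x) : cj c x * cj c y = cj c y * cj c x := by
  rw [← cj_mul, ← cj_mul, h]

theorem isConj_cj (c x : G) : IsConj x (cj c x) := isConj_iff.2 ⟨c, rfl⟩

theorem orderOf_cj (c x : G) : orderOf (cj c x) = orderOf x :=
  orderOf_injective (MulAut.conj c).toMonoidHom (MulAut.conj c).injective x

theorem sq_of_orderOf {x : G} (h : orderOf x = 2) : x * x = 1 := by
  rw [← pow_two, ← h, pow_orderOf_eq_one]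

theorem inv_of_sq {x : G} (h : x * x = 1) : x⁻¹ = x := inv_eq_of_mul_eq_one_right h

theorem orderOf_of_sq {x : G} (h : x * x = 1) (h1 : x ≠ 1) : orderOf x = 2 :=
  orderOf_eq_prime (by rw [pow_two, h]) h1

theorem pow_three_cases {x : G} (h : x ^ 3 = 1) (n : ℕ) : x ^ n = 1 ∨ x ^ n = x ∨ x ^ n = x⁻¹ := by
  rw [pow_eq_pow_mod n h]
  have : n % 3 < 3 := Nat.mod_lt _ (by norm_num)
  interval_cases hn : n % 3
  · simp
  · simp
  · refine Or.inr (Or.inr (eq_inv_of_mul_eq_one_left ?_))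
    rw [← pow_succ]; exact h

theorem eq_one_of_cube_sq {x : G} (h3 : x ^ 3 = 1) (h2 : x * x = 1) : x = 1 := by
  rwa [pow_succ, pow_two, h2, one_mul] at h3

end Generic

variable {G : Type*} [Group G] {M : Subgroup G} {g g' a s : G}

theorem Local.s_sq (L : Local M g g' a s) : s * s = 1 := sq_of_orderOf L.orderOf_s

theorem Local.s_ne (L : Local M g g' a s) : s ≠ 1 := fun h => by
  have := L.orderOf_s; rw [h, orderOf_one] at this; omega

theorem Local.s_inv (L : Local M g g' a s) : s⁻¹ = s := inv_of_sq L.s_sq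

theorem Local.a_pow (L : Local M g g' a s) : a ^ 8 = 1 := L.orderOf_a ▸ pow_orderOf_eq_one a

theorem Local.z_sq (L : Local M g g' a s) : a ^ 4 * a ^ 4 = 1 := by rw [← pow_add]; exact L.a_pow

theorem Local.z_ne (L : Local M g g' a s) : a ^ 4 ≠ 1 := fun h => by
  have := orderOf_dvd_of_pow_eq_one h; rw [L.orderOf_a] at this; norm_num at this

theorem Local.z_orderOf (L : Local M g g' a s) : orderOf (a ^ 4) = 2 :=
  orderOf_of_sq L.z_sq L.z_ne

theorem Local.s_z (L : Local M g g' a s) : s * a ^ 4 = a ^ 4 * s := by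
  rw [← cj_eq_self, cj_pow, L.s_a, ← pow_mul, show 3 * 4 = 8 + 4 from rfl, pow_add, L.a_pow, one_mul]

theorem Local.z_inv_self (L : Local M g g' a s) : (a ^ 4)⁻¹ = a ^ 4 := inv_of_sq L.z_sq

/-- `a ^ 2` maps `s` to `a ^ 4 * s`. -/
theorem Local.a_s (L : Local M g g' a s) : cj (a ^ 2) s = a ^ 4 * s := by
  have h : s * a ^ 2 = a ^ 6 * s := by
    rw [← cj_eq_iff, cj_pow, L.s_a, ← pow_mul]
  rw [cj_eq_iff, mul_assoc, h, ← mul_assoc, ← pow_add,
    show 4 + 6 = 8 + 2 from rfl, pow_add, L.a_pow, one_mul]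

theorem Local.a_z (_L : Local M g g' a s) : cj (a ^ 2) (a ^ 4) = a ^ 4 := by
  rw [cj_eq_self, ← pow_add, ← pow_add]

theorem Local.sz_ne (L : Local M g g' a s) : s ≠ a ^ 4 := fun h => by
  have h1 := L.z_inv g L.g_mem
  rw [← h, L.s_g] at h1
  exact L.g_ne (eq_one_of_cube_sq (L.cube g L.g_mem) (by nth_rewrite 1 [h1]; exact inv_mul_cancel g))

theorem Local.z_g (L : Local M g g' a s) : cj (a ^ 4) g = g⁻¹ := L.z_inv g L.g_mem

theorem Local.z_g' (L : Local M g g' a s) : cj (a ^ 4) g' = g'⁻¹ := L.z_inv g' L.g'_mem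

theorem Local.g_cube (L : Local M g g' a s) : g ^ 3 = 1 := L.cube g L.g_mem

theorem Local.g'_cube (L : Local M g g' a s) : g' ^ 3 = 1 := L.cube g' L.g'_mem

theorem Local.gg' (L : Local M g g' a s) : g * g' = g' * g := L.comm g L.g_mem g' L.g'_mem

theorem Local.sg (L : Local M g g' a s) : s * g = g * s := cj_eq_self.1 L.s_g

/-- Elements of `M` commuting with `s` are powers of `g`. -/
theorem Local.mem_fix (L : Local M g g' a s) {m : G} (hm : m ∈ M) (h : m * s = s * m) :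
    ∃ i : ℕ, m = g ^ i := by
  obtain ⟨i, j, rfl⟩ := L.span m hm
  refine ⟨i, mul_eq_left.2 ?_⟩
  have h1 : cj s (g ^ i * g' ^ j) = g ^ i * g' ^ j := cj_eq_self.2 h.symm
  rw [cj_mul, cj_pow, cj_pow, L.s_g, L.s_g', mul_right_inj, inv_pow] at h1
  exact eq_one_of_cube_sq (L.cube _ (M.pow_mem L.g'_mem j))
    (by nth_rewrite 1 [← h1]; exact inv_mul_cancel _)

/-- The centralizer of an element of order 3 and an involution commuting with it. -/
theorem Local.cent3 (L : Local M g g' a s) {k x q : G} (hk : k ^ 3 = 1) (hk1 : k ≠ 1)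
    (hx : x * x = 1) (hx1 : x ≠ 1) (hxk : x * k = k * x) (hqk : q * k = k * q)
    (hqx : q * x = x * q) : ∃ i : ℕ, q = k ^ i ∨ q = k ^ i * x := by
  obtain ⟨c, hc⟩ := L.sylow k hk
  have hc1 : cj c k ≠ 1 := fun e => hk1 (conj_eq_one_iff.1 e)
  obtain ⟨d, hd⟩ := L.trans _ hc hc1
  set e := d⁻¹ * c with he
  have hek : cj e k = g := by rw [he, ← cj_cj, ← hd, cj_inv_cj]
  obtain ⟨mx, hmx, hx'⟩ := L.cent (cj e x) (by rw [← hek]; exact cj_commute hxk)
  obtain ⟨mq, hmq, hq'⟩ := L.cent (cj e q) (by rw [← hek]; exact cj_commute hqk)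
  have hxx : cj e x * cj e x = 1 := by rw [← cj_mul, hx]; simp [cj]
  have hxne : cj e x ≠ 1 := fun h => hx1 (conj_eq_one_iff.1 h)
  rcases hx' with hx' | hx'
  · exact absurd (eq_one_of_cube_sq (by rw [hx']; exact L.cube mx hmx) hxx) hxne
  -- move the involution to `s`
  have hms : s * mx = mx⁻¹ * s := by
    rw [hx'] at hxx
    have : mx * s * (mx * s) * s = s := by rw [hxx, one_mul]
    calc s * mx = mx⁻¹ * (mx * s * (mx * s) * s) := by
          simp only [mul_assoc, L.s_sq, mul_one, inv_mul_cancel_left]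
      _ = mx⁻¹ * s := by rw [this]
  have hmg : mx * g = g * mx := L.comm mx hmx g L.g_mem
  have hmov : cj mx (mx * s) = s := by
    rw [cj_eq_iff, ← mul_assoc, hms, ← pow_two, ← mul_right_inj mx]
    simp only [← mul_assoc, mul_inv_cancel, one_mul]
    rw [← pow_succ', L.cube mx hmx, one_mul]
  set f := mx * e with hf
  have hfk : cj f k = g := by rw [hf, ← cj_cj, hek, cj_eq_self, hmg]
  have hfx : cj f x = s := by rw [hf, ← cj_cj, hx', hmov]
  obtain ⟨n, hn, hq⟩ := L.cent (cj f q) (by rw [← hfk]; exact cj_commute hqk)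
  have hqs : cj f q * s = s * cj f q := by rw [← hfx]; exact cj_commute hqx
  have hns : n * s = s * n := by
    rcases hq with hq | hq
    · rwa [hq] at hqs
    · rw [hq, mul_assoc, L.s_sq, mul_one] at hqs
      nth_rewrite 2 [hqs]
      rw [← mul_assoc, ← mul_assoc, L.s_sq, one_mul]
  obtain ⟨i, rfl⟩ := L.mem_fix hn hns
  refine ⟨i, hq.imp (fun hq => ?_) (fun hq => ?_)⟩
  · rw [← cj_inv_cj f q, hq, ← cj_inv_cj f k, hfk, cj_pow]
  · rw [← cj_inv_cj f q, hq, cj_mul, cj_pow, ← hfx, ← hfk, cj_inv_cj, cj_inv_cj]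

/-- An involution commuting with an element of order 3 is conjugate to `s`. -/
theorem Local.refl (L : Local M g g' a s) {k t : G} (hk : k ^ 3 = 1) (hk1 : k ≠ 1)
    (ht : t * t = 1) (ht1 : t ≠ 1) (htk : t * k = k * t) : IsConj s t := by
  obtain ⟨c, hc⟩ := L.sylow k hk
  have hc1 : cj c k ≠ 1 := fun e => hk1 (conj_eq_one_iff.1 e)
  obtain ⟨d, hd⟩ := L.trans _ hc hc1
  set e := d⁻¹ * c with he
  have hek : cj e k = g := by rw [he, ← cj_cj, ← hd, cj_inv_cj]
  obtain ⟨m, hm, h⟩ := L.cent (cj e t) (by rw [← hek]; exact cj_commute htk)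
  have htt : cj e t * cj e t = 1 := by rw [← cj_mul, ht]; simp [cj]
  have htne : cj e t ≠ 1 := fun h => ht1 (conj_eq_one_iff.1 h)
  rcases h with h | h
  · exact absurd (eq_one_of_cube_sq (by rw [h]; exact L.cube m hm) htt) htne
  refine IsConj.trans ?_ (isConj_cj e t).symm
  rw [h]
  refine isConj_iff.2 ⟨m ^ 2, ?_⟩
  rw [h] at htt
  have hms : m * s * m = s := by
    calc m * s * m = m * s * (m * s) * s := by simp only [mul_assoc, L.s_sq, mul_one]
      _ = s := by rw [htt, one_mul]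
  have hsm : s * m⁻¹ = m * s := by rw [mul_inv_eq_iff_eq_mul]; exact hms.symm
  calc m ^ 2 * s * (m ^ 2)⁻¹ = m * m * (s * m⁻¹) * m⁻¹ := by rw [pow_two]; group
    _ = m * m * m * (m * s) := by
      rw [hsm, mul_assoc (m * m) (m * s), mul_assoc m s, hsm]; simp only [mul_assoc]
    _ = m * s := by rw [← pow_three', L.cube m hm, one_mul]

/-- `C(s) ∩ C(a ^ 4)` has no element of order 3. -/
theorem Local.cV (L : Local M g g' a s) {k : G} (hk : k ^ 3 = 1) (hs : k * s = s * k)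
    (hz : k * a ^ 4 = a ^ 4 * k) : k = 1 := by
  by_contra hk1
  obtain ⟨i, hi⟩ := L.cent3 hk hk1 L.s_sq L.s_ne hs.symm hz.symm L.s_z.symm
  rcases pow_three_cases hk i with h | h | h <;> rw [h] at hi
  · rcases hi with hi | hi
    · exact L.z_ne hi
    · exact L.sz_ne (by rw [hi, one_mul])
  all_goals
    have h2 := L.z_sq
    rcases hi with hi | hi <;> rw [hi] at h2
  · exact hk1 (eq_one_of_cube_sq hk h2)
  · refine hk1 (eq_one_of_cube_sq hk ?_)
    calc k * k = k * (s * s) * k := by rw [L.s_sq, mul_one]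
      _ = k * s * (s * k) := by simp only [mul_assoc]
      _ = k * s * (k * s) := by rw [hs]
      _ = 1 := h2
  · exact hk1 (inv_eq_one.1 (eq_one_of_cube_sq (by rw [inv_pow, hk, inv_one]) h2))
  · refine hk1 (inv_eq_one.1 (eq_one_of_cube_sq (by rw [inv_pow, hk, inv_one]) ?_))
    have hs' : k⁻¹ * s = s * k⁻¹ := (Commute.inv_left (show Commute k s from hs)).eq
    calc k⁻¹ * k⁻¹ = k⁻¹ * (s * s) * k⁻¹ := by rw [L.s_sq, mul_one]
      _ = k⁻¹ * s * (s * k⁻¹) := by simp only [mul_assoc]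
      _ = k⁻¹ * s * (k⁻¹ * s) := by rw [hs']
      _ = 1 := h2

/-- An `M`-invariant subgroup of order prime to 3 is trivial. -/
theorem Local.eq_bot_of_invar [Finite G] (L : Local M g g' a s) {R : Subgroup G}
    (hM : M ≤ normalizer (R : Set G)) (h3 : ¬ 3 ∣ Nat.card R) : R = ⊥ := by
  haveI : IsMulCommutative M := ⟨⟨fun x y => Subtype.ext (L.comm x x.2 y y.2)⟩⟩
  have h9 := L.card
  have hcyc : ¬ IsCyclic M := fun hc => by
    obtain ⟨x, hx⟩ := hc.exists_generator
    have h1 : orderOf x = 9 := by rw [orderOf_eq_card_of_forall_mem_zpowers hx, h9]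
    have h2 := orderOf_dvd_of_pow_eq_one (x := x) (n := 3) (Subtype.ext (L.cube x x.2))
    rw [h1] at h2; norm_num at h2
  have hcop : (Nat.card M).Coprime (Nat.card R) := by
    rw [h9, show 9 = 3 ^ 2 from rfl]
    exact Nat.Coprime.pow_left 2 ((Nat.Prime.coprime_iff_not_dvd Nat.prime_three).2 h3)
  -- a non-identity element of `R` fixed by `m` is the only one
  have huniq : ∀ m ∈ M, m ≠ 1 → ∀ q₁ ∈ R, ∀ q₂ ∈ R, q₁ * m = m * q₁ → q₂ * m = m * q₂ →
      q₁ ≠ 1 → q₂ ≠ 1 → q₁ = q₂ := by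
    intro m hm hm1 q₁ hq₁ q₂ hq₂ c₁ c₂ n₁ n₂
    obtain ⟨c, hc⟩ := L.trans m hm hm1
    have hcm : cj c⁻¹ m = g := by rw [← hc, cj_inv_cj]
    have h3' : ∀ q ∈ R, q ^ 3 = 1 → q = 1 := fun q hq h => by
      by_contra hq1
      have := Subgroup.orderOf_dvd_natCard R hq
      rw [orderOf_eq_prime h hq1] at this
      exact h3 this
    have key : ∀ q ∈ R, q * m = m * q → q ≠ 1 → ∃ n ∈ M, cj c⁻¹ q = n * s := by
      intro q hq hqm hq1
      obtain ⟨n, hn, h | h⟩ := L.cent (cj c⁻¹ q) (by rw [← hcm]; exact cj_commute hqm)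
      · refine absurd (h3' q hq ?_) hq1
        rw [← cj_cj_inv c q, h, ← cj_pow, L.cube n hn]; simp [cj]
      · exact ⟨n, hn, h⟩
    obtain ⟨b₁, hb₁, e₁⟩ := key q₁ hq₁ c₁ n₁
    obtain ⟨b₂, hb₂, e₂⟩ := key q₂ hq₂ c₂ n₂
    have h := h3' (q₁ * q₂⁻¹) (R.mul_mem hq₁ (R.inv_mem hq₂)) (by
      rw [← cj_cj_inv c (q₁ * q₂⁻¹), cj_mul c⁻¹, cj_inv, e₁, e₂, ← cj_pow,
        show b₁ * s * (b₂ * s)⁻¹ = b₁ * b₂⁻¹ by group,
        L.cube _ (M.mul_mem hb₁ (M.inv_mem hb₂))]
      simp [cj])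
    exact mul_inv_eq_one.1 h
  rw [eq_bot_iff]
  refine Coprime.le_of_noncyclic hcyc hM hcop fun m hm hm1 q hq => ?_
  rw [Subgroup.mem_bot]
  obtain ⟨hqR, hqc⟩ := hq
  have hqm : q * m = m * q := mem_centralizer_singleton_iff.1 hqc
  by_contra hq1
  have hqM : q ∈ M := L.self q fun n hn => by
    have h1 : cj n q ∈ R := (Subgroup.mem_normalizer_iff.1 (hM hn) q).1 hqR
    have h2 : cj n q * m = m * cj n q := by
      have := cj_commute (c := n) hqm
      rwa [show cj n m = m from cj_eq_self.2 (L.comm n hn m hm)] at this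
    exact (cj_eq_self.1 (huniq m hm hm1 _ h1 q hqR h2 hqm
      (fun e => hq1 (conj_eq_one_iff.1 e)) hq1)).symm
  have := Subgroup.orderOf_dvd_natCard R hqR
  rw [orderOf_eq_prime (L.cube q hqM) hq1] at this
  exact h3 this

/-- No non-identity element of order prime to 3 commutes with all its conjugates under `M`. -/
theorem Local.eq_one_of_commute [Finite G] (L : Local M g g' a s) {x : G} {n : ℕ} (hn : ¬ 3 ∣ n)
    (hx : x ^ n = 1) (hc : ∀ m ∈ M, x * cj m x = cj m x * x) : x = 1 := by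
  set S : Set G := (fun m => cj m x) '' (M : Set G) with hS
  have hcomm : ∀ p ∈ S, ∀ q ∈ S, p * q = q * p := by
    rintro _ ⟨b, hb, rfl⟩ _ ⟨c, hc', rfl⟩
    have h := cj_commute (c := b) (hc (b⁻¹ * c) (M.mul_mem (M.inv_mem hb) hc'))
    rwa [cj_cj, show b * (b⁻¹ * c) = c by group] at h
  set R := closure S with hR
  haveI := Subgroup.isMulCommutative_closure hcomm
  have hpow : ∀ q ∈ R, q ^ n = 1 := by
    intro q hq
    refine Subgroup.closure_induction (p := fun q _ => q ^ n = 1) ?_ (one_pow n) ?_ ?_ hq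
    · rintro _ ⟨b, -, rfl⟩
      show cj b x ^ n = 1
      rw [← cj_pow, hx]; simp [cj]
    · intro p q hp hq hp' hq'
      rw [Commute.mul_pow (congrArg Subtype.val
        (mul_comm' (⟨p, hp⟩ : R) ⟨q, hq⟩) : p * q = q * p), hp', hq', one_mul]
    · intro p _ hp
      rw [inv_pow, hp, inv_one]
  have h3 : ¬ 3 ∣ Nat.card R := fun h => by
    haveI := Fact.mk Nat.prime_three
    obtain ⟨q, hq⟩ := exists_prime_orderOf_dvd_card' (G := R) 3 h
    rw [← orderOf_coe] at hq
    exact hn (hq ▸ orderOf_dvd_of_pow_eq_one (hpow q q.2))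
  have hinv : ∀ b ∈ M, R.map (MulAut.conj b).toMonoidHom ≤ R := by
    intro b hb
    rw [hR, MonoidHom.map_closure]
    refine Subgroup.closure_mono ?_
    rintro _ ⟨_, ⟨c, hc', rfl⟩, rfl⟩
    exact ⟨b * c, M.mul_mem hb hc', (cj_cj b c x).symm⟩
  have hM : M ≤ normalizer (R : Set G) := fun b hb => Subgroup.mem_normalizer_iff.2 fun q =>
    ⟨fun hq => hinv b hb ⟨q, hq, rfl⟩, fun hq => by
      have := hinv b⁻¹ (M.inv_mem hb) ⟨_, hq, rfl⟩
      simpa [MulAut.conj_apply, mul_assoc] using this⟩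
  have hbot := L.eq_bot_of_invar hM h3
  exact Subgroup.mem_bot.1 (hbot ▸ subset_closure ⟨1, M.one_mem, cj_one x⟩)

end Cfsg.Agent.M11Local
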