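import Cfsg.Agent.EqLemmas
import Cfsg.Agent.Lib.SqPlusOne.Small

/-!
# Parity of an involution on the cosets of a subgroup (S3717; owner: helper31)

* `card_fixed_mul` : `fix(s) * |K| = |C(s)| * |s^G ∩ K|`
* `index_modEq_fixed` : in a simple group `|G : K| ≡ fix(s) [MOD 4]`
-/

set_option autoImplicit false

namespace Cfsg.Agent.M11Local

open Subgroup

variable {G : Type*} [Group G] [Finite G]

/-- The conjugates of `s` lying in `K`. -/
def classIn (s : G) (K : Subgroup G) : Set G := {x | IsConj s x ∧ x ∈ K}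

/-- The number of fixed cosets. -/
noncomputable def fixCount (s : G) (K : Subgroup G) : ℕ := Nat.card {c : G ⧸ K // s • c = c}

theorem card_fixed_mul (s : G) (K : Subgroup G) :
    fixCount s K * Nat.card K =
      Nat.card (centralizer ({s} : Set G)) * Nat.card (classIn s K) := by
  classical
  -- both sides count the set `{g | g⁻¹ * s * g ∈ K}`
  let A := {g : G // g⁻¹ * s * g ∈ K}
  have hfix : ∀ g : G, (s • (g : G ⧸ K) = (g : G ⧸ K)) ↔ g⁻¹ * s * g ∈ K := by
    intro g
    rw [MulAction.Quotient.smul_coe, smul_eq_mul, QuotientGroup.eq]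
    rw [show (s * g)⁻¹ * g = (g⁻¹ * s * g)⁻¹ by group, inv_mem_iff]
  have h1 : Nat.card A = fixCount s K * Nat.card K := by
    rw [fixCount, mul_comm]
    refine Eq.trans ?_ (QuotientGroup.card_preimage_mk K {c : G ⧸ K | s • c = c})
    refine Nat.card_congr (Equiv.subtypeEquivRight fun g => ?_)
    exact (hfix g).symm
  haveI : Fintype (classIn s K) := Fintype.ofFinite _
  let f : A → classIn s K := fun g =>
    ⟨g.1⁻¹ * s * g.1, isConj_iff.2 ⟨g.1⁻¹, by rw [inv_inv]⟩, g.2⟩
  have h2 : Nat.card A =
      Nat.card (centralizer ({s} : Set G)) * Nat.card (classIn s K) := by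
    rw [Nat.card_congr (Equiv.sigmaFiberEquiv f).symm, Nat.card_sigma]
    have hfib : ∀ x : classIn s K,
        Nat.card {g : A // f g = x} = Nat.card (centralizer ({s} : Set G)) := by
      intro x
      obtain ⟨c, hc⟩ := isConj_iff.1 x.2.1
      have hx : (c⁻¹)⁻¹ * s * c⁻¹ = (x : G) := by rw [inv_inv]; exact hc
      refine Nat.card_congr
        { toFun := fun g => ⟨g.1.1 * c, ?_⟩
          invFun := fun y => ⟨⟨y.1 * c⁻¹, ?_⟩, ?_⟩
          left_inv := fun g => by ext; simp
          right_inv := fun y => by ext; simp }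
      · have h := congrArg Subtype.val g.2
        change g.1.1⁻¹ * s * g.1.1 = (x : G) at h
        rw [mem_centralizer_singleton_iff]
        rw [← hx, inv_inv] at h
        calc g.1.1 * c * s = g.1.1 * (c * s * c⁻¹) * c := by group
          _ = g.1.1 * (g.1.1⁻¹ * s * g.1.1) * c := by rw [h]
          _ = s * (g.1.1 * c) := by group
      · have hy := mem_centralizer_singleton_iff.1 y.2
        have he : (y.1 * c⁻¹)⁻¹ * s * (y.1 * c⁻¹) = (x : G) := by
          rw [show (y.1 * c⁻¹)⁻¹ * s * (y.1 * c⁻¹) = c * y.1⁻¹ * (s * y.1) * c⁻¹ by group, ← hy, ← hc]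
          group
        show (y.1 * c⁻¹)⁻¹ * s * (y.1 * c⁻¹) ∈ K
        rw [he]
        exact x.2.2
      · have hy := mem_centralizer_singleton_iff.1 y.2
        refine Subtype.ext ?_
        show (y.1 * c⁻¹)⁻¹ * s * (y.1 * c⁻¹) = (x : G)
        rw [show (y.1 * c⁻¹)⁻¹ * s * (y.1 * c⁻¹) = c * y.1⁻¹ * (s * y.1) * c⁻¹ by group, ← hy, ← hc]
        group
    rw [Finset.sum_congr rfl fun x _ => hfib x, Finset.sum_const, Finset.card_univ,
      ← Nat.card_eq_fintype_card, smul_eq_mul, mul_comm]
  rw [← h1, h2]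

/-- In a simple group, an involution fixes a number of cosets congruent to the index modulo `4`. -/
theorem index_modEq_fixed [IsSimpleGroup G] (hna : ¬ IsMulCommutative G) {s : G}
    (hs : orderOf s = 2) (K : Subgroup G) : K.index ≡ fixCount s K [MOD 4] := by
  classical
  haveI : Fintype (G ⧸ K) := Fintype.ofFinite _
  -- trivial action
  by_cases hK : K = ⊤
  · subst hK
    haveI : Subsingleton (G ⧸ (⊤ : Subgroup G)) := QuotientGroup.subsingleton_quotient_top
    rw [index_top, fixCount, Nat.card_congr (Equiv.subtypeUnivEquiv fun c => Subsingleton.elim _ c),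
      ← index_eq_card, index_top]
  haveI : FaithfulSMul G (G ⧸ K) := by
    constructor
    intro a b h
    have hk : (MulAction.toPermHom G (G ⧸ K)).ker = ⊥ := by
      rcases IsSimpleGroup.eq_bot_or_eq_top_of_normal _
        (MonoidHom.normal_ker (MulAction.toPermHom G (G ⧸ K))) with h0 | h0
      · exact h0
      · exfalso
        refine hK ((eq_top_iff' K).2 fun g => ?_)
        have hg : MulAction.toPermHom G (G ⧸ K) g = 1 := MonoidHom.mem_ker.1 (h0 ▸ mem_top g)
        have := Equiv.ext_iff.1 hg ((1 : G) : G ⧸ K)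
        change g • ((1 : G) : G ⧸ K) = ((1 : G) : G ⧸ K) at this
        rw [MulAction.Quotient.smul_coe, smul_eq_mul, QuotientGroup.eq] at this
        simpa using this
    refine (MonoidHom.ker_eq_bot_iff _).1 hk (Equiv.ext fun x => ?_)
    exact h x
  have hsgn : Equiv.Perm.sign (MulAction.toPermHom G (G ⧸ K) s) = 1 := by
    let ε : G →* ℤˣ := Equiv.Perm.sign.comp (MulAction.toPermHom G (G ⧸ K))
    rcases IsSimpleGroup.eq_bot_or_eq_top_of_normal _ (MonoidHom.normal_ker ε) with h0 | h0
    · exfalso
      refine hna ⟨⟨fun a b => ?_⟩⟩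
      exact (MonoidHom.ker_eq_bot_iff ε).1 h0 (by rw [map_mul, map_mul, mul_comm])
    · have hm : s ∈ ε.ker := by rw [h0]; exact mem_top s
      exact MonoidHom.mem_ker.1 hm
  have h := SqPlusOne.sign_of_fixed (Ω := G ⧸ K) hs
  rw [hsgn] at h
  have hev := SqPlusOne.even_fixed (Ω := G ⧸ K) hs
  have heq : fixCount s K = (MulAction.fixedBy (G ⧸ K) s).ncard := by
    rw [fixCount, ← Nat.card_coe_set_eq]
    rfl
  have hle : (MulAction.fixedBy (G ⧸ K) s).ncard ≤ Fintype.card (G ⧸ K) := by
    rw [← Nat.card_eq_fintype_card, ← Set.ncard_univ]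
    exact Set.ncard_le_ncard (Set.subset_univ _) (Set.toFinite _)
  rw [index_eq_card, Nat.card_eq_fintype_card, heq]
  obtain ⟨k, hk⟩ := hev
  have hk2 : Even k := by
    rw [show (Fintype.card (G ⧸ K) - (MulAction.fixedBy (G ⧸ K) s).ncard) / 2 = k by omega] at h
    by_contra hodd
    rw [Nat.not_even_iff_odd] at hodd
    rw [hodd.neg_one_pow] at h
    exact absurd h (by decide)
  obtain ⟨m, rfl⟩ := hk2
  refine (Nat.modEq_iff_dvd' hle).2 ⟨m, by omega⟩ |>.symm

/-- Comparison of two coset actions of the same involution: equal `2`-parts of the orders force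
congruent fixed point numbers. -/
theorem fixed_parity_compare [IsSimpleGroup G] (hna : ¬ IsMulCommutative G) {s : G}
    (hs : orderOf s = 2) (K L : Subgroup G) {k l : ℕ} (hk : Odd k)
    (hKL : k * Nat.card K = l * Nat.card L) (h : fixCount s K ≡ 0 [MOD 4]) :
    fixCount s L ≡ 0 [MOD 4] := by
  have h1 := index_modEq_fixed hna hs K
  have h2 := index_modEq_fixed hna hs L
  have hK : 4 ∣ K.index := (Nat.modEq_zero_iff_dvd).1 (h1.trans h)
  have he : l * K.index = k * L.index := by
    have a := K.card_mul_index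
    have b := L.card_mul_index
    have hpos : 0 < Nat.card K := Nat.card_pos
    apply Nat.eq_of_mul_eq_mul_left hpos
    calc Nat.card K * (l * K.index) = l * (Nat.card K * K.index) := by ring
      _ = l * (Nat.card L * L.index) := by rw [a, b]
      _ = (l * Nat.card L) * L.index := by ring
      _ = Nat.card K * (k * L.index) := by rw [← hKL]; ring
  have h4 : 4 ∣ k * L.index := he ▸ hK.mul_left l
  have hco : Nat.Coprime 4 k := by
    have : Nat.Coprime 2 k := Nat.coprime_two_left.2 hk
    simpa using this.pow_left 2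
  exact h2.symm.trans (Nat.modEq_zero_iff_dvd.2 (hco.dvd_of_dvd_mul_left h4))

end Cfsg.Agent.M11Local
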