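import Cfsg.Agent.Lib.M11Local.Basic
import Cfsg.Agent.Lib.M11Local.Parity

/-!
# The semidihedral group `⟨a, s⟩` (S3717; owner: helper31)

* `Local.tGroup` : the subgroup `⟨a, s⟩`, of order 16
* `Local.card_classIn_tGroup` : it contains four conjugates of `s` if `a ^ 4` is not one
-/

set_option autoImplicit false

namespace Cfsg.Agent.M11Local

open Subgroup

variable {G : Type*} [Group G] {M : Subgroup G} {g g' a s : G}

theorem Local.s_a_pow (L : Local M g g' a s) (i : ℕ) : s * a ^ i = a ^ (3 * i) * s := by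
  rw [← cj_eq_iff, cj_pow, L.s_a, ← pow_mul]

theorem Local.a_pow_eq (L : Local M g g' a s) {i j : ℕ} : a ^ i = a ^ j ↔ i % 8 = j % 8 := by
  rw [pow_inj_mod, L.orderOf_a]

theorem Local.a_pow_mod (L : Local M g g' a s) (i : ℕ) : a ^ (i % 8) = a ^ i :=
  L.a_pow_eq.2 (Nat.mod_mod i 8)

/-- `⟨a, s⟩` as an explicit subgroup. -/
def Local.tGroup (L : Local M g g' a s) : Subgroup G where
  carrier := {x | ∃ i : ℕ, x = a ^ i ∨ x = a ^ i * s}
  one_mem' := ⟨0, Or.inl (pow_zero a).symm⟩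
  mul_mem' := by
    rintro _ _ ⟨i, rfl | rfl⟩ ⟨j, rfl | rfl⟩
    · exact ⟨i + j, Or.inl (pow_add a i j).symm⟩
    · exact ⟨i + j, Or.inr (by rw [pow_add, mul_assoc])⟩
    · exact ⟨i + 3 * j, Or.inr (by rw [mul_assoc, L.s_a_pow, ← mul_assoc, ← pow_add])⟩
    · exact ⟨i + 3 * j, Or.inl (by
        rw [mul_assoc, ← mul_assoc s, L.s_a_pow, mul_assoc, L.s_sq, mul_one, ← pow_add])⟩
  inv_mem' := by
    rintro _ ⟨i, rfl | rfl⟩
    · refine ⟨7 * i, Or.inl (inv_eq_of_mul_eq_one_right ?_)⟩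
      rw [← pow_add, show i + 7 * i = 8 * i by ring, pow_mul, L.a_pow, one_pow]
    · refine ⟨5 * i, Or.inr (inv_eq_of_mul_eq_one_right ?_)⟩
      rw [mul_assoc, ← mul_assoc s, L.s_a_pow, mul_assoc, L.s_sq, mul_one, ← pow_add,
        show i + 3 * (5 * i) = 8 * (2 * i) by ring, pow_mul, L.a_pow, one_pow]

theorem Local.mem_tGroup (L : Local M g g' a s) {x : G} :
    x ∈ L.tGroup ↔ ∃ i : ℕ, x = a ^ i ∨ x = a ^ i * s := Iff.rfl

theorem Local.a_mem_tGroup (L : Local M g g' a s) : a ∈ L.tGroup := ⟨1, Or.inl (pow_one a).symm⟩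

theorem Local.s_mem_tGroup (L : Local M g g' a s) : s ∈ L.tGroup :=
  ⟨0, Or.inr (by rw [pow_zero, one_mul])⟩

theorem Local.pow_ne_mul_s (L : Local M g g' a s) (i j : ℕ) : a ^ i ≠ a ^ j * s := fun h => by
  have hs : s = (a ^ j)⁻¹ * a ^ i := by rw [h, inv_mul_cancel_left]
  have hc : s * a = a * s := by
    rw [hs]
    exact (((Commute.pow_self a j).inv_left).mul_left (Commute.pow_self a i)).eq
  have h3 : a ^ 3 = a := by rw [← L.s_a]; exact cj_eq_self.2 hc
  have := (L.a_pow_eq (i := 3) (j := 1)).1 (by rw [h3, pow_one])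
  omega

theorem Local.card_tGroup (L : Local M g g' a s) : Nat.card L.tGroup = 16 := by
  let f : Fin 8 ⊕ Fin 8 → L.tGroup := Sum.elim (fun i => ⟨a ^ (i : ℕ), i, Or.inl rfl⟩)
    (fun i => ⟨a ^ (i : ℕ) * s, i, Or.inr rfl⟩)
  have hf : Function.Bijective f := by
    refine ⟨?_, ?_⟩
    · rintro (i | i) (j | j) h <;> have h' := congrArg Subtype.val h
      · exact congrArg Sum.inl (Fin.ext (by
          have := L.a_pow_eq.1 h'; rwa [Nat.mod_eq_of_lt i.2, Nat.mod_eq_of_lt j.2] at this))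
      · exact absurd h' (L.pow_ne_mul_s i j)
      · exact absurd h'.symm (L.pow_ne_mul_s j i)
      · exact congrArg Sum.inr (Fin.ext (by
          have := L.a_pow_eq.1 (mul_right_cancel h')
          rwa [Nat.mod_eq_of_lt i.2, Nat.mod_eq_of_lt j.2] at this))
    · rintro ⟨x, i, rfl | rfl⟩
      · exact ⟨Sum.inl ⟨i % 8, Nat.mod_lt _ (by norm_num)⟩, Subtype.ext (L.a_pow_mod i)⟩
      · exact ⟨Sum.inr ⟨i % 8, Nat.mod_lt _ (by norm_num)⟩,
          Subtype.ext (congrArg (· * s) (L.a_pow_mod i))⟩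
  rw [← Nat.card_eq_of_bijective f hf]
  simp

theorem Local.classIn_tGroup (L : Local M g g' a s) (hz : ¬ IsConj s (a ^ 4)) :
    classIn s L.tGroup = Set.range fun j : Fin 4 => a ^ (2 * (j : ℕ)) * s := by
  ext x
  constructor
  · rintro ⟨hconj, i, rfl | rfl⟩
    · obtain ⟨c, hc⟩ := isConj_iff.1 hconj
      have ho : orderOf (a ^ i) = 2 := by rw [← hc]; exact (orderOf_cj c s).trans L.orderOf_s
      have h2 : a ^ (2 * i) = a ^ 0 := by rw [two_mul, pow_add, pow_zero]; exact sq_of_orderOf ho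
      have hne : a ^ i ≠ a ^ 0 := fun e => by rw [e, pow_zero, orderOf_one] at ho; omega
      rw [L.a_pow_eq] at h2
      rw [Ne, L.a_pow_eq] at hne
      exact absurd (by rwa [L.a_pow_eq.2 (show i % 8 = 4 % 8 by omega)] at hconj) hz
    · obtain ⟨c, hc⟩ := isConj_iff.1 hconj
      have h1 : a ^ i * s * (a ^ i * s) = 1 := by
        rw [← hc]; simp only [mul_assoc, inv_mul_cancel_left]; rw [← mul_assoc s, L.s_sq]; simp
      rw [mul_assoc, ← mul_assoc s, L.s_a_pow, mul_assoc, L.s_sq, mul_one, ← pow_add] at h1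
      have h8 := (L.a_pow_eq (i := i + 3 * i) (j := 0)).1 (by rw [h1, pow_zero])
      refine ⟨⟨i % 8 / 2, by omega⟩, congrArg (· * s) (L.a_pow_eq.2 ?_)⟩
      simp only
      omega
  · rintro ⟨j, rfl⟩
    refine ⟨isConj_iff.2 ⟨a ^ (4 - (j : ℕ)), ?_⟩, 2 * (j : ℕ), Or.inr rfl⟩
    show cj (a ^ (4 - (j : ℕ))) s = a ^ (2 * (j : ℕ)) * s
    rw [cj_eq_iff, mul_assoc, L.s_a_pow, ← mul_assoc, ← pow_add]
    refine congrArg (· * s) (L.a_pow_eq.2 ?_)
    have := j.2
    omega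

theorem Local.card_classIn_tGroup (L : Local M g g' a s) (hz : ¬ IsConj s (a ^ 4)) :
    Nat.card (classIn s L.tGroup) = 4 := by
  rw [L.classIn_tGroup hz, Nat.card_range_of_injective fun i j h => ?_]
  · simp
  · have := L.a_pow_eq.1 (mul_right_cancel h)
    refine Fin.ext ?_
    have := i.2
    have := j.2
    omega

end Cfsg.Agent.M11Local
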