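import Cfsg.Agent.Lib.M11Local.TypeAThree
import Cfsg.Agent.Lib.M11Local.Semidihedral

/-!
# Case A with `|U| = 8` (S3717; owner helper21)

* `Axis.classes` : the classes of the products of `s`, `z`, `x`
* `TypeA.false_of_eight` : `|U| = 8` with an axis involution is impossible
-/

set_option autoImplicit false
set_option linter.unusedSectionVars false

namespace Cfsg.Agent.M11Local

open Subgroup

variable {G : Type*} [Group G] [Finite G] {M U : Subgroup G} {g g' a s x : G}

/-- `x`, `x z`, `s z` are reflections; `x s`, `x s z` are conjugate to `z`. -/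
theorem Axis.classes (A : Axis g a s x) (L : Local M g g' a s) :
    IsConj s x ∧ IsConj s (x * a ^ 4) ∧ IsConj (a ^ 4) (x * s) ∧ IsConj s (s * a ^ 4) ∧
      IsConj (a ^ 4) (x * s * a ^ 4) := by
  obtain ⟨h, -, -, h3, h1, hx, hs, hsz, hxz, hz⟩ := A.exists_three L
  refine ⟨L.refl h3 h1 A.sq A.ne_one hx.symm, ?_, isConj_iff.2 ⟨h, hz⟩,
    isConj_iff.2 ⟨h, hs⟩, (isConj_iff.2 ⟨h, ?_⟩ : IsConj (x * s * a ^ 4) (a ^ 4)).symm⟩
  · exact (isConj_iff.2 ⟨h, hs⟩ : IsConj s (s * a ^ 4)).trans (isConj_iff.2 ⟨h, hsz⟩)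
  · show cj h (x * s * a ^ 4) = a ^ 4
    rw [mul_assoc, cj_mul, hsz, cj_eq_self.2 hx, ← mul_assoc, A.sq, one_mul]

/-- The translate of an axis involution. -/
theorem Axis.translate (A : Axis g a s x) (L : Local M g g' a s) :
    cj g x * cj g x = 1 ∧ x * cj g x = cj g x * x ∧ cj g x * s = s * cj g x ∧
      cj (g ^ 2) x = x * cj g x * s ∧
      cj g x ≠ 1 ∧ cj g x ≠ s ∧ cj g x ≠ x ∧ cj g x ≠ x * s := by
  obtain ⟨a1, a2, -⟩ := A.actions L
  have hgs : cj g s = s := cj_eq_self.2 L.sg.symm
  have hPP : cj g x * cj g x = 1 := by rw [← cj_mul, A.sq]; simp [cj]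
  have hxP : x * cj g x = cj g x * x := (cj_eq_self.1 a1).symm
  have h3 : cj g (cj g (cj g x)) = x := by
    rw [cj_cj, cj_cj, ← pow_three', L.g_cube, cj_one]
  have hinj : ∀ {p q : G}, cj g p = cj g q → p = q := fun h => (MulAut.conj g).injective h
  refine ⟨hPP, hxP, cj_eq_self.1 a2, ?_, fun h => A.ne_one (conj_eq_one_iff.1 h),
    fun h => A.ne_s (hinj (h.trans hgs.symm)), ?_, ?_⟩
  · rw [norm_solve A.sq hPP A.norm, hxP]
  · intro h
    obtain ⟨i, hi⟩ := L.cent3 L.g_cube L.g_ne L.s_sq L.s_ne L.sg (cj_eq_self.1 h).symm A.comm_s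
    have hxx := A.sq
    rcases hi with hi | hi
    · exact A.ne_one (eq_one_of_cube_sq (by rw [hi, ← pow_mul, mul_comm, pow_mul, L.g_cube, one_pow]) hxx)
    · have hc : Commute (g ^ i) s := (show Commute g s from L.sg.symm).pow_left i
      have : g ^ i * g ^ i = 1 := by
        rw [hi, mul_assoc, ← mul_assoc s, ← hc.eq, mul_assoc (g ^ i), L.s_sq, mul_one] at hxx
        exact hxx
      rw [eq_one_of_cube_sq (by rw [← pow_mul, mul_comm, pow_mul, L.g_cube, one_pow]) this,
        one_mul] at hi
      exact A.ne_s hi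
  · intro h
    have e : cj g (cj g x) = x := by rw [h, cj_mul g x s, h, hgs, mul_assoc, L.s_sq, mul_one]
    rw [e, h] at h3
    exact L.s_ne (mul_eq_left.1 h3)

/-- `|U| = 8` with an axis involution is impossible. -/
theorem TypeA.false_of_eight [IsSimpleGroup G] (T : TypeA s) (L : Local M g g' a s)
    (hna : ¬ IsMulCommutative G) (A : Axis g a s x) (hxU : x ∈ T.uSub) (hU : Nat.card T.uSub = 8)
    (hC : ∀ u ∈ T.uSub, u * a ^ 4 = a ^ 4 * u → u = 1 ∨ u = s ∨ u = x ∨ u = x * s) : False := by
  classical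
  obtain ⟨cx, cxz, cxs, csz, cxsz⟩ := A.classes L
  obtain ⟨hPP, hxP, hPs, hP2, hP1, hPs', hPx, hPxs⟩ := A.translate L
  set y := cj g x with hy
  have hxs := A.comm_s
  have hsU := T.s_mem_u L
  have hyU : y ∈ T.uSub := T.u_conj L.sg.symm hxU
  -- the elements of `U`
  let Φ : Bool × Bool × Bool → T.uSub := fun p =>
    ⟨(bif p.1 then x else 1) * (bif p.2.1 then y else 1) * (bif p.2.2 then s else 1), by
      refine T.uSub.mul_mem (T.uSub.mul_mem ?_ ?_) ?_
      · cases p.1 <;> first | exact one_mem _ | exact hxU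
      · cases p.2.1 <;> first | exact one_mem _ | exact hyU
      · cases p.2.2 <;> first | exact one_mem _ | exact hsU⟩
  have hsq : ∀ p, ((Φ p : T.uSub) : G) * (Φ p : T.uSub) = 1 := by
    intro p
    have c1 : Commute (bif p.1 then x else 1) (bif p.2.1 then y else 1) := by
      cases p.1 <;> cases p.2.1 <;> first | exact Commute.one_left _ | exact Commute.one_right _ | exact hxP
    have c2 : Commute ((bif p.1 then x else 1) * (bif p.2.1 then y else 1)) (bif p.2.2 then s else 1) := by
      cases p.2.2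
      · exact Commute.one_right _
      · refine Commute.mul_left ?_ ?_
        · cases p.1 <;> first | exact Commute.one_left _ | exact hxs
        · cases p.2.1 <;> first | exact Commute.one_left _ | exact hPs
    have sq : ∀ (b : Bool) (r : G), r * r = 1 → (bif b then r else 1) * (bif b then r else 1) = 1 :=
      fun b r hr => by cases b <;> simp [hr]
    show _ * _ * _ * (_ * _ * _) = (1 : G)
    rw [c2.symm.mul_mul_mul_comm, sq _ s L.s_sq, mul_one, c1.symm.mul_mul_mul_comm, sq _ x A.sq,
      sq _ y hPP, one_mul]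
  have hΦ : Function.Injective Φ := by
    have key : ∀ i j k : Bool, (bif i then x else 1) * (bif j then y else 1) * (bif k then s else 1) = 1 →
        i = false ∧ j = false ∧ k = false := by
      intro i j k h
      cases i <;> cases j <;> cases k <;> simp only [cond_true, cond_false, one_mul, mul_one] at h
      · exact ⟨rfl, rfl, rfl⟩
      · exact absurd h L.s_ne
      · exact absurd h hP1
      · exact absurd (by rw [eq_inv_of_mul_eq_one_left h, L.s_inv]) hPs'
      · exact absurd h A.ne_one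
      · exact absurd (by rw [eq_inv_of_mul_eq_one_left h, L.s_inv]) A.ne_s
      · exact absurd (by rw [eq_inv_of_mul_eq_one_right h, inv_of_sq A.sq]) hPx
      · exact absurd (by
          rw [mul_assoc] at h
          have e := eq_inv_of_mul_eq_one_right h
          rw [inv_of_sq A.sq] at e
          rw [← e, mul_assoc, L.s_sq, mul_one]) hPxs
    have hmul : ∀ p q, ((Φ p : T.uSub) : G) * (Φ q : T.uSub) =
        (Φ (xor p.1 q.1, xor p.2.1 q.2.1, xor p.2.2 q.2.2) : T.uSub) := by
      intro p q
      have sq : ∀ (r : G), r * r = 1 → ∀ i i' : Bool,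
          (bif i then r else 1) * (bif i' then r else 1) = bif xor i i' then r else 1 := by
        intro r hr i i'; cases i <;> cases i' <;> simp [hr]
      show _ * _ * _ * (_ * _ * _) = _ * _ * _
      have c1 : Commute (bif q.1 then x else 1) (bif p.2.1 then y else 1) := by
        cases q.1 <;> cases p.2.1 <;> first | exact Commute.one_left _ | exact Commute.one_right _ | exact hxP
      have c2 : Commute ((bif q.1 then x else 1) * (bif q.2.1 then y else 1)) (bif p.2.2 then s else 1) := by
        cases p.2.2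
        · exact Commute.one_right _
        · refine Commute.mul_left ?_ ?_
          · cases q.1 <;> first | exact Commute.one_left _ | exact hxs
          · cases q.2.1 <;> first | exact Commute.one_left _ | exact hPs
      rw [c2.symm.mul_mul_mul_comm, sq s L.s_sq, c1.symm.mul_mul_mul_comm, sq x A.sq, sq y hPP]
    intro p q e
    have h := hmul p q
    rw [← e, hsq] at h
    obtain ⟨h1, h2, h3⟩ := key _ _ _ h.symm
    have aux : ∀ i j : Bool, xor i j = false → i = j := by decide
    exact Prod.ext (aux _ _ h1) (Prod.ext (aux _ _ h2) (aux _ _ h3))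
  have hbij : Function.Bijective Φ := hΦ.bijective_of_nat_card_le (by simp [hU])
  have hel : ∀ u ∈ T.uSub, u * u = 1 := fun u hu => by
    obtain ⟨p, hp⟩ := hbij.2 ⟨u, hu⟩
    have := hsq p
    rwa [hp] at this
  -- `z` is not conjugate to `s`
  have hz : ¬ IsConj s (a ^ 4) := fun h => by
    obtain ⟨c, hc⟩ := isConj_iff.1 h.symm
    set b := cj c a
    have hb4 : b ^ 4 = s := by rw [← cj_pow]; exact hc
    have hb : b * s = s * b := by rw [← hb4]; exact ((Commute.refl b).pow_right 4).eq
    have hb2 : b ^ 2 ∈ T.uSub := by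
      refine T.mem_uSub.2 ⟨T.mem_wSub.2 ⟨((show Commute b s from hb).pow_left 2).eq, ?_⟩, 2, ?_⟩
      · set B : ↥(centralizer ({s} : Set G)) := ⟨b, mem_C hb⟩
        have h8 : B * B * (B * B) * (B * B * (B * B)) = 1 := Subtype.ext (by
          show b * b * (b * b) * (b * b * (b * b)) = 1
          rw [show b * b * (b * b) = b ^ 4 by simp [pow_succ, mul_assoc], hb4, L.s_sq])
        have h := perm3_two (T.hom B) (by simp only [← map_mul, h8, map_one])
        rw [← map_mul] at h
        rw [show (⟨b ^ 2, mem_C ((show Commute b s from hb).pow_left 2).eq⟩ :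
          ↥(centralizer ({s} : Set G))) = B * B from Subtype.ext (pow_two b)]
        exact h
      · rw [← pow_mul, show 2 * 2 ^ 2 = 4 + 4 from rfl, pow_add, hb4, L.s_sq]
    have := hel _ hb2
    rw [← pow_add, hb4] at this
    exact L.s_ne this
  -- the group `U⟨z⟩`
  have hzU : ∀ u ∈ T.uSub, a ^ 4 * u = cj (a ^ 4) u * a ^ 4 := fun u _ => cj_eq_iff.1 rfl
  let K : Subgroup G :=
    { carrier := {q | q ∈ T.uSub ∨ q * a ^ 4 ∈ T.uSub}
      one_mem' := Or.inl T.uSub.one_mem
      mul_mem' := by
        rintro p q (hp | hp) (hq | hq)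
        · exact Or.inl (T.uSub.mul_mem hp hq)
        · exact Or.inr (by rw [mul_assoc]; exact T.uSub.mul_mem hp hq)
        · refine Or.inr ?_
          have := T.uSub.mul_mem hp ((T.good L).z_inv q hq)
          rwa [cj, L.z_inv_self, show p * a ^ 4 * (a ^ 4 * q * a ^ 4) = p * (a ^ 4 * a ^ 4) * q * a ^ 4 by
            simp only [mul_assoc], L.z_sq, mul_one] at this
        · refine Or.inl ?_
          have := T.uSub.mul_mem hp ((T.good L).z_inv _ hq)
          rwa [cj, L.z_inv_self, show p * a ^ 4 * (a ^ 4 * (q * a ^ 4) * a ^ 4) =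
            p * (a ^ 4 * a ^ 4) * (q * (a ^ 4 * a ^ 4)) by simp only [mul_assoc], L.z_sq, mul_one,
            mul_one] at this
      inv_mem' := by
        rintro p (hp | hp)
        · exact Or.inl (T.uSub.inv_mem hp)
        · refine Or.inr ?_
          have h' := (T.good L).z_inv _ (T.uSub.inv_mem hp)
          rwa [mul_inv_rev, cj, L.z_inv_self, ← mul_assoc (a ^ 4) (a ^ 4), L.z_sq, one_mul] at h' }
  let Ψ : T.uSub × Bool → K := fun p => ⟨(p.1 : G) * (bif p.2 then a ^ 4 else 1), by
    cases p.2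
    · exact Or.inl (by simpa using p.1.2)
    · exact Or.inr (by simp [mul_assoc, L.z_sq])⟩
  have hΨ : Function.Bijective Ψ := by
    constructor
    · rintro ⟨u, i⟩ ⟨v, j⟩ e
      have e' : (u : G) * (bif i then a ^ 4 else 1) = (v : G) * (bif j then a ^ 4 else 1) :=
        congrArg Subtype.val e
      cases i <;> cases j <;> simp only [cond_true, cond_false, mul_one] at e'
      · exact Prod.ext (Subtype.ext e') rfl
      · exfalso
        refine (T.good L).z_notMem ?_
        rw [eq_inv_mul_of_mul_eq e'.symm]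
        exact T.uSub.mul_mem (T.uSub.inv_mem v.2) u.2
      · exfalso
        refine (T.good L).z_notMem ?_
        rw [eq_inv_mul_of_mul_eq e']
        exact T.uSub.mul_mem (T.uSub.inv_mem u.2) v.2
      · exact Prod.ext (Subtype.ext (mul_right_cancel e')) rfl
    · rintro ⟨q, hq | hq⟩
      · exact ⟨(⟨q, hq⟩, false), Subtype.ext (mul_one q)⟩
      · refine ⟨(⟨q * a ^ 4, hq⟩, true), Subtype.ext ?_⟩
        show q * a ^ 4 * a ^ 4 = q
        rw [mul_assoc, L.z_sq, mul_one]
  have hK : Nat.card K = 16 := by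
    rw [← Nat.card_eq_of_bijective Ψ hΨ, Nat.card_prod, hU]
    simp
  -- its reflections
  have hgs : cj g s = s := cj_eq_self.2 L.sg.symm
  have nz : ∀ {q : G}, IsConj (a ^ 4) q → ¬ IsConj s q := fun h h' => hz (h'.trans h.symm)
  have c1 : IsConj s y := cx.trans (isConj_cj g x)
  have c2 : IsConj s (x * y * s) := cx.trans (hP2 ▸ isConj_cj (g ^ 2) x)
  have d1 : IsConj (a ^ 4) (y * s) := cxs.trans (by
    have := isConj_cj g (x * s); rwa [cj_mul, hgs] at this)
  have d2 : IsConj (a ^ 4) (x * y) := cxs.trans (by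
    have := isConj_cj (g ^ 2) (x * s)
    rwa [cj_mul, show cj (g ^ 2) s = s by rw [pow_two, ← cj_cj, hgs, hgs], hP2, mul_assoc, L.s_sq,
      mul_one] at this)
  let f : Fin 6 → G := ![s, x, y, x * y * s, s * a ^ 4, x * a ^ 4]
  let F : Finset G := {s, x, y, x * y * s, s * a ^ 4, x * a ^ 4}
  have hclass : classIn s K = (F : Set G) := by
    ext q
    simp only [F, Finset.coe_insert, Finset.coe_singleton, Set.mem_insert_iff, Set.mem_singleton_iff]
    constructor
    · rintro ⟨hq, hqK⟩
      obtain ⟨c, hc⟩ := isConj_iff.1 hq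
      have hq2 : q * q = 1 := by rw [← hc]; show cj c s * cj c s = 1; rw [← cj_mul, L.s_sq]; simp [cj]
      have hq1 : q ≠ 1 := fun e => L.s_ne (by
        rw [e] at hc; exact conj_eq_one_iff.1 hc)
      rcases hqK with h | h
      · obtain ⟨⟨i, j, k⟩, hp⟩ := hbij.2 ⟨q, h⟩
        have hp' : (bif i then x else 1) * (bif j then y else 1) * (bif k then s else 1) = q :=
          congrArg Subtype.val hp
        cases i <;> cases j <;> cases k <;> simp only [cond_true, cond_false, one_mul, mul_one] at hp' <;>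
          subst hp'
        · exact absurd rfl hq1
        · simp
        · simp
        · exact absurd hq (nz d1)
        · simp
        · exact absurd hq (nz cxs)
        · exact absurd hq (nz d2)
        · simp
      · have h' := hC _ h (by
          have e : q * a ^ 4 = a ^ 4 * q := by
            have h2 := hel _ h
            calc q * a ^ 4 = (q * a ^ 4)⁻¹ := (inv_of_sq h2).symm
              _ = a ^ 4 * q := by rw [mul_inv_rev, L.z_inv_self, inv_of_sq hq2]
          rw [← mul_assoc, ← e])
        have hq' : q = q * a ^ 4 * a ^ 4 := by rw [mul_assoc, L.z_sq, mul_one]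
        rcases h' with e | e | e | e <;> rw [e] at hq' <;> subst hq'
        · exact absurd hq (by simpa using nz (IsConj.refl _))
        · simp
        · simp
        · exact absurd hq (nz cxsz)
    · have m1 : ∀ r, r ∈ T.uSub → r ∈ K := fun r h => Or.inl h
      have m2 : ∀ r, r ∈ T.uSub → r * a ^ 4 ∈ K := fun r h => Or.inr (by
        rw [mul_assoc, L.z_sq, mul_one]; exact h)
      rintro (rfl | rfl | rfl | rfl | rfl | rfl)
      · exact ⟨IsConj.refl _, m1 _ hsU⟩
      · exact ⟨cx, m1 _ hxU⟩
      · exact ⟨c1, m1 _ hyU⟩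
      · exact ⟨c2, m1 _ (T.uSub.mul_mem (T.uSub.mul_mem hxU hyU) hsU)⟩
      · exact ⟨csz, m2 _ hsU⟩
      · exact ⟨cxz, m2 _ hxU⟩
  have hF : F.card = 6 := by
    have k1 : ∀ {u v : G}, u ∈ T.uSub → v * a ^ 4 ≠ u ∨ v ∉ T.uSub := fun {u v} hu => by
      by_cases hv : v ∈ T.uSub
      · refine Or.inl fun e => (T.good L).z_notMem ?_
        rw [eq_inv_mul_of_mul_eq e]
        exact T.uSub.mul_mem (T.uSub.inv_mem hv) hu
      · exact Or.inr hv
    have k2 : ∀ {u v : G}, u ∈ T.uSub → v ∈ T.uSub → u ≠ v * a ^ 4 := fun {u v} hu hv e =>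
      ((k1 (v := v) hu).resolve_right (not_not_intro hv)) e.symm
    have e1 : x * y * s ≠ s := fun e => hPx (by
      have := mul_eq_right.1 e
      rw [eq_inv_of_mul_eq_one_right this, inv_of_sq A.sq])
    have e2 : x * y * s ≠ x := fun e => hPs' (by
      rw [mul_assoc] at e
      rw [eq_inv_of_mul_eq_one_left (mul_eq_left.1 e), L.s_inv])
    have e3 : x * y * s ≠ y := fun e => A.ne_s (by
      rw [hxP, mul_assoc] at e
      rw [eq_inv_of_mul_eq_one_left (mul_eq_left.1 e), L.s_inv])
    have hxyU := T.uSub.mul_mem (T.uSub.mul_mem hxU hyU) hsU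
    simp [F, Finset.card_insert_of_notMem, A.ne_s.symm, hPs'.symm, e1.symm, hPx.symm, e2.symm, e3.symm,
      k2 hsU hsU, k2 hsU hxU, k2 hxU hsU, k2 hxU hxU, k2 hyU hsU, k2 hyU hxU, k2 hxyU hsU,
      k2 hxyU hxU, Ne.symm A.ne_s]
  -- parity
  obtain ⟨m, hm, hW⟩ := T.card_w
  have hH : Nat.card ↥(centralizer ({s} : Set G)) = 48 * m := by rw [T.card_cent, hW, hU]; ring
  have h1 := card_fixed_mul s L.tGroup
  rw [L.card_tGroup, L.card_classIn_tGroup hz, hH] at h1
  have h2 := card_fixed_mul s K
  rw [hK, hH, hclass, Nat.card_coe_set_eq, Set.ncard_coe_finset, hF] at h2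
  have h3 := fixed_parity_compare hna L.orderOf_s L.tGroup K odd_one
    (show 1 * Nat.card L.tGroup = 1 * Nat.card K by rw [L.card_tGroup, hK])
    (show fixCount s L.tGroup % 4 = 0 % 4 by omega)
  obtain ⟨k, hk⟩ := hm
  rw [Nat.ModEq] at h3
  omega

end Cfsg.Agent.M11Local
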