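import Cfsg.Agent.Lib.M11Local.CaseAModel
import Cfsg.Agent.Lib.M11Local.Parity
import Cfsg.Agent.S0071

/-!
# No simple group with `C(s)` of shape `2^(1+4).S₃` (S3717; owner helper21)

* `H192.Model` : `C(s)` is the image of the model
* `H192.Model.false_of_reflection` : this is impossible if the involutions commuting with an element of
  order 3 are conjugate to `s`
-/

set_option autoImplicit false

namespace Cfsg.Agent.M11Local

open Subgroup

variable {G : Type*} [Group G] [Finite G]

/-- A prime to 6 group of automorphisms of a small 2-group fixing an involution is trivial. -/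
theorem centralizes_of_small {R : Subgroup G} (hR : Nat.card R ∣ 8) {v : G} (hvR : v ∈ R) (hv : v ≠ 1) :
    ∀ n : ℕ, Odd n → ¬ 3 ∣ n → ∀ k : G, (∀ r ∈ R, cj k r ∈ R) → cj k v = v →
      (∀ r ∈ R, cj (k ^ n) r = r) → ∀ r ∈ R, cj k r = r := by
  intro n
  induction n using Nat.strong_induction_on with
  | _ n ih =>
    intro hodd h3 k hk hkv hn
    by_cases h1 : n = 1
    · subst h1; simpa using hn
    obtain ⟨p, hp, m, rfl⟩ : ∃ p : ℕ, p.Prime ∧ ∃ m, n = p * m :=
      ⟨n.minFac, Nat.minFac_prime h1, n.minFac_dvd⟩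
    have hm0 : 0 < m := by
      rcases Nat.eq_zero_or_pos m with rfl | h
      · simp at hodd
      · exact h
    have hpodd : Odd p := (Nat.odd_mul.1 hodd).1
    have hp3 : p ≠ 3 := fun e => h3 (e ▸ dvd_mul_right p m)
    have hp5 : 5 ≤ p := by
      have := hp.two_le
      have h4 : p ≠ 4 := fun e => by rw [e] at hp; norm_num at hp
      obtain ⟨q, hq⟩ := hpodd
      omega
    have hkpow : ∀ (j : ℕ), (∀ r ∈ R, cj (k ^ j) r ∈ R) ∧ cj (k ^ j) v = v := by
      intro j
      induction j with
      | zero => exact ⟨fun r hr => by simpa [cj] using hr, by simp [cj]⟩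
      | succ j ihj =>
        refine ⟨fun r hr => ?_, ?_⟩
        · rw [pow_succ', ← cj_cj]; exact hk _ (ihj.1 r hr)
        · rw [pow_succ', ← cj_cj, ihj.2, hkv]
    -- the prime step
    have step : ∀ k : G, (∀ r ∈ R, cj k r ∈ R) → cj k v = v → (∀ r ∈ R, cj (k ^ p) r = r) →
        ∀ r ∈ R, cj k r = r := by
      intro k hk hkv hkp
      classical
      haveI := Fact.mk hp
      haveI := Fintype.ofFinite R
      let f : Function.End R := fun r => ⟨cj k r, hk r r.2⟩
      have hfpow : ∀ (j : ℕ) (r : R), (((f ^ j) r : R) : G) = cj (k ^ j) r := by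
        intro j
        induction j with
        | zero => intro r; simp only [pow_zero, cj_one]; rfl
        | succ j ihj =>
          intro r
          rw [pow_succ', pow_succ', ← cj_cj, ← ihj]
          rfl
      have hf : f ^ p ^ 1 = 1 := by
        funext r
        refine Subtype.ext ((hfpow _ r).trans ?_)
        rw [pow_one]
        exact hkp r r.2
      have hmod := Equiv.Perm.card_fixedPoints_modEq hf
      set F : Subgroup G := R ⊓ centralizer ({k} : Set G)
      have hFe : Nat.card F = Nat.card f.fixedPoints := Nat.card_congr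
        { toFun := fun r => ⟨⟨r, r.2.1⟩, Subtype.ext (cj_eq_self.2 (mem_centralizer_singleton_iff.1 r.2.2).symm)⟩
          invFun := fun r => ⟨(r.1 : R), ⟨(r.1 : R).2,
            mem_centralizer_singleton_iff.2 (cj_eq_self.1 (congrArg Subtype.val r.2)).symm⟩⟩
          left_inv := fun _ => rfl
          right_inv := fun _ => rfl }
      rw [← Nat.card_eq_fintype_card, ← Nat.card_eq_fintype_card, ← hFe] at hmod
      have hFR : Nat.card F ∣ Nat.card R := Subgroup.card_dvd_of_le inf_le_left
      have hF2 : 2 ≤ Nat.card F := by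
        haveI : Nontrivial F := ⟨⟨⟨v, hvR, mem_centralizer_singleton_iff.2 (cj_eq_self.1 hkv).symm⟩, 1,
          fun e => hv (congrArg Subtype.val e)⟩⟩
        exact Finite.one_lt_card
      have hF8 : Nat.card F ∣ 8 := hFR.trans hR
      have hd : ∀ d : ℕ, d ∣ 8 → 2 ≤ d → d = 2 ∨ d = 4 ∨ d = 8 := by
        intro d hd hd2
        have := Nat.le_of_dvd (by norm_num) hd
        interval_cases d <;> revert hd <;> decide
      have hle : Nat.card F ≤ Nat.card R := Nat.le_of_dvd Nat.card_pos hFR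
      have hdiv : p ∣ Nat.card R - Nat.card F := (Nat.modEq_iff_dvd' hle).1 hmod.symm
      have hcard : Nat.card R ≤ Nat.card F := by
        by_contra hlt
        have hp7 := Nat.le_of_dvd (by omega) hdiv
        obtain ⟨e, he⟩ := hdiv
        obtain ⟨q, hq⟩ := hpodd
        rcases hd _ hF8 hF2 with h | h | h <;> rcases hd _ hR (hF2.trans hle) with h' | h' | h' <;>
          rw [h, h'] at he hlt hp7 <;> interval_cases p <;> omega
      intro r hr
      have hF : F = R := Subgroup.eq_of_le_of_card_ge inf_le_left hcard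
      rw [← hF] at hr
      exact cj_eq_self.2 (mem_centralizer_singleton_iff.1 hr.2).symm
    have hkm : ∀ r ∈ R, cj (k ^ m) r = r := step _ (hkpow m).1 (hkpow m).2 fun r hr => by
      rw [← pow_mul, mul_comm]; exact hn r hr
    exact ih m (lt_mul_of_one_lt_left hm0 hp.one_lt) (Nat.odd_mul.1 hodd).2
      (fun e => h3 (e.mul_left p)) k hk hkv hkm

/-- A fixed-point-free involution inverts. -/
theorem inv_of_fixed_trivial {N : Subgroup G} {t : G} (ht : t * t = 1) (hN : ∀ n ∈ N, cj t n ∈ N)
    (hfix : ∀ n ∈ N, t * n = n * t → n = 1) : ∀ n ∈ N, cj t n = n⁻¹ := by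
  have htt : ∀ n, cj t (cj t n) = n := fun n => by rw [cj_cj, ht]; simp [cj]
  let f : N → N := fun n => ⟨(n : G)⁻¹ * cj t n, N.mul_mem (N.inv_mem n.2) (hN n n.2)⟩
  have hinj : Function.Injective f := by
    intro n m e
    have e' : (n : G)⁻¹ * cj t n = (m : G)⁻¹ * cj t m := congrArg Subtype.val e
    have h : cj t ((m : G) * (n : G)⁻¹) = (m : G) * (n : G)⁻¹ := by
      calc cj t ((m : G) * (n : G)⁻¹) = (m : G) * ((m : G)⁻¹ * cj t m) * (cj t n)⁻¹ := by
            rw [mul_inv_cancel_left, cj_mul t, cj_inv t]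
        _ = (m : G) * ((n : G)⁻¹ * cj t n) * (cj t n)⁻¹ := by rw [e']
        _ = (m : G) * (n : G)⁻¹ := by group
    exact Subtype.ext (mul_inv_eq_one.1 (hfix _ (N.mul_mem m.2 (N.inv_mem n.2)) (cj_eq_self.1 h))).symm
  intro n hn
  obtain ⟨m, hm⟩ := Finite.surjective_of_injective hinj ⟨n, hn⟩
  have hm' : (m : G)⁻¹ * cj t m = n := congrArg Subtype.val hm
  rw [← hm']
  simp [cj, mul_assoc, inv_of_sq ht, ht]

/-- Conjugate elements have centralizers of the same order. -/
theorem card_centralizer_isConj {s t : G} (h : IsConj s t) :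
    Nat.card ↥(centralizer ({t} : Set G)) = Nat.card ↥(centralizer ({s} : Set G)) := by
  obtain ⟨c, hc⟩ := isConj_iff.1 h
  have : (centralizer ({s} : Set G)).map (MulAut.conj c).toMonoidHom = centralizer ({t} : Set G) := by
    ext x
    rw [Subgroup.mem_map, mem_centralizer_singleton_iff, ← hc]
    constructor
    · rintro ⟨y, hy, rfl⟩
      exact cj_commute (mem_centralizer_singleton_iff.1 hy)
    · intro h
      refine ⟨cj c⁻¹ x, mem_centralizer_singleton_iff.2 ?_, cj_cj_inv c x⟩
      have := cj_commute (c := c⁻¹) h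
      rwa [cj_inv_cj] at this
  rw [← this, Subgroup.card_map_of_injective (MulAut.conj c).injective]

namespace H192

/-- `C(s)` is the image of the model. -/
structure Model (s : G) (e : El → G) : Prop where
  map_mul : ∀ a b, e a * e b = e (mul a b)
  inj : Function.Injective e
  mem : ∀ a, e a * s = s * e a
  surj : ∀ h, h * s = s * h → ∃ a, e a = h
  e_s : e sEl = s

set_option maxRecDepth 100000 in
set_option synthInstance.maxSize 4096 in
theorem facts' : mul one one = one ∧ mul sEl sEl = one ∧ CjM xEl yEl ∧ CjM xsEl (mul sEl yEl) ∧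
    mul sEl yEl = mul yEl sEl ∧ mul yEl yEl = one ∧ mul yEl sEl ≠ one ∧ yEl ≠ one := by
  decide +kernel

namespace Model

variable {s : G} {e : El → G}

theorem e_one (E : Model s e) : e one = 1 := by
  have h := E.map_mul one one
  rw [facts'.1] at h
  exact mul_eq_left.1 h

theorem eq_iff (E : Model s e) {a b c d : El} :
    e a * e b = e c * e d ↔ mul a b = mul c d := by
  rw [E.map_mul, E.map_mul]
  exact E.inj.eq_iff

theorem sq_iff (E : Model s e) {a : El} : e a * e a = 1 ↔ mul a a = one := by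
  rw [E.map_mul, ← E.e_one]
  exact E.inj.eq_iff

theorem conj_of (E : Model s e) {t h : El} (hc : CjM t h) : IsConj (e t) (e h) := by
  obtain ⟨c, hc⟩ := hc
  exact isConj_iff.2 ⟨e c, cj_eq_iff.2 (E.eq_iff.2 hc)⟩

theorem card_set (E : Model s e) (S : Set G) (P : El → Prop) [DecidablePred P]
    (hS : ∀ q ∈ S, q * s = s * q) (h : ∀ a, e a ∈ S ↔ P a) :
    Nat.card S = (Finset.univ.filter P).card := by
  have hS' : S = e '' ↑(Finset.univ.filter P) := by
    ext q
    simp only [Set.mem_image, Finset.coe_filter, Finset.mem_univ, true_and, Set.mem_setOf_eq]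
    constructor
    · intro hq
      obtain ⟨a, rfl⟩ := E.surj q (hS q hq)
      exact ⟨a, (h a).1 hq, rfl⟩
    · rintro ⟨a, ha, rfl⟩
      exact (h a).2 ha
  rw [Nat.card_coe_set_eq, hS', Set.ncard_image_of_injective _ E.inj, Set.ncard_coe_finset]

/-- The centralizer of `v` in `C(s)`. -/
theorem card_inf (E : Model s e) :
    Nat.card ↥(centralizer ({s} : Set G) ⊓ centralizer ({e vEl} : Set G)) = 16 := by
  rw [← card_cent_v]
  refine E.card_set _ _ (fun q hq => mem_centralizer_singleton_iff.1 hq.1) fun a => ?_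
  rw [SetLike.mem_coe, Subgroup.mem_inf, mem_centralizer_singleton_iff, mem_centralizer_singleton_iff,
    E.eq_iff]
  exact and_iff_right (E.mem a)

/-- The element `v` is not conjugate to `s`. -/
theorem not_isConj (E : Model s e) : ¬ IsConj s (e vEl) := by
  intro h
  obtain ⟨c, hc⟩ := isConj_iff.1 h
  have hdv : cj c⁻¹ (e vEl) = s := by rw [← hc]; exact cj_inv_cj c s
  obtain ⟨f1, f2, f3, f4, f5, f6⟩ := facts
  have hsd : cj c⁻¹ s * s = s * cj c⁻¹ s := by
    have := cj_commute (c := c⁻¹) (E.mem vEl).symm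
    rwa [hdv] at this
  obtain ⟨a, ha⟩ := E.surj _ hsd
  have mv : ∀ q : G, (q * s = s * q ∧ q * e vEl = e vEl * q) →
      (cj c⁻¹ q * s = s * cj c⁻¹ q ∧ cj c⁻¹ q * e a = e a * cj c⁻¹ q) := fun q hq => by
    have h1 := cj_commute (c := c⁻¹) hq.1
    have h2 := cj_commute (c := c⁻¹) hq.2
    rw [hdv] at h2
    exact ⟨h2, ha ▸ h1⟩
  have hcard : (Finset.univ.filter fun q : El => mul q a = mul a q).card = 16 := by
    rw [← E.card_set ↑(centralizer ({s} : Set G) ⊓ centralizer ({e a} : Set G))
      (fun q => mul q a = mul a q) (fun q hq => mem_centralizer_singleton_iff.1 hq.1) (fun q => by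
        rw [SetLike.mem_coe, Subgroup.mem_inf, mem_centralizer_singleton_iff,
          mem_centralizer_singleton_iff, E.eq_iff]
        exact and_iff_right (E.mem q))]
    rw [← E.card_inf]
    refine Nat.card_congr
      { toFun := fun q => ⟨cj c (q : G), ?_⟩
        invFun := fun q => ⟨cj c⁻¹ (q : G), ?_⟩
        left_inv := fun q => Subtype.ext (cj_inv_cj c q)
        right_inv := fun q => Subtype.ext (cj_cj_inv c q) }
    · have h1 := cj_commute (c := c) (mem_centralizer_singleton_iff.1 q.2.1)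
      have h2 := cj_commute (c := c) (mem_centralizer_singleton_iff.1 q.2.2)
      rw [show cj c (e a) = s by rw [ha, cj_cj_inv]] at h2
      rw [show cj c s = e vEl from hc] at h1
      exact ⟨mem_centralizer_singleton_iff.2 h2, mem_centralizer_singleton_iff.2 h1⟩
    · obtain ⟨h1, h2⟩ := mv q ⟨mem_centralizer_singleton_iff.1 q.2.1, mem_centralizer_singleton_iff.1 q.2.2⟩
      exact ⟨mem_centralizer_singleton_iff.2 h1, mem_centralizer_singleton_iff.2 h2⟩
  have ha2 : mul a a = one := E.sq_iff.1 (by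
    rw [ha, ← cj_mul, ← E.e_s, E.map_mul, facts'.2.1, E.e_one]; simp [cj])
  have ha1 : a ≠ one := fun h0 => f6 (E.inj (by
    have h1 : cj c⁻¹ s = 1 := by rw [← ha, h0, E.e_one]
    have hs1 : s = 1 := conj_eq_one_iff.1 h1
    rw [E.e_s, ← show cj c s = e vEl from hc, hs1]
    simp [cj]))
  have has : a ≠ sEl := fun h0 => f6 (E.inj (by
    have h1 : cj c⁻¹ s = s := by rw [← ha, h0, E.e_s]
    have h2 := congrArg (cj c) h1
    rw [cj_cj_inv, show cj c s = e vEl from hc] at h2
    rw [E.e_s]; exact h2.symm))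
  obtain ⟨hy1, hy2⟩ := mv (e yEl) ⟨E.mem _, E.eq_iff.2 f2⟩
  obtain ⟨hq1, hq2⟩ := mv (e qEl) ⟨E.mem _, E.eq_iff.2 f3⟩
  obtain ⟨p, hp⟩ := E.surj _ hy1
  obtain ⟨q, hq⟩ := E.surj _ hq1
  rw [← hp] at hy2
  rw [← hq] at hq2
  refine no_derived a ha2 ha1 has hcard p (E.eq_iff.1 hy2) q (E.eq_iff.1 hq2) (E.inj ?_)
  rw [← E.map_mul, ← E.map_mul, ← E.map_mul, hp, hq, ha, ← cj_mul, ← cj_mul, ← cj_mul, ← E.e_s,
    E.map_mul, E.map_mul, E.map_mul, f1]

/-- The centralizer of `v` has order 16. -/
theorem card_cent (E : Model s e) (hH : Nat.card ↥(centralizer ({s} : Set G)) = 192)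
    (hrefl : ∀ k t : G, k ^ 3 = 1 → k ≠ 1 → t * t = 1 → t ≠ 1 → t * k = k * t → IsConj s t)
    (hx : IsConj s (e xEl)) (hxs : IsConj s (e xsEl)) :
    Nat.card ↥(centralizer ({e vEl} : Set G)) = 16 := by
  classical
  haveI := Fact.mk Nat.prime_two
  obtain ⟨f1, f2, f3, f4, f5, f6⟩ := facts
  obtain ⟨g1, g2, g3, g4, g5, g6, g7, g8⟩ := facts'
  set v := e vEl with hv
  have hv1 : v ≠ 1 := fun h0 => f5 (E.inj (by rw [E.e_one]; exact h0))
  have hvv : v * v = 1 := E.sq_iff.2 f4
  have hnc := E.not_isConj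
  have h3 : ∀ k : G, k ^ 3 = 1 → k * v = v * k → k = 1 := fun k hk hkv => by
    by_contra hk1
    exact hnc (hrefl k v hk hk1 hvv hv1 hkv.symm)
  set K : Subgroup G := centralizer ({v} : Set G) with hK
  set P : Subgroup G := centralizer ({s} : Set G) ⊓ K with hP
  have hP16 : Nat.card P = 16 := E.card_inf
  have hcomm : ∀ p ∈ P, ∀ q ∈ P, p * q = q * p ∨ p * q = q * p * s := by
    intro p hp q hq
    obtain ⟨a, rfl⟩ := E.surj p (mem_centralizer_singleton_iff.1 hp.1)
    obtain ⟨b, rfl⟩ := E.surj q (mem_centralizer_singleton_iff.1 hq.1)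
    rcases cent_v_comm a (E.eq_iff.1 (mem_centralizer_singleton_iff.1 hp.2)) b
      (E.eq_iff.1 (mem_centralizer_singleton_iff.1 hq.2)) with h | h
    · exact Or.inl (E.eq_iff.2 h)
    · exact Or.inr (by rw [← E.e_s, E.map_mul, E.map_mul, E.map_mul, h])
  have hvP : v ∈ P := ⟨mem_centralizer_singleton_iff.2 (E.mem _), mem_centralizer_singleton_iff.2 rfl⟩
  have hyP : e yEl ∈ P := ⟨mem_centralizer_singleton_iff.2 (E.mem _),
    mem_centralizer_singleton_iff.2 (E.eq_iff.2 f2)⟩
  have hqP : e qEl ∈ P := ⟨mem_centralizer_singleton_iff.2 (E.mem _),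
    mem_centralizer_singleton_iff.2 (E.eq_iff.2 f3)⟩
  have hsP : s ∈ P := ⟨mem_centralizer_singleton_iff.2 rfl, mem_centralizer_singleton_iff.2
    (E.mem _).symm⟩
  have hs1 : s ≠ 1 := fun h0 => hv1 (by
    have hall : ∀ t, IsConj s t → t = 1 := fun t ht => by
      obtain ⟨c, hc⟩ := isConj_iff.1 ht
      rw [← hc, h0]; simp
    have hy1 : e yEl = 1 := hall _ (hx.trans (E.conj_of g3))
    exact absurd (E.inj (hy1.trans E.e_one.symm)) g8)
  -- an element of `C(v)` normalizing `P` lies in `P`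
  have hself : ∀ n ∈ K, (∀ p ∈ P, cj n p ∈ P) → n ∈ P := by
    intro n hn hnP
    have h := congrArg (cj n) (show e yEl * e qEl = e qEl * e yEl * s by
      rw [← E.e_s, E.map_mul, E.map_mul, E.map_mul, f1])
    simp only [cj_mul n] at h
    have hns : cj n s = s := by
      rcases hcomm _ (hnP _ hyP) _ (hnP _ hqP) with h' | h' <;> rw [h'] at h
      · exact absurd (conj_eq_one_iff.1 (mul_eq_left.1 h.symm)) hs1
      · exact (mul_left_cancel h).symm
    exact ⟨mem_centralizer_singleton_iff.2 (cj_eq_self.1 hns), hn⟩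
  set P' : Subgroup K := P.subgroupOf K with hP'
  have hP'card : Nat.card P' = 16 := by
    rw [Nat.card_congr (Subgroup.subgroupOfEquivOfLe inf_le_right).toEquiv, hP16]
  have hp2 : IsPGroup 2 P' := IsPGroup.of_card (n := 4) (by rw [hP'card]; norm_num)
  have hnorm : ∀ n : K, (∀ p ∈ P', n * p * n⁻¹ ∈ P') → n ∈ P' := fun n hn => by
    rw [Subgroup.mem_subgroupOf]
    exact hself n n.2 fun p hp => Subgroup.mem_subgroupOf.1 (hn ⟨p, hp.2⟩ (Subgroup.mem_subgroupOf.2 hp))
  obtain ⟨S, hS⟩ := hp2.exists_le_sylow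
  have hSP : (S : Subgroup K) = P' := by
    refine le_antisymm ?_ hS
    by_contra hle
    set H0 : Subgroup (S : Subgroup K) := P'.subgroupOf S
    haveI : Group.IsNilpotent (S : Subgroup K) := S.2.isNilpotent
    have hlt : H0 < ⊤ := lt_top_iff_ne_top.2 fun h0 => hle (Subgroup.subgroupOf_eq_top.1 h0)
    obtain ⟨n, hn, hn0⟩ := SetLike.exists_of_lt (normalizerCondition_of_isNilpotent H0 hlt)
    refine hn0 (Subgroup.mem_subgroupOf.2 (hnorm n fun p hp => ?_))
    exact Subgroup.mem_subgroupOf.1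
      ((Subgroup.mem_normalizer_iff.1 hn ⟨p, hS hp⟩).1 (Subgroup.mem_subgroupOf.2 hp))
  -- Frobenius
  obtain ⟨N, hN, hNc⟩ := (S0071.result S).2 fun Q hQ n hn hco => by
    rw [mem_centralizer_iff]
    intro r hr
    apply Subtype.ext
    show (r : G) * (n : G) = (n : G) * (r : G)
    have hQP : ∀ r ∈ Q, (r : G) ∈ P := fun r hr => by
      have h0 := hQ hr
      rw [hSP] at h0
      exact Subgroup.mem_subgroupOf.1 h0
    have hnv : (n : G) * v = v * (n : G) := mem_centralizer_singleton_iff.1 n.2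
    set R : Subgroup G := Q.map K.subtype ⊔ zpowers v with hR
    have hRP : R ≤ P := sup_le (by rintro _ ⟨r, hr, rfl⟩; exact hQP r hr) (zpowers_le.2 hvP)
    have hvR : v ∈ R := mem_sup_right (mem_zpowers v)
    have hrR : (r : G) ∈ R := mem_sup_left ⟨r, hr, rfl⟩
    have hRn : ∀ q ∈ R, cj (n : G) q ∈ R := by
      have : R.map (MulAut.conj (n : G)).toMonoidHom ≤ R := by
        rw [hR, Subgroup.map_sup, MonoidHom.map_zpowers]
        refine sup_le ?_ ?_
        · rintro _ ⟨_, ⟨q, hq, rfl⟩, rfl⟩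
          exact mem_sup_left ⟨n * q * n⁻¹, (Subgroup.mem_normalizer_iff.1 hn q).1 hq, rfl⟩
        · rw [zpowers_le]
          show cj (n : G) v ∈ _
          rw [cj_eq_self.2 hnv]; exact mem_sup_right (mem_zpowers v)
      exact fun q hq => this ⟨q, hq, rfl⟩
    have hnodd : Odd (orderOf (n : G)) := by
      rw [Subgroup.orderOf_coe]
      exact Nat.coprime_two_right.1 hco
    have hn3 : ¬ 3 ∣ orderOf (n : G) := fun h => by
      have ho : orderOf ((n : G) ^ (orderOf (n : G) / 3)) = 3 :=
        orderOf_pow_orderOf_div (orderOf_pos _).ne' h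
      have := h3 _ (by rw [← ho]; exact pow_orderOf_eq_one _) ((show Commute (n : G) v from hnv).pow_left _).eq
      rw [this, orderOf_one] at ho
      omega
    have hd16 : Nat.card R ∣ 16 := hP16 ▸ Subgroup.card_dvd_of_le hRP
    by_cases h16 : Nat.card R = 16
    · have hRP' : R = P := Subgroup.eq_of_le_of_card_ge hRP (by omega)
      have hnP : (n : G) ∈ P := hself n n.2 (hRP' ▸ hRn)
      have hd : orderOf (n : G) ∣ 16 := hP16 ▸ Subgroup.orderOf_dvd_natCard P hnP
      have h1 : orderOf (n : G) = 1 := Nat.eq_one_of_dvd_coprimes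
        (show Nat.Coprime (orderOf (n : G)) 16 by
          simpa using (Nat.coprime_two_right.2 hnodd).pow_right 4) dvd_rfl hd
      rw [orderOf_eq_one_iff.1 h1, one_mul, mul_one]
    · have h8 : Nat.card R ∣ 8 := by
        obtain ⟨i, hi, hR'⟩ := (Nat.dvd_prime_pow Nat.prime_two).1 (show Nat.card R ∣ 2 ^ 4 by simpa using hd16)
        rw [hR'] at h16 ⊢
        interval_cases i <;> simp_all
      exact (cj_eq_self.1 (centralizes_of_small h8 hvR hv1 _ hnodd hn3 _ hRn (cj_eq_self.2 hnv)
        (fun q _ => by rw [pow_orderOf_eq_one]; simp [cj]) _ hrR)).symm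
  -- the complement is trivial
  have hNodd : Odd (Nat.card N) := by
    rw [← hNc.index_eq_card]
    exact Nat.odd_iff.2 (Nat.two_dvd_ne_zero.1 S.not_dvd_index)
  have hfix : ∀ t : K, IsConj s (t : G) → ∀ n ∈ N, t * n = n * t → n = 1 := by
    intro t ht n hn htn
    have h192 : orderOf (n : G) ∣ 3 * 64 := by
      rw [show 3 * 64 = 192 from rfl, ← hH, ← card_centralizer_isConj ht]
      exact Subgroup.orderOf_dvd_natCard _ (mem_centralizer_singleton_iff.2 (congrArg Subtype.val htn).symm)
    have hdN : orderOf (n : G) ∣ Nat.card N := by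
      rw [Subgroup.orderOf_coe]
      exact Subgroup.orderOf_dvd_natCard _ hn
    have h3' : orderOf (n : G) ∣ 3 := (Nat.Coprime.coprime_dvd_left hdN
      (show (Nat.card N).Coprime 64 by simpa using (Nat.coprime_two_right.2 hNodd).pow_right 6)).dvd_of_dvd_mul_right h192
    exact Subtype.ext (h3 _ (orderOf_dvd_iff_pow_eq_one.1 h3') (mem_centralizer_singleton_iff.1 n.2))
  let ys : K := ⟨e yEl, hyP.2⟩
  let ss : K := ⟨s, hsP.2⟩
  have hcy : IsConj s (e yEl) := hx.trans (E.conj_of g3)
  have hcsy : IsConj s ((ss * ys : K) : G) := by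
    show IsConj s (s * e yEl)
    rw [← E.e_s, E.map_mul]
    rw [E.e_s]
    exact hxs.trans (E.conj_of g4)
  have hsy : ss * ys = ys * ss := Subtype.ext (E.mem yEl).symm
  have hNn : ∀ t : K, ∀ n ∈ N, cj t n ∈ N := fun t n hn => hN.conj_mem n hn t
  have hys2 : ys * ys = 1 := Subtype.ext (E.sq_iff.2 g6)
  have hss2 : ss * ss = 1 := Subtype.ext (by
    show s * s = 1
    rw [← E.e_s, E.map_mul, g2, E.e_one])
  have hN1 : ∀ n ∈ N, n = 1 := by
    intro n hn
    refine hfix (ss * ys) hcsy n hn (cj_eq_self.1 ?_)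
    rw [← cj_cj, inv_of_fixed_trivial hys2 (hNn ys) (hfix ys hcy) n hn, cj_inv,
      inv_of_fixed_trivial hss2 (hNn ss) (hfix ss (IsConj.refl _)) n hn, inv_inv]
  have hNbot := (Subgroup.eq_bot_iff_forall N).2 hN1
  have := hNc.card_mul_card
  rw [hNbot, Subgroup.card_bot, one_mul] at this
  rw [← this, ← hP'card]
  exact Nat.card_congr (Equiv.setCongr (by rw [hSP]))

/-- Counting the cosets of `C(s)` fixed by `s` and by `v`. -/
theorem false_of_reflection [IsSimpleGroup G] (E : Model s e) (hna : ¬ IsMulCommutative G)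
    (hs : orderOf s = 2) (hH : Nat.card ↥(centralizer ({s} : Set G)) = 192)
    (hrefl : ∀ k t : G, k ^ 3 = 1 → k ≠ 1 → t * t = 1 → t ≠ 1 → t * k = k * t → IsConj s t)
    (hz : IsConj s (e zEl)) (hx : IsConj s (e xEl)) (hxs : IsConj s (e xsEl)) : False := by
  classical
  obtain ⟨f1, f2, f3, f4, f5, f6⟩ := facts
  have hnc := E.not_isConj
  have h16 := E.card_cent hH hrefl hx hxs
  have hss := sq_of_orderOf hs
  have hs1 : s ≠ 1 := fun h0 => by rw [h0, orderOf_one] at hs; omega
  have hinv : ∀ {t : G} {a : El}, t * t = 1 → t ≠ 1 → IsConj t (e a) → mul a a = one ∧ a ≠ one := by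
    intro t a ht ht1 hc
    obtain ⟨c, hc⟩ := isConj_iff.1 hc
    refine ⟨E.sq_iff.1 (by rw [← hc]; show cj c t * cj c t = 1; rw [← cj_mul, ht]; simp [cj]), fun h0 => ?_⟩
    rw [h0, E.e_one] at hc
    exact ht1 (conj_eq_one_iff.1 hc)
  have hsv : ∀ a, IsConj s (e a) ↔ mul a a = one ∧ a ≠ one ∧ ¬ CjM vEl a := by
    intro a
    constructor
    · intro h
      exact ⟨(hinv hss hs1 h).1, (hinv hss hs1 h).2, fun hc => hnc (h.trans (E.conj_of hc).symm)⟩
    · rintro ⟨h1, h2, h3⟩
      rcases classification a h1 with h | h | h | h | h | h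
      · exact absurd h h2
      · rw [h, E.e_s]
      · exact hz.trans (E.conj_of h)
      · exact hx.trans (E.conj_of h)
      · exact hxs.trans (E.conj_of h)
      · exact absurd h h3
  have hvs : ∀ a, IsConj (e vEl) (e a) ↔ CjM vEl a := by
    refine fun a => ⟨fun h => ?_, E.conj_of⟩
    obtain ⟨h1, h2⟩ := hinv (E.sq_iff.2 f4) (fun h0 => f5 (E.inj (h0.trans E.e_one.symm))) h
    rcases classification a h1 with h' | h' | h' | h' | h' | h'
    · exact absurd h' h2
    · rw [h', E.e_s] at h; exact absurd h.symm hnc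
    · exact absurd ((hz.trans (E.conj_of h')).trans h.symm) hnc
    · exact absurd ((hx.trans (E.conj_of h')).trans h.symm) hnc
    · exact absurd ((hxs.trans (E.conj_of h')).trans h.symm) hnc
    · exact h'
  set H : Subgroup G := centralizer ({s} : Set G) with hHdef
  have hcv : Nat.card (classIn (e vEl) H) = 12 := by
    rw [← card_class_v]
    exact E.card_set _ _ (fun q hq => mem_centralizer_singleton_iff.1 hq.2) fun a =>
      (and_iff_left (mem_centralizer_singleton_iff.2 (E.mem a))).trans (hvs a)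
  have hcs : Nat.card (classIn s H) = 31 := by
    rw [← card_rest]
    exact E.card_set _ _ (fun q hq => mem_centralizer_singleton_iff.1 hq.2) fun a =>
      (and_iff_left (mem_centralizer_singleton_iff.2 (E.mem a))).trans (hsv a)
  have a1 := card_fixed_mul (e vEl) H
  have a2 := card_fixed_mul s H
  rw [h16, hcv, hH] at a1
  rw [hcs, ← hHdef, hH] at a2
  have b1 := index_modEq_fixed hna
    (orderOf_of_sq (E.sq_iff.2 f4) (fun h0 => f5 (E.inj (h0.trans E.e_one.symm)))) H
  have b2 := index_modEq_fixed hna hs H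
  rw [Nat.ModEq] at b1 b2
  omega

end Model

end H192

end Cfsg.Agent.M11Local
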