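import Cfsg.Agent.Lib.M11Local.TypeAThree
import Cfsg.Agent.Lib.M11Local.CaseAEight
import Cfsg.Agent.Lib.M11Local.CaseAModelEnd

/-!
# Case A with `|U| = 32` (S3717; owner helper21)

* `TypeA.exists_w` : an element of order 4 moved by `z`
* `TypeA.u_surj` : `U` is generated by `x`, `w` and their translates
* `TypeA.false_of_central` : `x` is not central in `U`
* `TypeA.false_of_thirtyTwo` : `|U| = 32` is impossible
-/

set_option autoImplicit false
set_option linter.unusedSectionVars false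

namespace Cfsg.Agent.M11Local

open Subgroup H192

variable {G : Type*} [Group G] [Finite G] {M U : Subgroup G} {g g' a s x : G}

set_option maxRecDepth 100000 in
theorem perm3_gen : ∀ p q : Equiv.Perm (Fin 3), p ^ 3 = 1 → p ≠ 1 → q * q = 1 → q ≠ 1 →
    ∀ r, ∃ n : Fin 3, ∃ b : Bool, r = p ^ (n : ℕ) * (bif b then q else 1) := by
  decide +kernel

/-- The image of an exponent under a homomorphism. -/
theorem map_ap {H₁ H₂ : Type*} [Group H₁] [Group H₂] (f : H₁ →* H₂) (b : Bool) (t r : H₁) :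
    f (Frame.ap b t r) = Frame.ap b (f t) (f r) := by
  cases b
  · rfl
  · exact map_mul f t r

/-- An element of `U` moved by `z` by `s`, with square `s` and trivial norm. -/
theorem TypeA.exists_w (T : TypeA s) (L : Local M g g' a s) (hU : Nat.card T.uSub = 32)
    (hC : ∀ u ∈ T.uSub, u * a ^ 4 = a ^ 4 * u → u = 1 ∨ u = s ∨ u = x ∨ u = x * s) :
    T.wSub = T.uSub ∧ IsConj s (a ^ 4) ∧ ∃ w ∈ T.uSub, w * w = s ∧ cj (a ^ 4) w = w * s ∧
      w * cj g w * cj (g ^ 2) w = 1 := by
  classical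
  have hG := T.good L
  obtain ⟨w1, hw1, hw1z⟩ : ∃ w ∈ T.uSub, cj (a ^ 4) w = w * s := by
    by_contra h
    push Not at h
    have hlift := hG.card_le_of_lift L h
    rw [hU] at hlift
    have hle : Nat.card ↥(T.uSub ⊓ centralizer ({a ^ 4} : Set G)) ≤ 4 := by
      refine le_trans ?_ (Finset.card_le_four (a := (1 : G)) (b := s) (c := x) (d := x * s))
      rw [← Set.ncard_coe_finset]
      refine le_of_eq_of_le (Nat.card_coe_set_eq _) (Set.ncard_le_ncard ?_ (Finset.finite_toSet _))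
      intro u hu
      rcases hC u hu.1 (mem_centralizer_singleton_iff.1 hu.2) with h | h | h | h <;> simp [h]
    have h16 := hlift.trans (Nat.pow_le_pow_left hle 2)
    norm_num at h16
  obtain ⟨hc1, -, -⟩ := T.conj_z L hw1 hw1z
  refine ⟨T.w_eq_u L hw1 hw1z, (isConj_iff.2 ⟨_, hc1⟩ : IsConj (a ^ 4) s).symm, ?_⟩
  obtain ⟨hv, hv2, hvz⟩ := T.conj_a_sq L hw1 hw1z
  set v := cj (a ^ 2 * w1) (a ^ 2)
  rcases hG.norm L hv with hn | hn
  · exact ⟨v, hv, hv2, hvz, hn⟩
  have hgs : ∀ k : ℕ, cj (g ^ k) s = s := fun k =>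
    cj_eq_self.2 ((show Commute g s from L.sg.symm).pow_left k).eq
  have hzs : cj (a ^ 4) s = s := cj_eq_self.2 L.s_z.symm
  have hc : ∀ u ∈ T.uSub, ∀ r : G, s * (u * r) = u * (s * r) := fun u hu r =>
    Frame.rot' (T.le_cent (T.u_le hu)).symm
  have hsv : Commute s v := (T.le_cent (T.u_le hv)).symm
  refine ⟨v * s, T.uSub.mul_mem hv (T.s_mem_u L), ?_, ?_, ?_⟩
  · rw [mul_assoc, hc v hv, ← mul_assoc, L.s_sq, hv2, mul_one]
  · rw [cj_mul, hvz, hzs]
  · rw [cj_mul g v s, cj_mul (g ^ 2) v s, hgs 2, show cj g s = s by simpa using hgs 1]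
    have h1 : s * (cj g v * s) = cj g v := by
      rw [hc _ (hG.g_inv v hv), L.s_sq, mul_one]
    calc v * s * (cj g v * s) * (cj (g ^ 2) v * s) = v * cj g v * cj (g ^ 2) v * s := by
          rw [mul_assoc v s, h1]; simp only [mul_assoc]
      _ = 1 := by rw [hn, L.s_sq]

/-- `U` is generated by `x`, `w` and their translates. -/
theorem TypeA.u_surj (T : TypeA s) (L : Local M g g' a s) (A : Axis g a s x) (hxU : x ∈ T.uSub)
    (hU : Nat.card T.uSub = 32) {w : G} (hw : w ∈ T.uSub) (hww : w * w = s)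
    (hwz : cj (a ^ 4) w = w * s) (hxw : x * w = w * x) :
    ∀ u ∈ T.uSub, ∃ p, Frame.ev5 x w (cj g x) (cj g w) s p = u := by
  classical
  have hG := T.good L
  haveI := hG.normal L
  obtain ⟨φ, ζ, hφ, hζ, hζφ, hφm, hζm⟩ := hG.exists_maps L
  have hyU := hG.g_inv x hxU
  have hQU := hG.g_inv w hw
  have hzs : cj (a ^ 4) s = s := cj_eq_self.2 L.s_z.symm
  have hapU : ∀ (b : Bool) {t r : G}, t ∈ T.uSub → r ∈ T.uSub → Frame.ap b t r ∈ T.uSub := by
    intro b t r ht hr
    cases b
    · exact hr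
    · exact T.uSub.mul_mem ht hr
  let Xu : T.uSub := ⟨x, hxU⟩
  let Wu : T.uSub := ⟨w, hw⟩
  let Yu : T.uSub := ⟨cj g x, hyU⟩
  let Qu : T.uSub := ⟨cj g w, hQU⟩
  let Su : T.uSub := ⟨s, T.s_mem_u L⟩
  let Φ : E5 → T.uSub := fun p => Frame.ev5 Xu Wu Yu Qu Su p
  have hΦ : ∀ p, ((Φ p : T.uSub) : G) = Frame.ev5 x w (cj g x) (cj g w) s p := by
    rintro ⟨i, j, k, l, e⟩
    show T.uSub.subtype (Frame.ap i Xu (Frame.ap j Wu (Frame.ap k Yu (Frame.ap l Qu (Frame.ap e Su 1))))) = _
    simp only [map_ap, map_one]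
    rfl
  suffices hinj : Function.Injective Φ by
    intro u hu
    obtain ⟨p, hp⟩ := (hinj.bijective_of_nat_card_le (by rw [hU]; simp)).2 ⟨u, hu⟩
    exact ⟨p, by rw [← hΦ, hp]⟩
  let π := QuotientGroup.mk' (sN T.uSub s)
  let B : Bool → Bool → T.uSub ⧸ sN T.uSub s := fun i j => Frame.ap i (π Xu) (Frame.ap j (π Wu) 1)
  have hS1 : π Su = 1 := by
    rw [QuotientGroup.mk'_apply, QuotientGroup.eq_one_iff, Subgroup.mem_subgroupOf]
    exact mem_zpowers s
  have hdec : ∀ i j k l e, π (Φ (i, j, k, l, e)) = B i j * φ (B k l) := by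
    intro i j k l e
    show π (Frame.ap i Xu (Frame.ap j Wu (Frame.ap k Yu (Frame.ap l Qu (Frame.ap e Su 1))))) = _
    simp only [B, map_ap, map_one, hS1, Frame.ap_mul, one_mul]
    rw [show φ (π Xu) = π Yu from hφm Xu, show φ (π Wu) = π Qu from hφm Wu]
    cases e <;> simp [Frame.ap]
  have hζX : ζ (π Xu) = π Xu :=
    (hζm Xu).trans (congrArg QuotientGroup.mk (Subtype.ext (cj_eq_self.2 A.comm_z.symm)))
  have hζW : ζ (π Wu) = π Wu := (hζm Wu).trans (by
    rw [QuotientGroup.mk'_apply, QuotientGroup.eq, Subgroup.mem_subgroupOf]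
    show (cj (a ^ 4) w)⁻¹ * w ∈ zpowers s
    rw [hwz, mul_inv_rev, inv_mul_cancel_right]
    exact inv_mem (mem_zpowers s))
  have hζB : ∀ i j, ζ (B i j) = B i j := fun i j => by
    show ζ (Frame.ap i (π Xu) (Frame.ap j (π Wu) 1)) = _
    rw [map_ap, map_ap, map_one, hζX, hζW]
  have hne : ∀ i j, B i j = 1 → i = false ∧ j = false := by
    intro i j h
    have h' : π (Frame.ap i Xu (Frame.ap j Wu 1)) = 1 := by rw [map_ap, map_ap, map_one]; exact h
    rw [QuotientGroup.mk'_apply, QuotientGroup.eq_one_iff, Subgroup.mem_subgroupOf] at h'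
    have h2 : T.uSub.subtype (Frame.ap i Xu (Frame.ap j Wu 1)) = 1 ∨
        T.uSub.subtype (Frame.ap i Xu (Frame.ap j Wu 1)) = s := mem_zpowers_sq L.s_sq h'
    simp only [map_ap, map_one, Subgroup.coe_subtype] at h2
    change Frame.ap i x (Frame.ap j w 1) = 1 ∨ Frame.ap i x (Frame.ap j w 1) = s at h2
    have hfix : cj (a ^ 4) (Frame.ap i x (Frame.ap j w 1)) = Frame.ap i x (Frame.ap j w 1) := by
      rcases h2 with e | e <;> rw [e]
      · simp [cj]
      · exact hzs
    cases j
    · refine ⟨?_, rfl⟩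
      cases i
      · rfl
      · exfalso
        simp only [Frame.ap, cond_true, cond_false, mul_one] at h2
        rcases h2 with e | e
        · exact A.ne_one e
        · exact A.ne_s e
    · exfalso
      have hx' : cj (a ^ 4) x = x := cj_eq_self.2 A.comm_z.symm
      cases i <;> simp only [Frame.ap, cond_true, cond_false, mul_one] at hfix
      · rw [hwz] at hfix; exact L.s_ne (mul_eq_left.1 hfix)
      · rw [cj_mul, hwz, hx', mul_right_inj] at hfix; exact L.s_ne (mul_eq_left.1 hfix)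
  have hXW : π Xu * π Wu = π Wu * π Xu := by
    rw [← map_mul, ← map_mul, show Xu * Wu = Wu * Xu from Subtype.ext hxw]
  have hXX : π Xu * π Xu = 1 := by
    rw [← map_mul, show Xu * Xu = 1 from Subtype.ext A.sq, map_one]
  have hWW : π Wu * π Wu = 1 := by
    rw [← map_mul, show Wu * Wu = Su from Subtype.ext hww, hS1]
  have hBinj : ∀ i j i' j', B i j = B i' j' → i = i' ∧ j = j' := by
    intro i j i' j' h
    have n1 : π Xu ≠ 1 := fun e => by simpa using hne true false (by simpa [B, Frame.ap] using e)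
    have n2 : π Wu ≠ 1 := fun e => by simpa using hne false true (by simpa [B, Frame.ap] using e)
    have n3 : π Xu * π Wu ≠ 1 := fun e => by simpa using hne true true (by simpa [B, Frame.ap] using e)
    have n4 : π Xu ≠ π Wu := fun e => n3 (by rw [e, hWW])
    cases i <;> cases j <;> cases i' <;> cases j' <;>
      simp [B, Frame.ap, n1, n2, n3, n4, n1.symm, n2.symm, n3.symm, n4.symm] at h ⊢
  rintro ⟨i, j, k, l, e⟩ ⟨i', j', k', l', e'⟩ h
  have h1 := congrArg π h
  rw [hdec, hdec] at h1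
  have h2 : (B i' j')⁻¹ * B i j = φ (B k' l' * (B k l)⁻¹) := by
    rw [map_mul, map_inv, eq_mul_inv_iff_mul_eq, mul_assoc, h1, inv_mul_cancel_left]
  set c := B k' l' * (B k l)⁻¹ with hc
  have hcz : ζ c = c := by rw [hc, map_mul, map_inv, hζB, hζB]
  have hcz' : ζ (φ c) = φ c := by rw [← h2, map_mul, map_inv, hζB, hζB]
  have hc1 : c = 1 := by
    refine hφ.fix c ?_
    rw [hζφ, hcz] at hcz'
    have hinj : Function.Injective φ := fun p q hpq => by rw [← hφ.cube p, hpq, hφ.cube]
    exact hinj hcz'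
  obtain ⟨rfl, rfl⟩ := hBinj _ _ _ _ (mul_inv_eq_one.1 (hc ▸ hc1))
  rw [hc1, map_one, inv_mul_eq_one] at h2
  obtain ⟨rfl, rfl⟩ := hBinj _ _ _ _ h2
  have h3 : ∀ (b : Bool) {t r r' : T.uSub}, Frame.ap b t r = Frame.ap b t r' → r = r' := by
    intro b t r r' h
    cases b
    · exact h
    · exact mul_left_cancel h
  have h4 := h3 _ (h3 _ (h3 _ (h3 _ h)))
  have hSu : Su ≠ 1 := fun e => L.s_ne (congrArg Subtype.val e)
  cases e <;> cases e' <;> simp [Frame.ap, hSu, hSu.symm] at h4 ⊢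

/-- `x` is not central in `U`. -/
theorem TypeA.false_of_central (T : TypeA s) (L : Local M g g' a s) (A : Axis g a s x)
    (hxU : x ∈ T.uSub) (hU : Nat.card T.uSub = 32) (hWU : T.wSub = T.uSub)
    (hC : ∀ u ∈ T.uSub, u * a ^ 4 = a ^ 4 * u → u = 1 ∨ u = s ∨ u = x ∨ u = x * s)
    (hcen : ∀ u ∈ T.uSub, u * x = x * u) : False := by
  classical
  haveI := Fact.mk Nat.prime_two
  obtain ⟨h, -, -, -, -, hhx, hhs, -, -, -⟩ := A.exists_three L
  obtain ⟨cx, -, -, -, -⟩ := A.classes L
  obtain ⟨c, hc⟩ := isConj_iff.1 cx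
  have hG := T.good L
  have hH : Nat.card ↥(centralizer ({x} : Set G)) = 192 := by
    rw [card_centralizer_isConj cx, T.card_cent, hWU, hU]
  set Z : Subgroup G := zpowers (a ^ 4) with hZ
  set Tg : Subgroup G := Z ⊔ T.uSub with hTg
  have hTs : Tg ≤ centralizer ({s} : Set G) := sup_le
    (zpowers_le.2 (mem_centralizer_singleton_iff.2 L.s_z.symm))
    (fun u hu => mem_centralizer_singleton_iff.2 (T.le_cent (T.u_le hu)))
  have hTx : Tg ≤ centralizer ({x} : Set G) := sup_le
    (zpowers_le.2 (mem_centralizer_singleton_iff.2 A.comm_z.symm))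
    (fun u hu => mem_centralizer_singleton_iff.2 (hcen u hu))
  have hT2 : IsPGroup 2 Tg := by
    refine IsPGroup.to_sup_of_normal_right' (IsPGroup.of_card (n := 1)
      (by rw [Nat.card_zpowers, L.z_orderOf, pow_one])) hG.two ?_
    rw [hZ, zpowers_le, Subgroup.mem_normalizer_iff]
    refine fun u => ⟨hG.z_inv u, fun hu => ?_⟩
    have := hG.z_inv _ hu
    rwa [cj_cj, L.z_sq, cj_one] at this
  set N : Subgroup G := T.uSub.map (MulAut.conj c).toMonoidHom with hN
  have hNx : N ≤ centralizer ({x} : Set G) := by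
    rintro _ ⟨u, hu, rfl⟩
    have := cj_commute (c := c) (T.le_cent (T.u_le hu))
    rw [show cj c s = x from hc] at this
    exact mem_centralizer_singleton_iff.2 this
  have hNn : ∀ k ∈ centralizer ({x} : Set G), ∀ q ∈ N, cj k q ∈ N := by
    rintro k hk _ ⟨u, hu, rfl⟩
    have hkc : cj c⁻¹ k * s = s * cj c⁻¹ k := by
      have := cj_commute (c := c⁻¹) (mem_centralizer_singleton_iff.1 hk)
      rwa [show cj c⁻¹ x = s by rw [← hc]; exact cj_inv_cj c s] at this
    refine ⟨cj (cj c⁻¹ k) u, T.u_conj hkc hu, ?_⟩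
    show cj c (cj (cj c⁻¹ k) u) = cj k (cj c u)
    simp [cj, mul_assoc]
  have hTN : Tg ≤ normalizer (N : Set G) := fun k hk => Subgroup.mem_normalizer_iff.2 fun q =>
    ⟨hNn k (hTx hk) q, fun hq => by
      have h1 : cj k⁻¹ (cj k q) ∈ N := hNn k⁻¹ (inv_mem (hTx hk)) _ hq
      rwa [cj_inv_cj] at h1⟩
  have hB : IsPGroup 2 ↥(Tg ⊔ N) :=
    IsPGroup.to_sup_of_normal_right' hT2 (hG.two.map _) hTN
  obtain ⟨i, hi⟩ := IsPGroup.iff_card.1 hB
  obtain ⟨j, hj⟩ := IsPGroup.iff_card.1 hT2
  have hlt : 32 < Nat.card Tg := by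
    rw [← hU]
    refine Set.ncard_lt_ncard ?_ (Set.toFinite _) |>.trans_eq' (Nat.card_coe_set_eq _) |>.trans_eq
      (Nat.card_coe_set_eq _).symm
    exact ⟨le_sup_right (a := Z), fun hle => T.z_notMem L (T.u_le (hle (mem_sup_left (mem_zpowers _))))⟩
  have hd : 2 ^ i ∣ 3 * 2 ^ 6 := by
    rw [show 3 * 2 ^ 6 = 192 from rfl, ← hH, ← hi]
    exact Subgroup.card_dvd_of_le (sup_le hTx hNx)
  have hi6 : i ≤ 6 := (Nat.pow_dvd_pow_iff_le_right (by norm_num)).1
    ((Nat.Coprime.pow_left i (by norm_num : Nat.Coprime 2 3)).dvd_of_dvd_mul_left hd)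
  have hj6 : 5 < j := (Nat.pow_lt_pow_iff_right (by norm_num : 1 < 2)).1
    (show 2 ^ 5 < 2 ^ j by rw [← hj]; exact hlt)
  have heq : Tg = Tg ⊔ N := Subgroup.eq_of_le_of_card_ge le_sup_left (by
    rw [hi, hj]; exact Nat.pow_le_pow_right (by norm_num) (by omega))
  have hNs : ∀ q ∈ N, q * s = s * q := fun q hq =>
    mem_centralizer_singleton_iff.1 (hTs (heq ▸ mem_sup_right hq))
  have hNz : ∀ q ∈ N, q * a ^ 4 = a ^ 4 * q := by
    intro q hq
    have hhK : h⁻¹ ∈ centralizer ({x} : Set G) := inv_mem (mem_centralizer_singleton_iff.2 hhx)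
    have h1 := cj_commute (c := h) (hNs _ (hNn _ hhK q hq))
    rw [cj_cj_inv, hhs] at h1
    have h2 := (show Commute q (s * a ^ 4) from h1)
    have h3 := (show Commute q s from hNs q hq).mul_right h2
    rwa [← mul_assoc, L.s_sq, one_mul] at h3
  have hle : (N : Set G) ⊆ ↑(Finset.image (fun p : G × Bool => bif p.2 then p.1 * a ^ 4 else p.1)
      (({1, s, x, x * s} : Finset G) ×ˢ (Finset.univ : Finset Bool))) := by
    intro q hq
    simp only [Finset.coe_image, Set.mem_image, Finset.mem_coe, Finset.mem_product, Finset.mem_univ,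
      and_true, Prod.exists]
    rcases T.cV_cases L (hNs q hq) (hNz q hq) with hm | hm <;> rw [hWU] at hm
    · refine ⟨q, false, ?_, rfl⟩
      rcases hC q hm (hNz q hq) with e | e | e | e <;> simp [e]
    · refine ⟨q * a ^ 4, true, ?_, by simp [mul_assoc, L.z_sq]⟩
      rcases hC _ hm ((show Commute q (a ^ 4) from hNz q hq).mul_left (Commute.refl _)).eq with
        e | e | e | e <;> simp [e]
  have h1 := Set.ncard_le_ncard hle (Finset.finite_toSet _)
  rw [Set.ncard_coe_finset, ← Nat.card_coe_set_eq] at h1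
  have h2 : Nat.card N = 32 := by
    rw [hN, Subgroup.card_map_of_injective (MulAut.conj c).injective, hU]
  have h3 := h1.trans (Finset.card_image_le.trans (le_of_eq (Finset.card_product _ _)))
  have h4 : ({1, s, x, x * s} : Finset G).card ≤ 4 := Finset.card_le_four
  rw [Finset.card_univ, Fintype.card_bool] at h3
  change Nat.card N ≤ _ at h3
  omega

/-- `|U| = 32` is impossible. -/
theorem TypeA.false_of_thirtyTwo [IsSimpleGroup G] (T : TypeA s) (L : Local M g g' a s)
    (hna : ¬ IsMulCommutative G) (A : Axis g a s x) (hxU : x ∈ T.uSub) (hU : Nat.card T.uSub = 32)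
    (hC : ∀ u ∈ T.uSub, u * a ^ 4 = a ^ 4 * u → u = 1 ∨ u = s ∨ u = x ∨ u = x * s) : False := by
  classical
  obtain ⟨hWU, hzs', w, hw, hww, hwz, hn⟩ := T.exists_w L hU hC
  obtain ⟨cx, -, cxs, -, -⟩ := A.classes L
  obtain ⟨hyy, hxy, hys, hy2, -⟩ := A.translate L
  have hG := T.good L
  set z := a ^ 4 with hz
  have hs2 := L.s_sq
  have hgs : cj g s = s := cj_eq_self.2 L.sg.symm
  have hgg : g⁻¹ = g * g := inv_eq_of_mul_eq_one_right (by rw [← pow_three, L.g_cube])
  have hzg : z * g = g * g * z := by rw [← hgg]; exact cj_eq_iff.1 L.z_g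
  have hzcj : ∀ r, cj z (cj g r) = cj (g ^ 2) (cj z r) := fun r => by
    rw [cj_cj, cj_cj, hzg, pow_two]
  have hxz : cj z x = x := cj_eq_self.2 A.comm_z.symm
  have hgg2 : ∀ r, cj g (cj g r) = cj (g ^ 2) r := fun r => by rw [cj_cj, pow_two]
  set y := cj g x with hy
  set Q := cj g w with hQ
  have hQU : Q ∈ T.uSub := hG.g_inv w hw
  have hsw : s * w = w * s := (T.le_cent (T.u_le hw)).symm
  have hsQ : s * Q = Q * s := (T.le_cent (T.u_le hQU)).symm
  have hsx : s * x = x * s := A.comm_s.symm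
  have hQQ : Q * Q = s := by rw [hQ, ← cj_mul, hww, hgs]
  have hQ2 : cj (g ^ 2) w = Q⁻¹ * w⁻¹ := by
    rw [eq_inv_of_mul_eq_one_right hn, mul_inv_rev]
  have hwi : w⁻¹ = w * s := inv_eq_of_mul_eq_one_right (by rw [← mul_assoc, hww, hs2])
  have hQi : Q⁻¹ = Q * s := inv_eq_of_mul_eq_one_right (by rw [← mul_assoc, hQQ, hs2])
  have cs : ∀ r, s * (s * r) = r := fun r => by rw [← mul_assoc, hs2, one_mul]
  have hQ2' : cj (g ^ 2) w = Q * w := by
    rw [hQ2, hwi, hQi, mul_assoc, Frame.rot' hsw, hs2, mul_one]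
  -- `w` and `Q` do not commute
  have hwQ : w * Q = Q * w * s := by
    rcases hG.shift L hw hw (Or.inl rfl) with h | h
    · exfalso
      have h1 : cj (g ^ 2) w * cj (g ^ 2) w = s := by rw [← cj_mul, hww, ← hgg2, hgs, hgs]
      rw [hQ2'] at h1
      have h2 : Q * w * (Q * w) = 1 := by
        rw [mul_assoc, ← mul_assoc w Q, h, mul_assoc Q w, hww, ← mul_assoc Q Q, hQQ, hs2]
      exact L.s_ne (h1.symm.trans h2)
    · exact h
  have hzQ : cj z Q = w * Q := by
    rw [hQ, hzcj, hwz, cj_mul (g ^ 2) w s, show cj (g ^ 2) s = s by rw [← hgg2, hgs, hgs], hQ2', hwQ]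
  have hgQ : cj g Q = w * Q * s := by
    rw [show cj g Q = cj (g ^ 2) w from hgg2 w, hQ2', hwQ, mul_assoc (Q * w) s s, hs2, mul_one]
  -- `x` and `w` commute modulo `s`
  have hxw0 : x * w = w * x ∨ x * w = w * x * s := by
    have hu : x * w * x ∈ T.uSub := T.uSub.mul_mem (T.uSub.mul_mem hxU hw) hxU
    have hfix : (w⁻¹ * (x * w * x)) * z = z * (w⁻¹ * (x * w * x)) := by
      refine (cj_eq_self.1 ?_).symm
      have e : w * s * x = w * x * s := by rw [mul_assoc, hsx, ← mul_assoc]
      rw [cj_mul, cj_inv, hwz, cj_mul, cj_mul, hxz, hwz, mul_inv_rev, L.s_inv]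
      have c1 : ∀ r, s * (w⁻¹ * r) = w⁻¹ * (s * r) := fun r =>
        Frame.rot' ((show Commute s w from hsw).inv_right).eq
      simp only [mul_assoc, c1, Frame.rot' hsw, Frame.rot' hsx, hsx, cs, hs2, mul_one]
    rcases hC _ (T.uSub.mul_mem (T.uSub.inv_mem hw) hu) hfix with h | h | h | h <;>
      rw [inv_mul_eq_iff_eq_mul] at h
    · left
      rw [mul_one] at h
      calc x * w = x * w * x * x := by rw [mul_assoc, A.sq, mul_one]
        _ = w * x := by rw [h]
    · right
      calc x * w = x * w * x * x := by rw [mul_assoc, A.sq, mul_one]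
        _ = w * x * s := by rw [h, mul_assoc, hsx, ← mul_assoc]
    · exfalso
      have h' : x * w = w := mul_right_cancel h
      exact A.ne_one (mul_eq_right.1 h')
    · exfalso
      rw [← hsx, ← mul_assoc] at h
      have h' : x * w = w * s := mul_right_cancel h
      rw [← hsw] at h'
      exact A.ne_s (mul_right_cancel h')
  have hxQ : x * Q = Q * x ∨ x * Q = Q * x * s := hG.shift L hxU hw hxw0
  -- `x` and `w` commute
  have hxw : x * w = w * x := by
    rcases hxw0 with h | h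
    · exact h
    exfalso
    have hsxQ : ∀ r, s * (Q * r) = Q * (s * r) := fun r => Frame.rot' hsQ
    rcases hxQ with h' | h'
    · have h1 := cj_commute (c := z) h'
      rw [hxz, hzQ] at h1
      have h2 : x * (w * Q) = w * Q * x * s := by
        rw [← mul_assoc, h, mul_assoc, hsQ, ← mul_assoc, mul_assoc w x, h', ← mul_assoc]
      rw [h2] at h1
      exact L.s_ne (mul_eq_left.1 h1)
    · have h1 : cj z (x * Q) = cj z (Q * x * s) := by rw [h']
      rw [cj_mul z x Q, cj_mul z (Q * x) s, cj_mul z Q x, hxz, hzQ, show cj z s = s from cj_eq_self.2 L.s_z.symm] at h1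
      have h2 : x * (w * Q) = w * Q * x := by
        rw [← mul_assoc, h, mul_assoc, hsQ, ← mul_assoc, mul_assoc w x, h', ← mul_assoc, ← mul_assoc,
          mul_assoc _ s, hs2, mul_one]
      rw [h2] at h1
      exact L.s_ne (mul_eq_left.1 h1.symm)
  have hsurj := T.u_surj L A hxU hU hw hww hwz hxw
  have hyQ : y * Q = Q * y := cj_commute hxw
  rcases hxQ with hd | hd
  · -- `x` is central
    refine T.false_of_central L A hxU hU hWU hC fun u hu => ?_
    obtain ⟨⟨i, j, k, l, e⟩, rfl⟩ := hsurj u hu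
    have key : ∀ (b : Bool) {t r : G}, Commute t x → Commute r x → Commute (Frame.ap b t r) x := by
      intro b t r h1 h2
      cases b
      · exact h2
      · exact h1.mul_left h2
    exact key i (Commute.refl x) (key j hxw.symm (key k hxy.symm (key l hd.symm
      (key e hsx (Commute.one_left x)))))
  · have hyw : y * w = w * y * s := by
      have h1 : cj g (x * Q) = cj g (Q * x * s) := by rw [hd]
      rw [cj_mul, cj_mul g (Q * x) s, cj_mul g Q x, hgs, hgQ, ← hy] at h1
      have e1 : y * (w * Q * s) = y * w * Q * s := by simp only [← mul_assoc]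
      have e2 : w * Q * s * y * s = w * y * s * Q * s := by
        have c1 : ∀ r, s * (y * r) = y * (s * r) := fun r => Frame.rot' hys.symm
        have c2 : ∀ r, y * (Q * r) = Q * (y * r) := fun r => Frame.rot' hyQ
        have c3 : ∀ r, s * (Q * r) = Q * (s * r) := fun r => Frame.rot' hsQ
        simp only [mul_assoc, c1, c2, c3]
      rw [e1, e2] at h1
      exact mul_right_cancel (mul_right_cancel h1)
    have hgy : g * y = x * y * s * g := by
      rw [← cj_eq_iff, hy, hgg2, hy2]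
    have F : Frame x w y Q s g z := {
      xx := A.sq, ww := hww, yy := hyy, QQ := hQQ, ss := hs2
      wx := hxw.symm, yx := hxy.symm, yw := hyw
      Qx := by rw [hd, mul_assoc (Q * x) s s, hs2, mul_one]
      Qw := by rw [hwQ, mul_assoc (Q * w) s s, hs2, mul_one]
      Qy := hyQ.symm
      sx := hsx, sw := hsw, sy := hys.symm, sQ := hsQ
      gx := cj_eq_iff.1 rfl, gw := cj_eq_iff.1 rfl, gy := hgy
      gQ := cj_eq_iff.1 hgQ, gs := L.sg.symm
      ggg := by rw [mul_assoc, ← pow_three, L.g_cube]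
      zx := cj_eq_iff.1 hxz, zw := cj_eq_iff.1 hwz
      zy := cj_eq_iff.1 (by rw [hy, hzcj, hxz, hy2])
      zQ := cj_eq_iff.1 hzQ, zs := L.s_z.symm
      zz := L.z_sq
      zg := hzg }
    set e := Frame.ev x w y Q s g z with he
    have hapC : ∀ (b : Bool) {t r : G}, Commute t s → Commute r s → Commute (Frame.ap b t r) s := by
      intro b t r h1 h2
      cases b
      · exact h2
      · exact h1.mul_left h2
    have hmem : ∀ p, e p * s = s * e p := by
      rintro ⟨⟨i, j, k, l, b'⟩, n, b⟩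
      exact ((hapC i hsx.symm (hapC j hsw.symm (hapC k hys (hapC l hsQ.symm (hapC b' (Commute.refl s)
        (Commute.one_left s)))))).mul_left
        (((show Commute g s from L.sg.symm).pow_left n).mul_left
          (hapC b L.s_z.symm (Commute.one_left s))))
    have hsurjH : ∀ h, h * s = s * h → ∃ p, e p = h := by
      intro h hh
      set C := centralizer ({s} : Set G)
      let G0 : C := ⟨g, mem_C L.sg.symm⟩
      let Z0 : C := ⟨z, mem_C L.s_z.symm⟩
      obtain ⟨n, b, hnb⟩ := perm3_gen (T.hom G0) (T.hom Z0)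
        (by rw [← map_pow, show G0 ^ 3 = 1 from Subtype.ext L.g_cube, map_one])
        (fun e => T.cube_notMem L.g_cube L.g_ne (T.mem_wSub.2 ⟨L.sg.symm, e⟩))
        (by rw [← map_mul, show Z0 * Z0 = 1 from Subtype.ext L.z_sq, map_one])
        (fun e => T.z_notMem L (T.mem_wSub.2 ⟨L.s_z.symm, e⟩)) (T.hom ⟨h, mem_C hh⟩)
      set r : C := G0 ^ (n : ℕ) * (bif b then Z0 else 1)
      have hr : T.hom r = T.hom ⟨h, mem_C hh⟩ := by
        rw [hnb, map_mul, map_pow]; cases b <;> simp
      have hu : h * (r : G)⁻¹ ∈ T.uSub := by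
        rw [← hWU]
        refine T.mem_wSub.2 ⟨((show Commute h s from hh).mul_left
          (show Commute (r : G) s from mem_centralizer_singleton_iff.1 r.2).inv_left).eq, ?_⟩
        show T.hom ((⟨h, mem_C hh⟩ : C) * r⁻¹) = 1
        rw [map_mul, map_inv, hr, mul_inv_cancel]
      obtain ⟨p, hp⟩ := hsurj _ hu
      refine ⟨(p, n, b), ?_⟩
      have hr' : (r : G) = g ^ (n : ℕ) * Frame.ap b z 1 := by
        show ((G0 ^ (n : ℕ) * (bif b then Z0 else 1) : C) : G) = _
        cases b <;> simp [Frame.ap, G0, Z0]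
      show Frame.ev5 x w y Q s p * (g ^ (n : ℕ) * Frame.ap b z 1) = h
      rw [hp, ← hr', inv_mul_cancel_right]
    have hH : Nat.card ↥(centralizer ({s} : Set G)) = 192 := by rw [T.card_cent, hWU, hU]
    have hinj : Function.Injective e := by
      let f : El → ↥(centralizer ({s} : Set G)) := fun p => ⟨e p, mem_C (hmem p)⟩
      have hf : Function.Surjective f := fun q => by
        obtain ⟨p, hp⟩ := hsurjH q (mem_centralizer_singleton_iff.1 q.2)
        exact ⟨p, Subtype.ext hp⟩
      have hb := hf.bijective_of_nat_card_le (by rw [hH]; simp)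
      exact fun p q h => hb.1 (Subtype.ext h)
    have hes : e sEl = s := by simp [he, Frame.ev, Frame.ev5, Frame.ap, sEl, ls, zero5]
    have hez : e zEl = z := by simp [he, Frame.ev, Frame.ev5, Frame.ap, zEl, zero5]
    have hex : e xEl = x := by simp [he, Frame.ev, Frame.ev5, Frame.ap, xEl, lx, zero5]
    have hexs : e xsEl = x * s := by simp [he, Frame.ev, Frame.ev5, Frame.ap, xsEl, lx, ls, zero5]
    have E : Model s e := ⟨F.map_mul, hinj, hmem, hsurjH, hes⟩
    refine E.false_of_reflection hna L.orderOf_s hH (fun k t hk hk1 ht ht1 htk => L.refl hk hk1 ht ht1 htk)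
      ?_ ?_ ?_
    · rw [hez]; exact hzs'
    · rw [hex]; exact cx
    · rw [hexs]; exact hzs'.trans cxs

end Cfsg.Agent.M11Local
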