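import Cfsg.Agent.Lib.M11Local.CaseASmall
import Cfsg.Agent.Lib.M11Local.CaseAEight
import Cfsg.Agent.Lib.M11Local.CaseAThirtyTwo

/-!
# Case A (S3717; owner helper21)

* `TypeA.iso` : if `C(s)` is an extension of a nilpotent group of order prime to 3 by `S₃`, the group is
  `M₁₁`
-/

set_option autoImplicit false
set_option linter.unusedSectionVars false

namespace Cfsg.Agent.M11Local

open Subgroup

variable {G : Type*} [Group G] [Finite G] {M : Subgroup G} {g g' a s : G}

/-- Case A. -/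
theorem TypeA.iso [IsSimpleGroup G] (T : TypeA s) (L : Local M g g' a s)
    (hna : ¬ IsMulCommutative G) (P : Sylow 3 G) (hP : Nat.card ↥(P : Subgroup G) = 9) :
    Cfsg.Spor.IsoM11 G := by
  classical
  have hG := T.good L
  rcases hG.key L with hI | ⟨x, A, hxI, hI⟩
  · exact T.iso_of_none L hna P hP hI
  exfalso
  have hxU : x ∈ T.uSub := (Good.mem_inter.1 hxI).1
  have hC : ∀ u ∈ T.uSub, u * a ^ 4 = a ^ 4 * u → u = 1 ∨ u = s ∨ u = x ∨ u = x * s := by
    intro u hu hz
    rcases T.centZ_cases L hu hz with h | h <;> rcases hI _ h with e | e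
    · exact Or.inl e
    · exact Or.inr (Or.inr (Or.inl e))
    · exact Or.inr (Or.inl (by rw [eq_inv_of_mul_eq_one_left e, L.s_inv]))
    · exact Or.inr (Or.inr (Or.inr (by rw [← e, mul_assoc, L.s_sq, mul_one])))
  have h4 : Nat.card ↥(T.uSub ⊓ centralizer ({a ^ 4} : Set G)) ≤ 4 := by
    refine le_trans ?_ (Finset.card_le_four (a := (1 : G)) (b := s) (c := x) (d := x * s))
    rw [← Set.ncard_coe_finset]
    refine le_of_eq_of_le (Nat.card_coe_set_eq _) (Set.ncard_le_ncard ?_ (Finset.finite_toSet _))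
    intro u hu
    rcases hC u hu.1 (mem_centralizer_singleton_iff.1 hu.2) with h | h | h | h <;> simp [h]
  have h32 : Nat.card T.uSub ≤ 32 := (hG.card_le L).trans (by
    calc 2 * Nat.card ↥(T.uSub ⊓ centralizer ({a ^ 4} : Set G)) ^ 2 ≤ 2 * 4 ^ 2 :=
          Nat.mul_le_mul_left 2 (Nat.pow_le_pow_left h4 2)
      _ = 32 := by norm_num)
  have h3 : 3 ≤ Nat.card T.uSub := by
    have hf : Function.Injective
        (![⟨1, T.uSub.one_mem⟩, ⟨s, T.s_mem_u L⟩, ⟨x, hxU⟩] : Fin 3 → T.uSub) := by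
      intro i j e
      fin_cases i <;> fin_cases j <;>
        simp [L.s_ne, L.s_ne.symm, A.ne_one, A.ne_one.symm, A.ne_s, A.ne_s.symm] at e ⊢
    simpa using Nat.card_le_card_of_injective _ hf
  obtain ⟨k, hk, hk3⟩ := hG.card_shape L
  have hk2 : k = 2 ∨ k = 4 := by
    have h16 : 2 ^ k ≤ 2 ^ 4 := by norm_num; omega
    have : k ≤ 4 := (Nat.pow_le_pow_iff_right (by norm_num : 1 < 2)).1 h16
    interval_cases k
    · omega
    · norm_num at hk3
    · exact Or.inl rfl
    · norm_num at hk3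
    · exact Or.inr rfl
  rcases hk2 with rfl | rfl
  · exact T.false_of_eight L hna A hxU (by rw [hk]; norm_num) hC
  · exact T.false_of_thirtyTwo L hna A hxU (by rw [hk]; norm_num) hC

end Cfsg.Agent.M11Local
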