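import Cfsg.Agent.Lib.M11Local.Basic

/-!
# A model of `C(s)` of order 192 (S3717; owner helper21)

`H192.El` : normal forms `x^i w^j y^k Q^l s^e g^n z^b` in `2^(1+4).S₃`, with the multiplication they obey.

* `H192.Frame` : the relations between the generators in a group
* `H192.Frame.map_mul` : the evaluation map respects the multiplication
* `H192.classification`, `H192.no_derived`, ... : facts checked in the model
-/

set_option autoImplicit false

namespace Cfsg.Agent.M11Local

namespace H192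

/-- The exponents of `x, w, y, Q, s`. -/
abbrev E5 := Bool × Bool × Bool × Bool × Bool

/-- The exponents of `x, w, y, Q, s, g, z`. -/
abbrev El := E5 × Fin 3 × Bool

instance decEqE5 : DecidableEq E5 := inferInstance
instance decEqEl : DecidableEq El := inferInstance

def lx : E5 → E5 | (i, j, k, l, e) => (!i, j, k, l, e)
def lw : E5 → E5 | (i, j, k, l, e) => (i, !j, k, l, xor e j)
def ly : E5 → E5 | (i, j, k, l, e) => (i, j, !k, l, xor e j)
def lq : E5 → E5 | (i, j, k, l, e) => (i, j, k, !l, xor (xor e i) (xor j l))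
def ls : E5 → E5 | (i, j, k, l, e) => (i, j, k, l, !e)

/-- Apply `f` or not. -/
def when' {α : Type*} (b : Bool) (f : α → α) (p : α) : α := bif b then f p else p

/-- The zero exponent. -/
def zero5 : E5 := (false, false, false, false, false)

/-- Conjugation by `g`. -/
def actG : E5 → E5 := fun ⟨i, j, k, l, e⟩ =>
  when' i ly (when' j lq (when' k (fun p => lx (ly (ls p))) (when' l (fun p => lw (lq (ls p)))
    (when' e ls zero5))))

/-- Conjugation by `z`. -/
def actZ : E5 → E5 := fun ⟨i, j, k, l, e⟩ =>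
  when' i lx (when' j (fun p => lw (ls p)) (when' k (fun p => lx (ly (ls p)))
    (when' l (fun p => lw (lq p)) (when' e ls zero5))))

def onU (f : E5 → E5) : El → El | (p, n, b) => (f p, n, b)

def lg : El → El | (p, n, b) => (actG p, n + 1, b)
def lz : El → El | (p, n, b) => (actZ p, -n, !b)

def lgPow : Fin 3 → El → El
  | 0 => id
  | 1 => lg
  | 2 => fun c => lg (lg c)

/-- The multiplication. -/
def mul : El → El → El := fun ⟨⟨i, j, k, l, e⟩, n, b⟩ c =>
  when' i (onU lx) (when' j (onU lw) (when' k (onU ly) (when' l (onU lq) (when' e (onU ls)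
    (lgPow n (when' b lz c))))))

def one : El := (zero5, 0, false)
def sEl : El := (ls zero5, 0, false)
def xEl : El := (lx zero5, 0, false)
def xsEl : El := (lx (ls zero5), 0, false)
def yEl : El := (ly zero5, 0, false)
/-- The element `x w`. -/
def qEl : El := (lx (lw zero5), 0, false)
/-- The element `x Q`. -/
def vEl : El := (lx (lq zero5), 0, false)
def zEl : El := (zero5, 0, true)

/-- Conjugacy in the model. -/
abbrev CjM (t h : El) : Prop := ∃ c : El, mul c t = mul h c

set_option maxRecDepth 100000 in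
set_option synthInstance.maxSize 4096 in
theorem classification : ∀ h : El, mul h h = one → h = one ∨ h = sEl ∨
    CjM zEl h ∨ CjM xEl h ∨ CjM xsEl h ∨ CjM vEl h := by
  decide +kernel

set_option maxRecDepth 100000 in
set_option synthInstance.maxSize 4096 in
theorem card_class_v : (Finset.univ.filter fun h : El => CjM vEl h).card = 12 := by
  decide +kernel

set_option maxRecDepth 100000 in
set_option synthInstance.maxSize 4096 in
theorem card_rest :
    (Finset.univ.filter fun h : El => mul h h = one ∧ h ≠ one ∧ ¬ CjM vEl h).card = 31 := by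
  decide +kernel

set_option maxRecDepth 100000 in
set_option synthInstance.maxSize 4096 in
theorem card_cent_v : (Finset.univ.filter fun h : El => mul h vEl = mul vEl h).card = 16 := by
  decide +kernel

set_option maxRecDepth 100000 in
set_option synthInstance.maxSize 4096 in
theorem cent_v_comm : ∀ p : El, mul p vEl = mul vEl p → ∀ q : El, mul q vEl = mul vEl q →
    mul p q = mul q p ∨ mul p q = mul (mul q p) sEl := by
  decide +kernel

set_option maxRecDepth 100000 in
set_option synthInstance.maxSize 4096 in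
theorem facts : mul yEl qEl = mul (mul qEl yEl) sEl ∧ mul yEl vEl = mul vEl yEl ∧
    mul qEl vEl = mul vEl qEl ∧ mul vEl vEl = one ∧ vEl ≠ one ∧ vEl ≠ sEl := by
  decide +kernel

set_option maxRecDepth 100000 in
set_option synthInstance.maxSize 4096 in
theorem no_derived : ∀ h : El, mul h h = one → h ≠ one → h ≠ sEl →
    (Finset.univ.filter fun q : El => mul q h = mul h q).card = 16 →
    ∀ p : El, mul p h = mul h p → ∀ q : El, mul q h = mul h q → mul p q ≠ mul (mul q p) h := by
  decide +kernel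

/-- The relations of the generators. -/
structure Frame {G : Type*} [Group G] (x w y Q s g z : G) : Prop where
  xx : x * x = 1
  ww : w * w = s
  yy : y * y = 1
  QQ : Q * Q = s
  ss : s * s = 1
  wx : w * x = x * w
  yx : y * x = x * y
  yw : y * w = w * y * s
  Qx : Q * x = x * Q * s
  Qw : Q * w = w * Q * s
  Qy : Q * y = y * Q
  sx : s * x = x * s
  sw : s * w = w * s
  sy : s * y = y * s
  sQ : s * Q = Q * s
  gx : g * x = y * g
  gw : g * w = Q * g
  gy : g * y = x * y * s * g
  gQ : g * Q = w * Q * s * g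
  gs : g * s = s * g
  ggg : g * g * g = 1
  zx : z * x = x * z
  zw : z * w = w * s * z
  zy : z * y = x * y * s * z
  zQ : z * Q = w * Q * z
  zs : z * s = s * z
  zz : z * z = 1
  zg : z * g = g * g * z

namespace Frame

variable {G : Type*} [Group G] {x w y Q s g z : G}

/-- `t * r` or `r`. -/
def ap (b : Bool) (t r : G) : G := bif b then t * r else r

theorem ap_mul (b : Bool) (t r c : G) : ap b t r * c = ap b t (r * c) := by
  cases b <;> simp [ap, mul_assoc]

/-- The value of an exponent. -/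
def ev5 (x w y Q s : G) : E5 → G := fun ⟨i, j, k, l, e⟩ =>
  ap i x (ap j w (ap k y (ap l Q (ap e s 1))))

/-- The value of a normal form. -/
def ev (x w y Q s g z : G) : El → G := fun ⟨p, n, b⟩ =>
  ev5 x w y Q s p * (g ^ (n : ℕ) * ap b z 1)

theorem rot {t u c r : G} (h : t * u = u * t * c) : t * (u * r) = u * (t * (c * r)) := by
  rw [← mul_assoc, h]; simp only [mul_assoc]

theorem rot' {t u r : G} (h : t * u = u * t) : t * (u * r) = u * (t * r) := by
  rw [← mul_assoc, h, mul_assoc]

theorem l5 (F : Frame x w y Q s g z) (p : E5) :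
    x * ev5 x w y Q s p = ev5 x w y Q s (lx p) ∧ w * ev5 x w y Q s p = ev5 x w y Q s (lw p) ∧
    y * ev5 x w y Q s p = ev5 x w y Q s (ly p) ∧ Q * ev5 x w y Q s p = ev5 x w y Q s (lq p) ∧
    s * ev5 x w y Q s p = ev5 x w y Q s (ls p) := by
  have a1 : ∀ r, x * (x * r) = r := fun r => by rw [← mul_assoc, F.xx, one_mul]
  have a2 : ∀ r, w * (w * r) = s * r := fun r => by rw [← mul_assoc, F.ww]
  have a3 : ∀ r, y * (y * r) = r := fun r => by rw [← mul_assoc, F.yy, one_mul]
  have a4 : ∀ r, Q * (Q * r) = s * r := fun r => by rw [← mul_assoc, F.QQ]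
  have a5 : ∀ r, s * (s * r) = r := fun r => by rw [← mul_assoc, F.ss, one_mul]
  have b1 : ∀ r, w * (x * r) = x * (w * r) := fun r => rot' F.wx
  have b2 : ∀ r, y * (x * r) = x * (y * r) := fun r => rot' F.yx
  have b3 : ∀ r, y * (w * r) = w * (y * (s * r)) := fun r => rot F.yw
  have b4 : ∀ r, Q * (x * r) = x * (Q * (s * r)) := fun r => rot F.Qx
  have b5 : ∀ r, Q * (w * r) = w * (Q * (s * r)) := fun r => rot F.Qw
  have b6 : ∀ r, Q * (y * r) = y * (Q * r) := fun r => rot' F.Qy
  have c1 : ∀ r, s * (x * r) = x * (s * r) := fun r => rot' F.sx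
  have c2 : ∀ r, s * (w * r) = w * (s * r) := fun r => rot' F.sw
  have c3 : ∀ r, s * (y * r) = y * (s * r) := fun r => rot' F.sy
  have c4 : ∀ r, s * (Q * r) = Q * (s * r) := fun r => rot' F.sQ
  obtain ⟨i, j, k, l, e⟩ := p
  cases i <;> cases j <;> cases k <;> cases l <;> cases e <;>
    simp [ev5, ap, lx, lw, ly, lq, ls, a1, a2, a3, a4, a5, b1, b2, b3, b4, b5, b6, c1, c2, c3, c4, -mul_one]

theorem ev5_zero : ev5 x w y Q s zero5 = 1 := rfl

theorem ap_ev5 {t : G} {f : E5 → E5} (h : ∀ p, t * ev5 x w y Q s p = ev5 x w y Q s (f p)) (b : Bool)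
    (p : E5) : ap b t (ev5 x w y Q s p) = ev5 x w y Q s (when' b f p) := by
  cases b
  · rfl
  · exact h p

theorem move_ev5 (F : Frame x w y Q s g z) {t x' w' y' Q' : G} (hx : t * x = x' * t)
    (hw : t * w = w' * t) (hy : t * y = y' * t) (hQ : t * Q = Q' * t) (hs : t * s = s * t) (p : E5) :
    t * ev5 x w y Q s p = ev5 x' w' y' Q' s p * t := by
  have key : ∀ (b : Bool) {u u' r r' : G}, t * u = u' * t → t * r = r' * t →
      t * ap b u r = ap b u' r' * t := by
    intro b u u' r r' h1 h2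
    cases b
    · exact h2
    · show t * (u * r) = u' * r' * t
      rw [← mul_assoc, h1, mul_assoc, h2, ← mul_assoc]
  obtain ⟨i, j, k, l, e⟩ := p
  exact key i hx (key j hw (key k hy (key l hQ (key e hs (by rw [mul_one, one_mul])))))

theorem g_ev5 (F : Frame x w y Q s g z) (p : E5) :
    g * ev5 x w y Q s p = ev5 x w y Q s (actG p) * g := by
  rw [F.move_ev5 F.gx F.gw F.gy F.gQ F.gs]
  congr 1
  obtain ⟨i, j, k, l, e⟩ := p
  have hs' : ∀ p, s * ev5 x w y Q s p = ev5 x w y Q s (ls p) := fun p => (F.l5 p).2.2.2.2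
  show ap i y (ap j Q (ap k (x * y * s) (ap l (w * Q * s) (ap e s 1)))) = _
  rw [← ev5_zero (x := x) (w := w) (y := y) (Q := Q) (s := s), ap_ev5 hs',
    ap_ev5 (f := fun p => lw (lq (ls p))) (fun p => by
      rw [mul_assoc, mul_assoc, (F.l5 p).2.2.2.2, (F.l5 _).2.2.2.1, (F.l5 _).2.1]),
    ap_ev5 (f := fun p => lx (ly (ls p))) (fun p => by
      rw [mul_assoc, mul_assoc, (F.l5 p).2.2.2.2, (F.l5 _).2.2.1, (F.l5 _).1]),
    ap_ev5 (fun p => (F.l5 p).2.2.2.1), ap_ev5 (fun p => (F.l5 p).2.2.1)]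
  rfl

theorem z_ev5 (F : Frame x w y Q s g z) (p : E5) :
    z * ev5 x w y Q s p = ev5 x w y Q s (actZ p) * z := by
  rw [F.move_ev5 F.zx F.zw F.zy F.zQ F.zs]
  congr 1
  obtain ⟨i, j, k, l, e⟩ := p
  have hs' : ∀ p, s * ev5 x w y Q s p = ev5 x w y Q s (ls p) := fun p => (F.l5 p).2.2.2.2
  show ap i x (ap j (w * s) (ap k (x * y * s) (ap l (w * Q) (ap e s 1)))) = _
  rw [← ev5_zero (x := x) (w := w) (y := y) (Q := Q) (s := s), ap_ev5 hs',
    ap_ev5 (f := fun p => lw (lq p)) (fun p => by
      rw [mul_assoc, (F.l5 p).2.2.2.1, (F.l5 _).2.1]),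
    ap_ev5 (f := fun p => lx (ly (ls p))) (fun p => by
      rw [mul_assoc, mul_assoc, (F.l5 p).2.2.2.2, (F.l5 _).2.2.1, (F.l5 _).1]),
    ap_ev5 (f := fun p => lw (ls p)) (fun p => by
      rw [mul_assoc, (F.l5 p).2.2.2.2, (F.l5 _).2.1]),
    ap_ev5 (fun p => (F.l5 p).1)]
  rfl

theorem lg_ev (F : Frame x w y Q s g z) (c : El) :
    g * ev x w y Q s g z c = ev x w y Q s g z (lg c) := by
  obtain ⟨p, n, b⟩ := c
  show g * (ev5 x w y Q s p * (g ^ (n : ℕ) * ap b z 1)) =
    ev5 x w y Q s (actG p) * (g ^ ((n + 1 : Fin 3) : ℕ) * ap b z 1)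
  rw [← mul_assoc, F.g_ev5, mul_assoc, ← mul_assoc g, ← pow_succ']
  congr 2
  fin_cases n <;> simp [pow_succ, F.ggg]

theorem lz_ev (F : Frame x w y Q s g z) (c : El) :
    z * ev x w y Q s g z c = ev x w y Q s g z (lz c) := by
  obtain ⟨p, n, b⟩ := c
  show z * (ev5 x w y Q s p * (g ^ (n : ℕ) * ap b z 1)) =
    ev5 x w y Q s (actZ p) * (g ^ ((-n : Fin 3) : ℕ) * ap (!b) z 1)
  rw [← mul_assoc, F.z_ev5, mul_assoc]
  congr 1
  have hz : z * ap b z 1 = ap (!b) z 1 := by cases b <;> simp [ap, F.zz]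
  have hn : z * g ^ (n : ℕ) = g ^ ((-n : Fin 3) : ℕ) * z := by
    have e2 : z * (g * g) = g * z := by
      rw [← mul_assoc, F.zg, mul_assoc, F.zg, ← mul_assoc, show g * g * (g * g) = g * g * g * g by
        simp only [mul_assoc], F.ggg, one_mul]
    fin_cases n
    · simp
    · simpa [pow_two] using F.zg
    · show z * g ^ 2 = g ^ 1 * z
      rw [pow_two, pow_one]; exact e2
  rw [← mul_assoc, hn, mul_assoc, hz]

theorem ap_ev (F : Frame x w y Q s g z) {t : G} {f : E5 → E5}
    (h : ∀ p, t * ev5 x w y Q s p = ev5 x w y Q s (f p)) (b : Bool) (c : El) :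
    ap b t (ev x w y Q s g z c) = ev x w y Q s g z (when' b (onU f) c) := by
  obtain ⟨p, n, b'⟩ := c
  cases b
  · rfl
  · show t * (ev5 x w y Q s p * _) = ev5 x w y Q s (f p) * _
    rw [← mul_assoc, h]

/-- The evaluation respects the multiplication. -/
theorem map_mul (F : Frame x w y Q s g z) (a c : El) :
    ev x w y Q s g z a * ev x w y Q s g z c = ev x w y Q s g z (mul a c) := by
  obtain ⟨⟨i, j, k, l, e⟩, n, b⟩ := a
  show ap i x (ap j w (ap k y (ap l Q (ap e s 1)))) * (g ^ (n : ℕ) * ap b z 1) * ev x w y Q s g z c = _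
  simp only [mul_assoc, ap_mul, one_mul]
  have hz : ap b z (ev x w y Q s g z c) = ev x w y Q s g z (when' b lz c) := by
    cases b
    · rfl
    · exact F.lz_ev c
  have hg : ∀ c, g ^ (n : ℕ) * ev x w y Q s g z c = ev x w y Q s g z (lgPow n c) := by
    intro c
    fin_cases n
    · simp [lgPow]
    · simpa [lgPow] using F.lg_ev c
    · show g ^ 2 * _ = _
      rw [pow_two, mul_assoc, F.lg_ev, F.lg_ev]
      rfl
  rw [hz, hg, F.ap_ev (fun p => (F.l5 p).2.2.2.2), F.ap_ev (fun p => (F.l5 p).2.2.2.1),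
    F.ap_ev (fun p => (F.l5 p).2.2.1), F.ap_ev (fun p => (F.l5 p).2.1), F.ap_ev (fun p => (F.l5 p).1)]
  rfl

end Frame

end H192

end Cfsg.Agent.M11Local
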