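import Cfsg.Agent.Lib.M11Local.TypeAThree
import Cfsg.Agent.Lib.M11Local.Semidihedral
import Cfsg.Agent.Lib.MElevenThree.Endgame
import Cfsg.Agent.S0111

/-!
# Case A with trivial intersection (S3717; owner helper21)

* `TypeA.false_of_card_two` : `|U| = 2` is impossible
* `TypeA.iso_of_none` : if `U ∩ U^(a ^ 2) ∩ C(z)` is trivial, the group is `M₁₁`
-/

set_option autoImplicit false
set_option linter.unusedSectionVars false

namespace Cfsg.Agent.M11Local

open Subgroup

variable {G : Type*} [Group G] [Finite G] {M U : Subgroup G} {g g' a s : G}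

/-- The subgroup of index 2 in `⟨a, s⟩` without reflections. -/
def Local.qGroup (L : Local M g g' a s) : Subgroup G where
  carrier := {x | ∃ i : ℕ, x = a ^ (2 * i) ∨ x = a ^ (2 * i + 1) * s}
  one_mem' := ⟨0, Or.inl (by simp)⟩
  mul_mem' := by
    rintro _ _ ⟨i, rfl | rfl⟩ ⟨j, rfl | rfl⟩
    · exact ⟨i + j, Or.inl (by rw [← pow_add, ← mul_add])⟩
    · exact ⟨i + j, Or.inr (by rw [← mul_assoc, ← pow_add]; congr 2; ring)⟩
    · exact ⟨i + 3 * j, Or.inr (by rw [mul_assoc, L.s_a_pow, ← mul_assoc, ← pow_add]; congr 2; ring)⟩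
    · exact ⟨i + 3 * j + 2, Or.inl (by
        rw [mul_assoc, ← mul_assoc s, L.s_a_pow, mul_assoc, L.s_sq, mul_one, ← pow_add]
        congr 1; ring)⟩
  inv_mem' := by
    rintro _ ⟨i, rfl | rfl⟩
    · refine ⟨7 * i, Or.inl (inv_eq_of_mul_eq_one_right ?_)⟩
      rw [← pow_add, show 2 * i + 2 * (7 * i) = 8 * (2 * i) by ring, pow_mul, L.a_pow, one_pow]
    · refine ⟨5 * i + 2, Or.inr (inv_eq_of_mul_eq_one_right ?_)⟩
      rw [mul_assoc, ← mul_assoc s, L.s_a_pow, mul_assoc, L.s_sq, mul_one, ← pow_add,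
        show 2 * i + 1 + 3 * (2 * (5 * i + 2) + 1) = 8 * (4 * i + 2) by ring, pow_mul, L.a_pow,
        one_pow]

theorem Local.qGroup_le (L : Local M g g' a s) : L.qGroup ≤ L.tGroup := by
  rintro _ ⟨i, rfl | rfl⟩
  · exact ⟨2 * i, Or.inl rfl⟩
  · exact ⟨2 * i + 1, Or.inr rfl⟩

theorem Local.s_notMem_qGroup (L : Local M g g' a s) : s ∉ L.qGroup := by
  rintro ⟨i, h | h⟩
  · exact L.pow_ne_mul_s (2 * i) 0 (by rw [pow_zero, one_mul]; exact h.symm)
  · have e : a ^ 0 = a ^ (2 * i + 1) := by rw [pow_zero]; exact (mul_eq_right.1 h.symm).symm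
    have := L.a_pow_eq.1 e
    omega

theorem Local.qGroup_invol (L : Local M g g' a s) {x : G} (hx : x ∈ L.qGroup) (h2 : x * x = 1)
    (h1 : x ≠ 1) : x = a ^ 4 := by
  obtain ⟨i, rfl | rfl⟩ := hx
  · rw [← pow_add, ← pow_zero a, L.a_pow_eq] at h2
    rw [Ne, ← pow_zero a, L.a_pow_eq] at h1
    exact L.a_pow_eq.2 (by omega)
  · exfalso
    rw [mul_assoc, ← mul_assoc s, L.s_a_pow, mul_assoc, L.s_sq, mul_one, ← pow_add, ← pow_zero a,
      L.a_pow_eq] at h2
    omega

theorem Local.relIndex_qGroup (L : Local M g g' a s) : L.qGroup.relIndex L.tGroup = 2 := by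
  rw [Subgroup.relIndex]
  refine Subgroup.index_eq_two_iff.2 ⟨⟨s, L.s_mem_tGroup⟩, fun x => ?_⟩
  obtain ⟨x, i, hx⟩ := x
  simp only [Subgroup.mem_subgroupOf, Subgroup.coe_mul]
  have hev : ∀ j : ℕ, a ^ j ∈ L.qGroup → Even j := by
    rintro j ⟨k, h | h⟩
    · have := L.a_pow_eq.1 h; exact Nat.even_iff.2 (by omega)
    · exact absurd h (L.pow_ne_mul_s j (2 * k + 1))
  have hod : ∀ j : ℕ, a ^ j * s ∈ L.qGroup → Odd j := by
    rintro j ⟨k, h | h⟩
    · exact absurd h.symm (L.pow_ne_mul_s (2 * k) j)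
    · have := L.a_pow_eq.1 (mul_right_cancel h); exact Nat.odd_iff.2 (by omega)
  rcases Nat.even_or_odd i with ⟨k, hk⟩ | ⟨k, hk⟩ <;> rcases hx with rfl | rfl
  · exact Or.inr ⟨⟨k, Or.inl (by rw [hk, two_mul])⟩, fun h => Nat.not_even_iff_odd.2 (hod i h) ⟨k, hk⟩⟩
  · refine Or.inl ⟨?_, fun h => Nat.not_even_iff_odd.2 (hod i h) ⟨k, hk⟩⟩
    rw [mul_assoc, L.s_sq, mul_one]
    exact ⟨k, Or.inl (by rw [hk, two_mul])⟩
  · exact Or.inl ⟨⟨k, Or.inr (by rw [hk])⟩, fun h => Nat.not_even_iff_odd.2 ⟨k, hk⟩ (hev i h)⟩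
  · refine Or.inr ⟨⟨k, Or.inr (by rw [hk])⟩, fun h => ?_⟩
    rw [mul_assoc, L.s_sq, mul_one] at h
    exact Nat.not_even_iff_odd.2 ⟨k, hk⟩ (hev i h)

theorem Local.isPGroup_tGroup (L : Local M g g' a s) : IsPGroup 2 L.tGroup :=
  IsPGroup.of_card (n := 4) (by rw [L.card_tGroup]; norm_num)

/-- If `z` is not conjugate to `s`, `⟨a, s⟩` is no Sylow subgroup. -/
theorem Local.even_index [IsSimpleGroup G] (L : Local M g g' a s) (hna : ¬ IsMulCommutative G)
    (hz : ¬ IsConj s (a ^ 4)) : 2 ∣ L.tGroup.index := by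
  haveI := Fact.mk Nat.prime_two
  by_contra h
  set P : Sylow 2 G := L.isPGroup_tGroup.toSylow h
  rcases S0111.result P L.qGroup L.qGroup_le L.relIndex_qGroup s L.orderOf_s L.s_mem_tGroup
      L.s_notMem_qGroup with ⟨N, hN, hN2, hsN⟩ | ⟨c, hc⟩
  · rcases hN.eq_bot_or_eq_top with rfl | rfl
    · rw [index_bot] at hN2
      haveI : IsCyclic G := isCyclic_of_prime_card hN2
      exact hna ⟨⟨fun x y => IsCyclic.commGroup.mul_comm x y⟩⟩
    · exact hsN (mem_top s)
  · have h2 : cj c s * cj c s = 1 := by rw [← cj_mul, L.s_sq]; simp [cj]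
    have h1 : cj c s ≠ 1 := fun e => L.s_ne (conj_eq_one_iff.1 e)
    exact hz (L.qGroup_invol hc h2 h1 ▸ isConj_cj c s)

theorem Local.tGroup_comm_z (L : Local M g g' a s) {x : G} (hx : x ∈ L.tGroup) :
    x * a ^ 4 = a ^ 4 * x := by
  obtain ⟨i, rfl | rfl⟩ := hx
  · exact ((Commute.refl a).pow_pow i 4).eq
  · exact (((Commute.refl a).pow_pow i 4).mul_left L.s_z).eq

/-- `|U| = 2` is impossible. -/
theorem TypeA.false_of_card_two [IsSimpleGroup G] (T : TypeA s) (L : Local M g g' a s)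
    (hna : ¬ IsMulCommutative G) (hU : Nat.card T.uSub = 2) : False := by
  haveI := Fact.mk Nat.prime_two
  obtain ⟨m, hm, hW⟩ := T.card_w
  rw [hU] at hW
  have hH : Nat.card ↥(centralizer ({s} : Set G)) = 12 * m := by rw [T.card_cent, hW]; ring
  by_cases hz : IsConj s (a ^ 4)
  · obtain ⟨c, hc⟩ := isConj_iff.1 hz.symm
    have hle : L.tGroup.map (MulAut.conj c).toMonoidHom ≤ centralizer ({s} : Set G) := by
      rintro _ ⟨x, hx, rfl⟩
      rw [mem_centralizer_singleton_iff]
      show cj c x * s = s * cj c x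
      rw [← hc]
      exact cj_commute (L.tGroup_comm_z hx)
    have h16 := Subgroup.card_dvd_of_le hle
    rw [Subgroup.card_map_of_injective (MulAut.conj c).injective, L.card_tGroup, hH] at h16
    have hcop : Nat.Coprime 16 m := by
      simpa using (Nat.coprime_two_left.2 hm).pow_left 4
    have := hcop.dvd_of_dvd_mul_right h16
    norm_num at this
  · have h := card_fixed_mul s L.tGroup
    rw [L.card_tGroup, L.card_classIn_tGroup hz, hH] at h
    have hf : fixCount s L.tGroup = 3 * m := by omega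
    have h4 := index_modEq_fixed hna L.orderOf_s L.tGroup
    have he := L.even_index hna hz
    obtain ⟨k, hk⟩ := hm
    rw [hf, Nat.ModEq] at h4
    omega

/-- The four group `⟨s, z⟩`. -/
def Local.vGroup (L : Local M g g' a s) : Subgroup G where
  carrier := {x | x = 1 ∨ x = s ∨ x = a ^ 4 ∨ x = s * a ^ 4}
  one_mem' := Or.inl rfl
  mul_mem' := by
    have h1 : a ^ 4 * s = s * a ^ 4 := L.s_z.symm
    have h2 : s * (s * a ^ 4) = a ^ 4 := by rw [← mul_assoc, L.s_sq, one_mul]
    have h3 : s * a ^ 4 * s = a ^ 4 := by rw [mul_assoc, h1, h2]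
    have h4 : a ^ 4 * (s * a ^ 4) = s := by rw [← mul_assoc, h1, mul_assoc, L.z_sq, mul_one]
    have h5 : s * a ^ 4 * a ^ 4 = s := by rw [mul_assoc, L.z_sq, mul_one]
    have h6 : s * a ^ 4 * (s * a ^ 4) = 1 := by rw [mul_assoc, h4, L.s_sq]
    rintro _ _ (rfl | rfl | rfl | rfl) (rfl | rfl | rfl | rfl) <;>
      simp only [Set.mem_setOf_eq, one_mul, mul_one, L.s_sq, L.z_sq, h1, h2, h3, h4, h5, h6] <;> simp
  inv_mem' := by
    have h6 : (s * a ^ 4)⁻¹ = s * a ^ 4 := by rw [mul_inv_rev, L.z_inv_self, L.s_inv, L.s_z]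
    rintro _ (rfl | rfl | rfl | rfl) <;>
      simp only [Set.mem_setOf_eq, inv_one, L.s_inv, L.z_inv_self, h6] <;> simp

theorem Local.isKleinFour_vGroup (L : Local M g g' a s) : IsKleinFour L.vGroup := by
  classical
  haveI := Fintype.ofFinite L.vGroup
  have hz1 := L.z_ne
  have hs1 := L.s_ne
  have hsz := L.sz_ne
  have hsz1 : s * a ^ 4 ≠ 1 := fun e => hsz (by rw [mul_eq_one_iff_eq_inv.1 e, L.z_inv_self])
  have hsq : ∀ x : L.vGroup, x * x = 1 := by
    rintro ⟨x, hx⟩
    refine Subtype.ext ?_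
    rcases hx with rfl | rfl | rfl | rfl
    · exact one_mul 1
    · exact L.s_sq
    · exact L.z_sq
    · show s * a ^ 4 * (s * a ^ 4) = 1
      rw [mul_assoc, ← mul_assoc (a ^ 4) s, ← L.s_z, mul_assoc s, L.z_sq, mul_one, L.s_sq]
  refine ⟨?_, ?_⟩
  · have e : (L.vGroup : Set G) = {1, s, a ^ 4, s * a ^ 4} := by
      ext x; simp [Local.vGroup]
    show Nat.card (L.vGroup : Set G) = 4
    rw [Nat.card_coe_set_eq, e, Set.ncard_eq_toFinset_card']
    simp [Finset.card_insert_of_notMem, hz1, hz1.symm, hs1, hs1.symm, hsz, hsz1, hsz1.symm]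
  · apply Nat.dvd_antisymm
    · exact Monoid.exponent_dvd_of_forall_pow_eq_one fun x => by rw [pow_two, hsq]
    · have : orderOf (⟨s, Or.inr (Or.inl rfl)⟩ : L.vGroup) = 2 := by
        rw [← orderOf_coe]; exact L.orderOf_s
      rw [← this]
      exact Monoid.order_dvd_exponent _

/-- `C_U(z)` when the intersection is trivial. -/
theorem TypeA.centZ_bot (T : TypeA s) (L : Local M g g' a s) (hI : Good.inter T.uSub a = ⊥) {u : G}
    (hu : u ∈ T.uSub) (hz : u * a ^ 4 = a ^ 4 * u) : u = 1 ∨ u = s := by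
  rcases T.centZ_cases L hu hz with h | h <;> rw [hI, Subgroup.mem_bot] at h
  · exact Or.inl h
  · exact Or.inr (by rw [eq_inv_of_mul_eq_one_left h, L.s_inv])

/-- With trivial intersection the group is `M₁₁`. -/
theorem TypeA.iso_of_none [IsSimpleGroup G] (T : TypeA s) (L : Local M g g' a s)
    (hna : ¬ IsMulCommutative G) (P : Sylow 3 G) (hP : Nat.card ↥(P : Subgroup G) = 9)
    (hI : Good.inter T.uSub a = ⊥) : Cfsg.Spor.IsoM11 G := by
  classical
  haveI := Fact.mk Nat.prime_two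
  have hG := T.good L
  set C := T.uSub ⊓ centralizer ({a ^ 4} : Set G)
  have hC2 : Nat.card C ≤ 2 := by
    have hle : C ≤ zpowers s := fun u hu => by
      rcases T.centZ_bot L hI hu.1 (mem_centralizer_singleton_iff.1 hu.2) with h | h <;> rw [h]
      · exact one_mem _
      · exact mem_zpowers s
    have := Nat.le_of_dvd Nat.card_pos (Subgroup.card_dvd_of_le hle)
    rwa [Nat.card_zpowers, L.orderOf_s] at this
  obtain ⟨k, hk, hk3⟩ := hG.card_shape L
  have h8 : Nat.card T.uSub ≤ 8 := (hG.card_le L).trans (by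
    calc 2 * Nat.card C ^ 2 ≤ 2 * 2 ^ 2 := Nat.mul_le_mul_left 2 (Nat.pow_le_pow_left hC2 2)
      _ = 8 := by norm_num)
  have hk2 : k = 0 ∨ k = 2 := by
    have h4 : 2 ^ k ≤ 4 := by omega
    have : k ≤ 2 := (Nat.pow_le_pow_iff_right (by norm_num : 1 < 2)).1 (h4.trans_eq (by norm_num))
    interval_cases k
    · exact Or.inl rfl
    · norm_num at hk3
    · exact Or.inr rfl
  rcases hk2 with rfl | rfl
  · exact (T.false_of_card_two L hna (by rw [hk]; norm_num)).elim
  norm_num at hk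
  obtain ⟨w, hw, hwz⟩ : ∃ w ∈ T.uSub, cj (a ^ 4) w = w * s := by
    by_contra h
    push Not at h
    have : 2 * Nat.card T.uSub ≤ Nat.card C ^ 2 := hG.card_le_of_lift L h
    rw [hk] at this
    have h4 : Nat.card C ^ 2 ≤ 4 := (Nat.pow_le_pow_left hC2 2).trans_eq (by norm_num)
    omega
  have hWU := T.w_eq_u L hw hwz
  obtain ⟨hc1, -, -⟩ := T.conj_z L hw hwz
  have hzs : IsConj s (a ^ 4) := (isConj_iff.2 ⟨_, hc1⟩ : IsConj (a ^ 4) s).symm
  have h48 : Nat.card ↥(centralizer ({a ^ 4} : Set G)) = 48 := by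
    obtain ⟨c, hc⟩ := isConj_iff.1 hzs
    have : (centralizer ({s} : Set G)).map (MulAut.conj c).toMonoidHom = centralizer ({a ^ 4} : Set G) := by
      ext x
      rw [Subgroup.mem_map, mem_centralizer_singleton_iff, ← hc]
      constructor
      · rintro ⟨y, hy, rfl⟩
        exact cj_commute (mem_centralizer_singleton_iff.1 hy)
      · intro h
        refine ⟨cj c⁻¹ x, mem_centralizer_singleton_iff.2 ?_, cj_cj_inv c x⟩
        have := cj_commute (c := c⁻¹) h
        rwa [cj_inv_cj] at this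
    rw [← this, Subgroup.card_map_of_injective (MulAut.conj c).injective, T.card_cent, hWU, hk]
  -- the centralizer of the four group
  have hV : centralizer (L.vGroup : Set G) = L.vGroup := by
    apply le_antisymm
    · intro x hx
      rw [mem_centralizer_iff] at hx
      have hxs : x * s = s * x := (hx s (Or.inr (Or.inl rfl))).symm
      have hxz : x * a ^ 4 = a ^ 4 * x := (hx _ (Or.inr (Or.inr (Or.inl rfl)))).symm
      rcases T.cV_cases L hxs hxz with h | h <;> rw [hWU] at h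
      · rcases T.centZ_bot L hI h hxz with e | e
        · exact Or.inl e
        · exact Or.inr (Or.inl e)
      · rcases T.centZ_bot L hI h ((show Commute x (a ^ 4) from hxz).mul_left (Commute.refl _)).eq with e | e
        · exact Or.inr (Or.inr (Or.inl (by rw [eq_inv_of_mul_eq_one_left e, L.z_inv_self])))
        · refine Or.inr (Or.inr (Or.inr ?_))
          rw [← e, mul_assoc, L.z_sq, mul_one]
    · intro x hx
      rw [mem_centralizer_iff]
      intro y hy
      obtain ⟨hk4, -⟩ := L.isKleinFour_vGroup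
      haveI := L.isKleinFour_vGroup
      exact congrArg Subtype.val (mul_comm_of_exponent_two (IsKleinFour.exponent_two) (⟨y, hy⟩ : L.vGroup) ⟨x, hx⟩)
  -- one class of involutions
  have hone' : ∀ t : G, orderOf t = 2 → IsConj s t := by
    intro t ht
    obtain ⟨S, hS⟩ := L.isPGroup_tGroup.exists_le_sylow
    haveI : Nontrivial (S : Subgroup G) := (Subgroup.nontrivial_iff_ne_bot _).2 fun h => by
      have := hS L.s_mem_tGroup
      rw [h, Subgroup.mem_bot] at this
      exact L.s_ne this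
    haveI := S.2.center_nontrivial
    obtain ⟨n, hn0, hn⟩ := (S.2.to_subgroup (center (S : Subgroup G))).nontrivial_iff_card.1 inferInstance
    obtain ⟨u, hu⟩ := exists_prime_orderOf_dvd_card' (G := center (S : Subgroup G)) 2
      (by rw [hn]; exact dvd_pow_self 2 hn0.ne')
    have huc : ∀ y ∈ (S : Subgroup G), y * ((u : (S : Subgroup G)) : G) = ((u : (S : Subgroup G)) : G) * y :=
      fun y hy => congrArg Subtype.val (mem_center_iff.1 u.2 ⟨y, hy⟩)
    set v := ((u : (S : Subgroup G)) : G)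
    have hv1 : v ≠ 1 := fun h => by
      have : orderOf v = 2 := by rw [orderOf_coe, orderOf_coe, hu]
      rw [h, orderOf_one] at this
      omega
    have hvV : v ∈ centralizer (L.vGroup : Set G) := by
      rw [mem_centralizer_iff]
      intro y hy
      refine huc y (hS ?_)
      rcases hy with rfl | rfl | rfl | rfl
      · exact L.tGroup.one_mem
      · exact L.s_mem_tGroup
      · exact L.tGroup.pow_mem L.a_mem_tGroup 4
      · exact L.tGroup.mul_mem L.s_mem_tGroup (L.tGroup.pow_mem L.a_mem_tGroup 4)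
    rw [hV] at hvV
    have hvz : v = a ^ 4 := by
      have hva : a * v = v * a := huc a (hS L.a_mem_tGroup)
      have hsa : a * s ≠ s * a := fun e => by
        have h3 : cj s a = a := cj_eq_self.2 e.symm
        rw [L.s_a] at h3
        have := (L.a_pow_eq (i := 3) (j := 1)).1 (by rw [h3, pow_one])
        omega
      rcases hvV with h | h | h | h
      · exact absurd h hv1
      · rw [h] at hva; exact absurd hva hsa
      · exact h
      · exfalso
        rw [h, ← mul_assoc, mul_assoc s, ((Commute.refl a).pow_left 4).eq, ← mul_assoc] at hva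
        exact hsa (mul_right_cancel hva)
    have hSC : (S : Subgroup G) ≤ centralizer ({a ^ 4} : Set G) := fun y hy => by
      rw [mem_centralizer_singleton_iff, ← hvz]; exact huc y hy
    have hST : L.tGroup = (S : Subgroup G) := by
      refine Subgroup.eq_of_le_of_card_ge hS ?_
      have h1 := Subgroup.card_dvd_of_le hSC
      obtain ⟨j, hj⟩ := IsPGroup.iff_card.1 S.2
      rw [h48, hj] at h1
      rw [L.card_tGroup, hj]
      have hd : 2 ^ j ∣ 16 := (Nat.Coprime.pow_left j (by norm_num : Nat.Coprime 2 3)).dvd_of_dvd_mul_left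
        (show 2 ^ j ∣ 3 * 16 by simpa using h1)
      exact Nat.le_of_dvd (by norm_num) hd
    obtain ⟨P2, hP2⟩ := (IsPGroup.of_card (n := 1) (by rw [Nat.card_zpowers, ht, pow_one]) :
      IsPGroup 2 (zpowers t)).exists_le_sylow
    obtain ⟨c, hc⟩ := MulAction.exists_smul_eq G P2 S
    have htS : cj c t ∈ L.tGroup := by
      rw [hST, ← hc, Sylow.coe_subgroup_smul]
      exact ⟨t, hP2 (mem_zpowers t), rfl⟩
    refine IsConj.trans ?_ (isConj_cj c t).symm
    have ht2 : cj c t * cj c t = 1 := sq_of_orderOf ((orderOf_cj c t).trans ht)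
    have ht1 : cj c t ≠ 1 := fun e => by
      have := (orderOf_cj c t).trans ht
      rw [e, orderOf_one] at this
      omega
    obtain ⟨i, hi | hi⟩ := htS <;> rw [hi] at ht2 ht1 ⊢
    · rw [← pow_add, ← pow_zero a, L.a_pow_eq] at ht2
      rw [Ne, ← pow_zero a, L.a_pow_eq] at ht1
      rw [L.a_pow_eq.2 (show i % 8 = 4 % 8 by omega)]
      exact hzs
    · rw [mul_assoc, ← mul_assoc s, L.s_a_pow, mul_assoc, L.s_sq, mul_one, ← pow_add, ← pow_zero a,
        L.a_pow_eq] at ht2
      refine isConj_iff.2 ⟨a ^ (4 - i % 8 / 2), ?_⟩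
      show cj (a ^ (4 - i % 8 / 2)) s = a ^ i * s
      rw [cj_eq_iff, mul_assoc, L.s_a_pow, ← mul_assoc, ← pow_add]
      exact congrArg (· * s) (L.a_pow_eq.2 (by omega))
  exact MElevenThree.isoM11_of_order48 hna P hP
    (fun p q hp hq => (hone' p hp).symm.trans (hone' q hq)) L.orderOf_a L.orderOf_s L.s_a h48
    L.isKleinFour_vGroup hV

end Cfsg.Agent.M11Local
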