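import Cfsg.Agent.Lib.M11Local.CaseBBase

/-!
# `C(s)/⟨s⟩` of shape `2^4.A₅` is impossible (S3717, case B; owner: helper31)

`U` and `D = C(s) ∩ C(z)` are the elementary subgroups of order 32 of the Sylow 2-subgroup `T = U D` of
`C(s)`; there is `x ∈ U ∩ D`, conjugate to `s`, with `U` taken to `D` when `s` is taken to `x`.
-/

set_option autoImplicit false

namespace Cfsg.Agent.M11Local

open Subgroup

variable {G : Type*} [Group G] {M : Subgroup G} {g g' a s : G}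

/-- The image of a subgroup under conjugation. -/
def cjMap (c : G) (K : Subgroup G) : Subgroup G := K.map (MulAut.conj c).toMonoidHom

theorem mem_cjMap {c x : G} {K : Subgroup G} : x ∈ cjMap c K ↔ cj c⁻¹ x ∈ K := by
  constructor
  · rintro ⟨y, hy, rfl⟩
    show cj c⁻¹ (cj c y) ∈ K
    rwa [cj_inv_cj]
  · exact fun h => ⟨cj c⁻¹ x, h, cj_cj_inv c x⟩

theorem cj_mem_cjMap {c x : G} {K : Subgroup G} (h : x ∈ K) : cj c x ∈ cjMap c K :=
  ⟨x, h, rfl⟩

theorem cjMap_cjMap (c d : G) (K : Subgroup G) : cjMap c (cjMap d K) = cjMap (c * d) K := by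
  ext x
  rw [mem_cjMap, mem_cjMap, mem_cjMap, cj_cj, mul_inv_rev]

theorem card_cjMap (c : G) (K : Subgroup G) : Nat.card (cjMap c K) = Nat.card K :=
  Subgroup.card_map_of_injective (MulAut.conj c).injective

theorem cjMap_eq [Finite G] {c : G} {K L : Subgroup G} (h : ∀ x ∈ K, cj c x ∈ L)
    (hc : Nat.card L ≤ Nat.card K) : cjMap c K = L := by
  refine Subgroup.eq_of_le_of_card_ge ?_ (by rwa [card_cjMap])
  rintro _ ⟨x, hx, rfl⟩
  exact h x hx

theorem commute_of_sq {x y : G} (hx : x * x = 1) (hy : y * y = 1) (hxy : x * y * (x * y) = 1) :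
    x * y = y * x := by
  rw [← inv_of_sq hxy, mul_inv_rev, inv_of_sq hx, inv_of_sq hy]

namespace BCase

variable [Finite G] {Q : Type*} [Group Q] [Finite Q] {p : centralizer ({s} : Set G) →* Q}
  {f : Q →* A5} {L : Local M g g' a s}

/-- The preimage of the centralizer of the image of `a ^ 4`. -/
def tSub (L : Local M g g' a s) (p : centralizer ({s} : Set G) →* Q) (f : Q →* A5) : Subgroup G :=
  ((centralizer ({f (p ⟨a ^ 4, L.z_mem_H⟩)} : Set A5)).comap (f.comp p)).map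
    (centralizer ({s} : Set G)).subtype

/-- `C(s) ∩ C(a ^ 4)`. -/
def dSub (s a : G) : Subgroup G := centralizer ({s} : Set G) ⊓ centralizer ({a ^ 4} : Set G)

omit [Finite G] [Finite Q] in
theorem mem_tSub {x : G} : x ∈ tSub L p f ↔ ∃ hx : x ∈ centralizer ({s} : Set G),
    f (p ⟨x, hx⟩) * f (p ⟨a ^ 4, L.z_mem_H⟩) = f (p ⟨a ^ 4, L.z_mem_H⟩) * f (p ⟨x, hx⟩) := by
  constructor
  · rintro ⟨y, hy, rfl⟩
    exact ⟨y.2, mem_centralizer_singleton_iff.1 hy⟩
  · rintro ⟨hx, h⟩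
    exact ⟨⟨x, hx⟩, mem_centralizer_singleton_iff.2 h, rfl⟩

omit [Finite G] [Finite Q] in
theorem uGroup_le_tSub : uGroup p f ≤ tSub L p f := fun x hx => by
  obtain ⟨hxH, h⟩ := mem_uGroup.1 hx
  exact mem_tSub.2 ⟨hxH, by rw [h, one_mul, mul_one]⟩

omit [Finite G] [Finite Q] in
theorem dSub_le_tSub (L : Local M g g' a s) {p : centralizer ({s} : Set G) →* Q} :
    dSub s a ≤ tSub L p f := fun x hx => by
  refine mem_tSub.2 ⟨hx.1, ?_⟩
  rw [← map_mul, ← map_mul, ← map_mul, ← map_mul]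
  exact congrArg (fun q => f (p q)) (Subtype.ext (mem_centralizer_singleton_iff.1 hx.2))

omit [Finite G] [Finite Q] in
theorem fp_surj (B : BCase L p f) : Function.Surjective (f.comp p) := fun q => by
  obtain ⟨v, rfl⟩ := B.f_surj q
  obtain ⟨w, rfl⟩ := B.p_surj v
  exact ⟨w, rfl⟩

omit [Finite Q] in
theorem card_uGroup (B : BCase L p f) :
    Nat.card (uGroup p f) = 2 * Nat.card f.ker := by
  rw [uGroup, Subgroup.card_map_of_injective (Subgroup.subtype_injective _)]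
  have h := (f.comp p).ker.card_mul_index
  rw [index_ker, MonoidHom.range_eq_top.2 B.fp_surj, card_top, card_A5] at h
  haveI : Finite Q := Finite.of_surjective p B.p_surj
  rw [B.card_H] at h
  omega

omit [Finite G] [Finite Q] in
/-- Two elements of `U` with the same image differ by an element of `⟨s⟩`. -/
theorem same_image (B : BCase L p f) {x y : G} {hx : x ∈ centralizer ({s} : Set G)}
    {hy : y ∈ centralizer ({s} : Set G)} (h : p ⟨x, hx⟩ = p ⟨y, hy⟩) : y = x ∨ y = x * s := by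
  have h1 : p (⟨x, hx⟩⁻¹ * ⟨y, hy⟩) = 1 := by rw [map_mul, map_inv, h, inv_mul_cancel]
  rcases (B.p_ker _).1 h1 with e | e
  · exact Or.inl (inv_mul_eq_one.1 e).symm
  · exact Or.inr (inv_mul_eq_iff_eq_mul.1 e)

theorem u_sq (B : BCase L p f) (h16 : Nat.card f.ker = 16) {x : G} (hx : x ∈ uGroup p f) :
    x * x = 1 := by
  classical
  set U := uGroup p f with hUdef
  have hsU : s ∈ U := B.s_mem
  have hcent : ∀ y ∈ U, y * s = s * y := fun y hy =>
    mem_centralizer_singleton_iff.1 (mem_uGroup.1 hy).1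
  have hsq : ∀ y ∈ U, y * y = 1 ∨ y * y = s := by
    intro y hy
    obtain ⟨hyH, h⟩ := mem_uGroup.1 hy
    have h2 : p (⟨y, hyH⟩ * ⟨y, hyH⟩) = 1 := by rw [map_mul]; exact B.sq _ h
    exact (B.p_ker _).1 h2
  have hconst : ∀ u ∈ U, ∀ v ∈ U, u ≠ 1 → u ≠ s → v ≠ 1 → v ≠ s → v * v = u * u := by
    intro u hu v hv u1 us v1 vs
    obtain ⟨huH, hu'⟩ := mem_uGroup.1 hu
    obtain ⟨hvH, hv'⟩ := mem_uGroup.1 hv
    obtain ⟨q, hq⟩ := B.alt.isConj_of_ne_one h16 hu'
      (fun e => ((B.p_ker _).1 e).elim u1 us) hv' (fun e => ((B.p_ker _).1 e).elim v1 vs)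
    obtain ⟨⟨c, hc⟩, rfl⟩ := B.p_surj q
    have hcu : p (⟨c, hc⟩ * ⟨u, huH⟩ * ⟨c, hc⟩⁻¹) = p ⟨v, hvH⟩ := by
      rw [map_mul, map_mul, map_inv]; exact hq
    have hfix : cj c (u * u) = u * u := by
      rcases hsq u hu with e | e <;> rw [e]
      · simp [cj]
      · exact cj_eq_self.2 (mem_centralizer_singleton_iff.1 hc)
    rw [cj_mul] at hfix
    rcases B.same_image hcu with e | e
    · rw [show v = cj c u from e]; exact hfix
    · rw [show v = cj c u * s from e, mul_assoc, ← mul_assoc s,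
        show s * cj c u = cj c u * s from (hcent _ (cj_mem_uGroup hc hu)).symm,
        mul_assoc (cj c u) s s, L.s_sq, mul_one]
      exact hfix
  by_cases hx1 : x = 1
  · rw [hx1, one_mul]
  by_cases hxs : x = s
  · rw [hxs]; exact L.s_sq
  by_contra hne
  have hxx : x * x = s := (hsq x hx).resolve_left hne
  have hall : ∀ u ∈ U, u ≠ 1 → u ≠ s → u * u = s := fun u hu u1 us =>
    (hconst x hx u hu hx1 hxs u1 us).trans hxx
  -- two such elements anticommute
  have anti : ∀ u ∈ U, ∀ v ∈ U, u ≠ 1 → u ≠ s → v ≠ 1 → v ≠ s → u * v ≠ 1 → u * v ≠ s →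
      v * u = u * v * s := by
    intro u hu v hv u1 us v1 vs p1 ps
    have h3 := hall _ (U.mul_mem hu hv) p1 ps
    have huu := hall u hu u1 us
    have hvv := hall v hv v1 vs
    have hui : u⁻¹ = u * s := inv_eq_of_mul_eq_one_right (by rw [← mul_assoc, huu, L.s_sq])
    have hvi : v⁻¹ = v * s := inv_eq_of_mul_eq_one_right (by rw [← mul_assoc, hvv, L.s_sq])
    calc v * u = u⁻¹ * (u * v * (u * v)) * v⁻¹ := by group
      _ = u * s * s * (v * s) := by rw [h3, hui, hvi]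
      _ = u * v * s := by rw [mul_assoc u s s, L.s_sq, mul_one, mul_assoc]
  have hcard : Nat.card U = 32 := by rw [B.card_uGroup, h16]
  have pick : ∀ S : Finset G, S.card < 32 → ∃ y ∈ U, y ∉ S := by
    intro S hS
    by_contra hno
    push Not at hno
    have h := Set.ncard_le_ncard (s := (U : Set G)) (t := ↑S) hno S.finite_toSet
    rw [Set.ncard_coe_finset, ← Nat.card_coe_set_eq] at h
    have : Nat.card U ≤ S.card := h
    omega
  obtain ⟨v, hv, hvS⟩ := pick ([1, s, x, x * s].toFinset)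
    (lt_of_le_of_lt (List.toFinset_card_le _) (by norm_num))
  obtain ⟨w, hw, hwS⟩ := pick ([1, s, x, x * s, v, v * s, x * v, x * v * s].toFinset)
    (lt_of_le_of_lt (List.toFinset_card_le _) (by norm_num))
  simp only [List.mem_toFinset, List.mem_cons, List.not_mem_nil, or_false, not_or] at hvS hwS
  obtain ⟨v1, vs, vx, vxs⟩ := hvS
  obtain ⟨w1, ws, wx, wxs, wv, wvs, wxv, wxvs⟩ := hwS
  have hxi : x⁻¹ = x * s := inv_eq_of_mul_eq_one_right (by rw [← mul_assoc, hxx, L.s_sq])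
  have hvi : v⁻¹ = v * s :=
    inv_eq_of_mul_eq_one_right (by rw [← mul_assoc, hall v hv v1 vs, L.s_sq])
  have a1 := anti x hx v hv hx1 hxs v1 vs
    (fun e => vxs (by rw [← hxi, inv_eq_of_mul_eq_one_right e]))
    (fun e => vx (by rw [← inv_mul_cancel_left x v, e, hxi, mul_assoc, L.s_sq, mul_one]))
  have a2 := anti x hx w hw hx1 hxs w1 ws
    (fun e => wxs (by rw [← hxi, inv_eq_of_mul_eq_one_right e]))
    (fun e => wx (by rw [← inv_mul_cancel_left x w, e, hxi, mul_assoc, L.s_sq, mul_one]))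
  have p1 : v * w ≠ 1 := fun e => wvs (by rw [← hvi, inv_eq_of_mul_eq_one_right e])
  have ps : v * w ≠ s := fun e =>
    wv (by rw [← inv_mul_cancel_left v w, e, hvi, mul_assoc, L.s_sq, mul_one])
  have hxvi : v⁻¹ * x⁻¹ = x * v * s := by
    rw [hvi, hxi, mul_assoc v, ← mul_assoc s x s, ← hcent x hx, mul_assoc x s s, L.s_sq, mul_one, a1]
  have a3 := anti x hx (v * w) (U.mul_mem hv hw) hx1 hxs p1 ps
    (fun e => wxvs (by rw [← hxvi, ← mul_inv_rev]; exact eq_inv_of_mul_eq_one_right (by rwa [mul_assoc])))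
    (fun e => wxv (by
      rw [← inv_mul_cancel_left (x * v) w, mul_assoc x v w, e, mul_inv_rev, hxvi, mul_assoc, L.s_sq,
        mul_one]))
  have hcomm : v * w * x = x * (v * w) := by
    rw [mul_assoc, a2, ← mul_assoc, ← mul_assoc, a1, mul_assoc (x * v) s w, ← hcent w hw,
      mul_assoc (x * v), mul_assoc w, L.s_sq, mul_one, mul_assoc]
  rw [hcomm] at a3
  exact L.s_ne (mul_eq_left.1 a3.symm)

theorem u_comm (B : BCase L p f) (h16 : Nat.card f.ker = 16) {x y : G} (hx : x ∈ uGroup p f)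
    (hy : y ∈ uGroup p f) : x * y = y * x :=
  commute_of_sq (B.u_sq h16 hx) (B.u_sq h16 hy) (B.u_sq h16 ((uGroup p f).mul_mem hx hy))

theorem card_cGroup (B : BCase L p f) (h16 : Nat.card f.ker = 16) :
    Nat.card (cGroup a p f) = 8 := by
  set U := uGroup p f with hUdef
  have hz : ∀ u ∈ U, cj (a ^ 4) u ∈ U := fun u hu => cj_mem_uGroup L.z_mem_H hu
  let d : U →* G := MonoidHom.mk' (fun u => (u : G) * cj (a ^ 4) u) fun u v => by
    push_cast
    rw [cj_mul, mul_assoc, ← mul_assoc (v : G), B.u_comm h16 v.2 (hz _ u.2)]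
    simp only [mul_assoc]
  have h1 := d.ker.card_mul_index
  rw [index_ker, B.card_uGroup, h16] at h1
  have hker : Nat.card d.ker ≤ Nat.card (cGroup a p f) := by
    refine Nat.card_le_card_of_injective (fun u : d.ker => (⟨((u : U) : G), (u : U).2,
      mem_centralizer_singleton_iff.2 (cj_eq_self.1 ?_).symm⟩ : cGroup a p f)) ?_
    · have h : ((u : U) : G) * cj (a ^ 4) ((u : U) : G) = 1 := u.2
      rw [eq_inv_of_mul_eq_one_right h, inv_of_sq (B.u_sq h16 (u : U).2)]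
    · intro u v e
      exact Subtype.ext (Subtype.ext (congrArg (fun q : cGroup a p f => (q : G)) e :))
  have hran : Nat.card d.range ≤ Nat.card (cGroup a p f) := by
    refine Nat.card_le_card_of_injective (fun u : d.range => (⟨(u : G), ?_⟩ : cGroup a p f)) ?_
    · obtain ⟨v, hv⟩ := u.2
      rw [← hv]
      refine ⟨U.mul_mem v.2 (hz _ v.2), mem_centralizer_singleton_iff.2 (cj_eq_self.1 ?_).symm⟩
      show cj (a ^ 4) ((v : G) * cj (a ^ 4) v) = (v : G) * cj (a ^ 4) v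
      rw [cj_mul, cj_cj, L.z_sq, cj_one]
      exact B.u_comm h16 (hz _ v.2) v.2
    · intro u v e
      exact Subtype.ext (congrArg (fun q : cGroup a p f => (q : G)) e :)
  have h8 := B.card_cGroup_le
  have hd : Nat.card (cGroup a p f) ∣ 32 := by
    have h := card_dvd_of_le (inf_le_left : cGroup a p f ≤ uGroup p f)
    rwa [B.card_uGroup, h16] at h
  have h2 := Nat.mul_le_mul hker hran
  rw [h1] at h2
  generalize Nat.card (cGroup a p f) = n at h8 h2 hd ⊢
  interval_cases n <;> omega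

/-- Elements of `U` centralized by `a ^ 4` modulo `s` are centralized by it. -/
theorem mem_cGroup (B : BCase L p f) (h16 : Nat.card f.ker = 16) {u : G}
    {hu : u ∈ centralizer ({s} : Set G)} (hf : f (p ⟨u, hu⟩) = 1)
    (hfix : cj (p ⟨a ^ 4, L.z_mem_H⟩) (p ⟨u, hu⟩) = p ⟨u, hu⟩) : u ∈ cGroup a p f := by
  classical
  have hC : cCard f (p ⟨a ^ 4, L.z_mem_H⟩) = 4 := by
    rcases B.cases with h | ⟨-, h⟩
    · omega
    · exact h
  let q : cGroup a p f →* Q := MonoidHom.mk' (fun c => p ⟨c, (mem_uGroup.1 c.2.1).1⟩) fun c d => by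
    rw [← map_mul]; rfl
  have h1 := q.ker.card_mul_index
  rw [index_ker, B.card_cGroup h16] at h1
  have hk : Nat.card q.ker ≤ 2 := by
    haveI : Fintype q.ker := Fintype.ofFinite _
    let sC : cGroup a p f := ⟨s, B.s_mem, mem_centralizer_singleton_iff.2 L.s_z⟩
    have hsq : sC ∈ q.ker := MonoidHom.mem_ker.2 ((B.p_ker _).2 (Or.inr rfl))
    rw [Nat.card_eq_fintype_card, ← Finset.card_univ]
    refine (Finset.card_le_card (t := {1, ⟨sC, hsq⟩}) fun c _ => ?_).trans Finset.card_le_two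
    rw [Finset.mem_insert, Finset.mem_singleton]
    rcases (B.p_ker _).1 (MonoidHom.mem_ker.1 c.2) with e | e
    · exact Or.inl (Subtype.ext (Subtype.ext e))
    · exact Or.inr (Subtype.ext (Subtype.ext e))
  have hr : 4 ≤ Nat.card q.range := by
    by_contra hlt
    nlinarith
  have hsub : (q.range : Set Q) ⊆ {v | f v = 1 ∧ cj (p ⟨a ^ 4, L.z_mem_H⟩) v = v} := by
    rintro _ ⟨c, rfl⟩
    obtain ⟨hcH, hc⟩ := mem_uGroup.1 c.2.1
    refine ⟨hc, cj_eq_self.2 ?_⟩
    show p _ * p _ = p _ * p _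
    rw [← map_mul, ← map_mul]
    exact congrArg p (Subtype.ext (mem_centralizer_singleton_iff.1 c.2.2).symm)
  have heq := Set.eq_of_subset_of_ncard_le hsub (by
    rw [← Nat.card_coe_set_eq, ← Nat.card_coe_set_eq]
    exact (le_of_eq hC).trans hr) (Set.toFinite _)
  obtain ⟨c, hc⟩ : p ⟨u, hu⟩ ∈ (q.range : Set Q) := by rw [heq]; exact ⟨hf, hfix⟩
  have hc' : p ⟨c, (mem_uGroup.1 c.2.1).1⟩ = p ⟨u, hu⟩ := hc
  rcases B.same_image hc' with e | e <;> rw [e]
  · exact c.2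
  · exact mul_mem c.2 ⟨B.s_mem, mem_centralizer_singleton_iff.2 L.s_z⟩

theorem one (B : BCase L p f) (h16 : Nat.card f.ker = 16) : False := by
  classical
  let H : Subgroup G := centralizer ({s} : Set G)
  set U := uGroup p f with hUdef
  set C := cGroup a p f with hCdef
  set D := dSub s a with hDdef
  set T := tSub L p f with hTdef
  set Z := f (p ⟨a ^ 4, L.z_mem_H⟩) with hZdef
  have hH : Nat.card H = 1920 := by
    show Nat.card (centralizer ({s} : Set G)) = 1920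
    rw [B.card_H, h16]
  have hUc : Nat.card U = 32 := by rw [hUdef, B.card_uGroup, h16]
  have hsC : s ∈ C := ⟨B.s_mem, mem_centralizer_singleton_iff.2 L.s_z⟩
  have hpz : ∀ y, ∀ hy : y ∈ H, y * y = 1 → f (p ⟨y, hy⟩) * f (p ⟨y, hy⟩) = 1 := fun y hy h => by
    rw [← map_mul, ← map_mul, show (⟨y, hy⟩ : H) * ⟨y, hy⟩ = 1 from Subtype.ext h, map_one, map_one]
  -- `z` is not conjugate to `s`
  have hexp : ∀ y ∈ H, y ^ 8 = 1 → y ^ 4 = 1 := by
    intro y hy h8
    have hw8 : f (p ⟨y, hy⟩) ^ 8 = 1 := by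
      rw [← map_pow, ← map_pow, show (⟨y, hy⟩ : H) ^ 8 = 1 from Subtype.ext h8, map_one, map_one]
    have hw2 : f (p ⟨y, hy⟩) * f (p ⟨y, hy⟩) = 1 := by
      rcases A5_orders (f (p ⟨y, hy⟩)) with h | h | h
      · exact h
      · have h1 : f (p ⟨y, hy⟩) ^ Nat.gcd 8 3 = 1 := pow_gcd_eq_one.2 ⟨hw8, h⟩
        rw [show Nat.gcd 8 3 = 1 from rfl, pow_one] at h1
        rw [h1, one_mul]
      · have h1 : f (p ⟨y, hy⟩) ^ Nat.gcd 8 5 = 1 := pow_gcd_eq_one.2 ⟨hw8, h⟩
        rw [show Nat.gcd 8 5 = 1 from rfl, pow_one] at h1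
        rw [h1, one_mul]
    have hyU : y * y ∈ U := mem_uGroup.2 ⟨mul_mem hy hy, by
      show f (p (⟨y, hy⟩ * ⟨y, hy⟩)) = 1
      rw [map_mul, map_mul, hw2]⟩
    rw [show 4 = 2 * 2 from rfl, pow_mul, pow_two y, pow_two]
    exact B.u_sq h16 hyU
  have hz : ¬ IsConj s (a ^ 4) := by
    intro hc
    obtain ⟨c, hc⟩ := isConj_iff.1 hc
    have hcz : cj c⁻¹ (a ^ 4) = s := by rw [← hc]; exact cj_inv_cj c s
    have hmem : cj c⁻¹ a ∈ H :=
      mem_centralizer_singleton_iff.2 (by rw [← hcz]; exact cj_commute (Commute.self_pow a 4).eq)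
    have h4 := hexp _ hmem (by rw [← cj_pow, L.a_pow]; simp [cj])
    rw [← cj_pow, hcz] at h4
    exact L.s_ne h4
  -- `D` and the distinguished involution
  have hCD : C ≤ D := fun y hy => ⟨(mem_uGroup.1 hy.1).1, hy.2⟩
  let ψ : D →* A5 := (f.comp p).comp (Subgroup.inclusion (inf_le_left : D ≤ H))
  have hψrange : ∀ q ∈ ψ.range, q * Z = Z * q := by
    rintro _ ⟨d, rfl⟩
    obtain ⟨hdH, h⟩ := mem_tSub.1 (dSub_le_tSub (f := f) (p := p) L d.2)
    exact h
  have hψker : ∀ d : D, ψ d = 1 → (d : G) ∈ C := fun d h =>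
    ⟨mem_uGroup.2 ⟨d.2.1, h⟩, d.2.2⟩
  let J : C →* A5 := ψ.comp (MonoidHom.mk' (fun c => (⟨cj (a ^ 2) (c : G),
    (L.cj_a_sq_mem (mem_uGroup.1 c.2.1).1 (mem_centralizer_singleton_iff.1 c.2.2)).1,
    mem_centralizer_singleton_iff.2 (L.cj_a_sq_mem (mem_uGroup.1 c.2.1).1
      (mem_centralizer_singleton_iff.1 c.2.2)).2⟩ : D))
    fun c d => Subtype.ext (cj_mul _ _ _))
  have hJker : ∀ c : C, J c = 1 → cj (a ^ 2) (c : G) ∈ U := fun c h => (hψker _ h).1
  have hZ4 : Nat.card {q : A5 // q * Z = Z * q} = 4 := card_commute B.alt.fz_sq B.alt.z_ne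
  have hJr : Nat.card J.range ≤ 4 := by
    rw [← hZ4]
    refine Nat.card_le_card_of_injective
      (fun q : J.range => (⟨q, ?_⟩ : {q : A5 // q * Z = Z * q})) ?_
    · obtain ⟨c, hc⟩ := q.2
      exact hψrange _ ⟨_, hc⟩
    · intro u v e
      exact Subtype.ext (congrArg (fun q : {q : A5 // q * Z = Z * q} => (q : A5)) e :)
  have hJc := J.ker.card_mul_index
  rw [index_ker, B.card_cGroup h16] at hJc
  obtain ⟨x, hxC, hxa, hx1⟩ : ∃ x, x ∈ C ∧ cj (a ^ 2) x ∈ U ∧ x ≠ 1 := by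
    by_contra hno
    push Not at hno
    have : Nat.card J.ker = 1 := by
      refine Nat.card_eq_one_iff_unique.2 ⟨⟨fun u v => ?_⟩, ⟨1⟩⟩
      have e : ∀ u : J.ker, u = 1 := fun u => Subtype.ext (Subtype.ext
        (hno _ (u : C).2 (hJker _ u.2)))
      rw [e u, e v]
    rw [this, one_mul] at hJc
    omega
  obtain ⟨hsx, hzx, huniq⟩ := B.key' hxC.1 (mem_centralizer_singleton_iff.1 hxC.2) hxa hx1
  have hJk2 : Nat.card J.ker ≤ 2 := by
    haveI : Fintype J.ker := Fintype.ofFinite _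
    by_cases hxk : (⟨x, hxC⟩ : C) ∈ J.ker
    · rw [Nat.card_eq_fintype_card, ← Finset.card_univ]
      refine (Finset.card_le_card (t := {1, ⟨⟨x, hxC⟩, hxk⟩}) fun c _ => ?_).trans Finset.card_le_two
      rw [Finset.mem_insert, Finset.mem_singleton]
      by_cases hc : c = 1
      · exact Or.inl hc
      · exact Or.inr (Subtype.ext (Subtype.ext (huniq _ (c : C).2.1
          (mem_centralizer_singleton_iff.1 (c : C).2.2) (hJker _ c.2)
          (fun e => hc (Subtype.ext (Subtype.ext e))))))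
    · refine absurd ?_ hxk
      refine MonoidHom.mem_ker.2 ?_
      obtain ⟨_, h⟩ := mem_uGroup.1 hxa
      exact h
  have hxa2 : cj (a ^ 2) x = x := by
    have h2 := L.cj_a_sq_mem (mem_uGroup.1 hxC.1).1 (mem_centralizer_singleton_iff.1 hxC.2)
    refine huniq _ hxa h2.2 ?_ fun e => hx1 (conj_eq_one_iff.1 e)
    rw [cj_cj, ← pow_add, cj_eq_self.2 (mem_centralizer_singleton_iff.1 hxC.2).symm]
    exact hxC.1
  have hxs : ¬ IsConj s (x * s) := fun h => hz (h.trans hzx.symm)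
  have hxne : x ≠ s := fun e => by
    rw [e, L.s_sq] at hzx
    obtain ⟨c, hc⟩ := isConj_iff.1 hzx
    exact L.z_ne (conj_eq_one_iff.1 hc)
  -- the cosets of `⟨s⟩` in `U` contain non-conjugate elements
  have hcoset : ∀ u ∈ U, u ≠ 1 → u ≠ s → ¬ IsConj u (u * s) := by
    intro u hu u1 us hconj
    obtain ⟨huH, hu'⟩ := mem_uGroup.1 hu
    obtain ⟨hxH, hx'⟩ := mem_uGroup.1 hxC.1
    obtain ⟨q, hq⟩ := B.alt.isConj_of_ne_one h16 hu'
      (fun e => ((B.p_ker _).1 e).elim u1 us) hx' (fun e => ((B.p_ker _).1 e).elim hx1 hxne)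
    obtain ⟨⟨c, hc⟩, rfl⟩ := B.p_surj q
    have hcu : p (⟨c, hc⟩ * ⟨u, huH⟩ * ⟨c, hc⟩⁻¹) = p ⟨x, hxH⟩ := by
      rw [map_mul, map_mul, map_inv]; exact hq
    have hcs : cj c s = s := cj_eq_self.2 (mem_centralizer_singleton_iff.1 hc)
    have h1 : IsConj (cj c u) (cj c u * s) := by
      have := ((isConj_cj c u).symm.trans hconj).trans (isConj_cj c (u * s))
      rwa [cj_mul, hcs] at this
    rcases B.same_image hcu with e | e
    · rw [← show x = cj c u from e] at h1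
      exact hxs (hsx.trans h1)
    · rw [show cj c u = x * s by rw [show x = cj c u * s from e, mul_assoc, L.s_sq, mul_one],
        mul_assoc, L.s_sq, mul_one] at h1
      exact hxs (hsx.trans h1.symm)
  -- `T` centralizes `C`
  have hTC : ∀ t ∈ T, ∀ c ∈ C, cj t c = c := by
    intro t ht c hc
    obtain ⟨htH, htq⟩ := mem_tSub.1 ht
    obtain ⟨hcH, hc'⟩ := mem_uGroup.1 hc.1
    by_cases hc1 : c = 1
    · simp [hc1, cj]
    by_cases hcs : c = s
    · rw [hcs]; exact cj_eq_self.2 (mem_centralizer_singleton_iff.1 htH)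
    have hfix : cj (p ⟨t, htH⟩) (p ⟨c, hcH⟩) = p ⟨c, hcH⟩ :=
      B.alt.fix_cent h16 hc' (cj_eq_self.2 (by
        rw [← map_mul, ← map_mul]
        exact congrArg p (Subtype.ext (mem_centralizer_singleton_iff.1 hc.2).symm))) htq
    have h : p ⟨c, hcH⟩ = p (⟨t, htH⟩ * ⟨c, hcH⟩ * ⟨t, htH⟩⁻¹) := by
      rw [map_mul, map_mul, map_inv]; exact hfix.symm
    rcases B.same_image h with e | e
    · exact e
    · exact absurd (show cj t c = c * s from e) fun e' => hcoset c hc.1 hc1 hcs (e' ▸ isConj_cj t c)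
  -- `D`
  have hJcard : Nat.card J.range = 4 := by
    refine le_antisymm hJr ?_
    by_contra hlt
    nlinarith
  have hJsurj : ∀ q : A5, q * Z = Z * q → ∃ c, J c = q := by
    intro q hq
    have hsub : (J.range : Set A5) ⊆ {q | q * Z = Z * q} := by
      rintro _ ⟨c, rfl⟩
      exact hψrange _ ⟨_, rfl⟩
    have heq := Set.eq_of_subset_of_ncard_le hsub (by
      rw [← Nat.card_coe_set_eq, ← Nat.card_coe_set_eq]
      exact le_of_eq (hZ4.trans hJcard.symm)) (Set.toFinite _)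
    obtain ⟨c, hc⟩ : q ∈ (J.range : Set A5) := by rw [heq]; exact hq
    exact ⟨c, hc⟩
  have hDsq : ∀ d ∈ D, d * d = 1 := by
    intro d hd
    obtain ⟨c, hc⟩ := hJsurj (ψ ⟨d, hd⟩) (hψrange _ ⟨_, rfl⟩)
    have hm := L.cj_a_sq_mem (mem_uGroup.1 c.2.1).1 (mem_centralizer_singleton_iff.1 c.2.2)
    set j := cj (a ^ 2) (c : G) with hj
    have hjD : j ∈ D := ⟨hm.1, mem_centralizer_singleton_iff.2 hm.2⟩
    have hc' : j⁻¹ * d ∈ C := hψker ⟨j⁻¹ * d, mul_mem (inv_mem hjD) hd⟩ (by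
      rw [show (⟨j⁻¹ * d, mul_mem (inv_mem hjD) hd⟩ : D) = ⟨j, hjD⟩⁻¹ * ⟨d, hd⟩ from rfl,
        map_mul, map_inv, show ψ ⟨j, hjD⟩ = J c from rfl, hc, inv_mul_cancel])
    have hjj : j * j = 1 := by rw [hj, ← cj_mul, B.u_sq h16 c.2.1]; simp [cj]
    have hcomm := cj_eq_self.1 (hTC j (dSub_le_tSub L hjD) _ hc')
    have hkk := B.u_sq h16 hc'.1
    rw [show d = j * (j⁻¹ * d) by group]
    generalize j⁻¹ * d = k at hcomm hkk ⊢
    calc j * k * (j * k) = j * (k * j) * k := by simp only [mul_assoc]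
      _ = j * (j * k) * k := by rw [hcomm]
      _ = j * j * (k * k) := by simp only [mul_assoc]
      _ = 1 := by rw [hjj, hkk, one_mul]
  have hDc : Nat.card D = 32 := by
    have h := ψ.ker.card_mul_index
    rw [index_ker] at h
    have hk : Nat.card ψ.ker = 8 := by
      rw [← B.card_cGroup h16]
      refine Nat.card_eq_of_bijective (fun d : ψ.ker => (⟨((d : D) : G), hψker _ d.2⟩ : C)) ⟨?_, ?_⟩
      · intro u v e
        exact Subtype.ext (Subtype.ext (congrArg (fun q : C => (q : G)) e :))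
      · intro c
        obtain ⟨_, hc⟩ := mem_uGroup.1 c.2.1
        exact ⟨⟨⟨c, hCD c.2⟩, hc⟩, rfl⟩
    have hr : Nat.card ψ.range = 4 := by
      refine le_antisymm ?_ (hJcard ▸ card_le_of_le (fun q ⟨c, hc⟩ => ⟨_, hc⟩ : J.range ≤ ψ.range))
      rw [← hZ4]
      refine Nat.card_le_card_of_injective
        (fun q : ψ.range => (⟨q, hψrange _ q.2⟩ : {q : A5 // q * Z = Z * q})) ?_
      intro u v e
      exact Subtype.ext (congrArg (fun q : {q : A5 // q * Z = Z * q} => (q : A5)) e :)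
    rw [hk, hr] at h
    omega
  have hzD : a ^ 4 ∈ D := ⟨L.z_mem_H, mem_centralizer_singleton_iff.2 rfl⟩
  have hDU : D ≠ U := fun e => B.z_notMem (by rw [e] at hzD; exact hzD)
  have hTc : Nat.card T = 128 := by
    rw [hTdef, tSub, Subgroup.card_map_of_injective (Subgroup.subtype_injective _)]
    have h := ((centralizer ({Z} : Set A5)).comap (f.comp p)).card_mul_index
    rw [index_comap_of_surjective _ B.fp_surj] at h
    have h' := (centralizer ({Z} : Set A5)).card_mul_index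
    rw [card_A5, show Nat.card (centralizer ({Z} : Set A5)) = 4 from
      (Nat.card_congr (Equiv.subtypeEquivRight fun q => mem_centralizer_singleton_iff)).trans hZ4] at h'
    rw [show (centralizer ({Z} : Set A5)).index = 15 by omega,
      show Nat.card (centralizer ({s} : Set G)) = 1920 from hH] at h
    rw [← hZdef]
    omega
  -- the elementary subgroups of order 32 of `T`
  have hinv : ∀ t ∈ T, t * t = 1 → t ∈ U ∨ t ∈ D := by
    intro t ht htt
    obtain ⟨htH, htq⟩ := mem_tSub.1 ht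
    by_cases ht1 : f (p ⟨t, htH⟩) = 1
    · exact Or.inl (mem_uGroup.2 ⟨htH, ht1⟩)
    refine Or.inr ?_
    obtain ⟨c, hc⟩ := hJsurj _ htq
    have hm := L.cj_a_sq_mem (mem_uGroup.1 c.2.1).1 (mem_centralizer_singleton_iff.1 c.2.2)
    set d := cj (a ^ 2) (c : G) with hd
    have hdD : d ∈ D := ⟨hm.1, mem_centralizer_singleton_iff.2 hm.2⟩
    have hfd : f (p ⟨d, hdD.1⟩) = f (p ⟨t, htH⟩) := hc
    set u := d⁻¹ * t with hu
    have huH : u ∈ H := mul_mem (inv_mem hdD.1) htH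
    have hfu : f (p ⟨u, huH⟩) = 1 := by
      show f (p (⟨d, hdD.1⟩⁻¹ * ⟨t, htH⟩)) = 1
      rw [map_mul, map_inv, map_mul, map_inv, hfd, inv_mul_cancel]
    have hdu : cj d u = u := by
      have e : t = d * u := by rw [hu, mul_inv_cancel_left]
      rw [e] at htt
      exact cj_eq_self.2 (commute_of_sq (hDsq d hdD) (B.u_sq h16 (mem_uGroup.2 ⟨huH, hfu⟩)) htt)
    have hfix : cj (p ⟨a ^ 4, L.z_mem_H⟩) (p ⟨u, huH⟩) = p ⟨u, huH⟩ := by
      refine B.alt.fix_cent' h16 (r := p ⟨d, hdD.1⟩) (hpz d hdD.1 (hDsq d hdD))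
        (fun e => ht1 (hfd ▸ e)) hfu (cj_eq_self.2 ?_) ?_
      · rw [← map_mul, ← map_mul]
        exact congrArg p (Subtype.ext (cj_eq_self.1 hdu))
      · rw [← map_mul, ← map_mul, ← map_mul, ← map_mul]
        exact congrArg (fun q => f (p q))
          (Subtype.ext (mem_centralizer_singleton_iff.1 hdD.2).symm)
    rw [show t = d * u by rw [hu, mul_inv_cancel_left]]
    exact mul_mem hdD (hCD (B.mem_cGroup h16 hfu hfix))
  have hE : ∀ E : Subgroup G, E ≤ T → (∀ y ∈ E, y * y = 1) → Nat.card E = 32 → E = U ∨ E = D := by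
    intro E hET hEsq hEc
    by_cases hEU : E ≤ U
    · exact Or.inl (eq_of_le_of_card_ge hEU (by rw [hUc, hEc]))
    refine Or.inr (eq_of_le_of_card_ge (fun y hy => ?_) (by rw [hDc, hEc]))
    obtain ⟨u₀, hu₀, hu₀U⟩ := SetLike.not_le_iff_exists.1 hEU
    by_contra hyD
    have hyU := (hinv y (hET hy) (hEsq y hy)).resolve_right hyD
    have hu₀D := (hinv u₀ (hET hu₀) (hEsq u₀ hu₀)).resolve_left hu₀U
    rcases hinv _ (hET (mul_mem hy hu₀)) (hEsq _ (mul_mem hy hu₀)) with h | h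
    · exact hu₀U (by simpa using mul_mem (inv_mem hyU) h)
    · exact hyD (by simpa using mul_mem h (inv_mem hu₀D))
  have hUT : U ≤ T := uGroup_le_tSub
  have hDT : D ≤ T := dSub_le_tSub L
  have hUsq : ∀ y ∈ U, y * y = 1 := fun y hy => B.u_sq h16 hy
  have hnorm : ∀ y ∈ H, cjMap y U = U := fun y hy =>
    cjMap_eq (fun u hu => cj_mem_uGroup hy hu) le_rfl
  have himg : ∀ (c : G) (K : Subgroup G), (∀ y ∈ K, y * y = 1) → ∀ y ∈ cjMap c K, y * y = 1 := by
    rintro c K hK _ ⟨w, hw, rfl⟩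
    show cj c w * cj c w = 1
    rw [← cj_mul, hK w hw]; simp [cj]
  -- the map taking `s` to `x` takes `U` to `D`
  obtain ⟨c₁, hc₁⟩ : ∃ c, cj c s = x := isConj_iff.1 hsx
  have hTx : T ≤ centralizer ({x} : Set G) := fun t ht =>
    mem_centralizer_singleton_iff.2 (cj_eq_self.1 (hTC t ht x hxC))
  have hc₁H : ∀ y ∈ centralizer ({x} : Set G), cj c₁⁻¹ y ∈ H := fun y hy => by
    have := cj_commute (c := c₁⁻¹) (mem_centralizer_singleton_iff.1 hy)
    rw [← hc₁, cj_inv_cj] at this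
    exact mem_centralizer_singleton_iff.2 this
  have hXnorm : ∀ y ∈ centralizer ({x} : Set G), ∀ u ∈ cjMap c₁ U, cj y u ∈ cjMap c₁ U := by
    intro y hy u hu
    rw [mem_cjMap] at hu ⊢
    rw [cj_cj, ← mul_inv_cancel_right (c₁⁻¹ * y) c₁, ← cj_cj]
    exact cj_mem_uGroup (by simpa [cj] using hc₁H y hy) hu
  have hXT : cjMap c₁ U ≤ T := by
    haveI : Fact (Nat.Prime 2) := ⟨Nat.prime_two⟩
    have hXle : cjMap c₁ U ≤ centralizer ({x} : Set G) := by
      rintro _ ⟨u, hu, rfl⟩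
      refine mem_centralizer_singleton_iff.2 ?_
      rw [← hc₁]
      exact cj_commute (mem_centralizer_singleton_iff.1 (mem_uGroup.1 hu).1)
    have hTn : T ≤ normalizer (cjMap c₁ U : Set G) := fun t ht =>
      Subgroup.mem_normalizer_iff.2 fun u => ⟨hXnorm t (hTx ht) u, fun h => by
        have := hXnorm t⁻¹ (inv_mem (hTx ht)) _ h
        rwa [show cj t⁻¹ (t * u * t⁻¹) = u from cj_inv_cj t u] at this⟩
    have hT2 : IsPGroup 2 T := IsPGroup.of_card (p := 2) (n := 7) hTc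
    have hX2 : IsPGroup 2 (cjMap c₁ U) :=
      IsPGroup.of_card (p := 2) (n := 5) (by rw [card_cjMap, hUc]; rfl)
    have h2 := hT2.to_sup_of_normal_right' hX2 hTn
    obtain ⟨n, hn⟩ := IsPGroup.iff_card.1 h2
    have hxc : Nat.card (centralizer ({x} : Set G)) = 1920 := by
      rw [← hH]
      refine Nat.card_congr ((MulAut.conj c₁⁻¹).toEquiv.subtypeEquiv fun y => ⟨hc₁H y, fun h => ?_⟩)
      refine mem_centralizer_singleton_iff.2 ?_
      have := cj_commute (c := c₁) (mem_centralizer_singleton_iff.1 h)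
      rwa [show cj c₁ ((MulAut.conj c₁⁻¹).toEquiv y) = y from cj_cj_inv c₁ y, hc₁] at this
    have hd := card_dvd_of_le (sup_le hTx hXle)
    rw [hn, hxc] at hd
    have hn7 : n ≤ 7 := by
      by_contra hlt
      have := dvd_trans (pow_dvd_pow 2 (by omega : 8 ≤ n)) hd
      norm_num at this
    have heq : T = T ⊔ cjMap c₁ U := eq_of_le_of_card_ge le_sup_left (by
      rw [hn, hTc]; exact Nat.pow_le_pow_right (by norm_num) hn7)
    exact heq ▸ le_sup_right
  have hX : cjMap c₁ U = D := by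
    refine (hE _ hXT (himg c₁ U hUsq) (by rw [card_cjMap, hUc])).resolve_left fun e => ?_
    have hmem : a ^ 2 ∈ centralizer ({x} : Set G) :=
      mem_centralizer_singleton_iff.2 (cj_eq_self.1 hxa2)
    have h := hXnorm _ hmem s (e.symm ▸ B.s_mem)
    rw [e, L.a_s] at h
    exact B.z_notMem (by simpa [mul_assoc, L.s_sq] using mul_mem h B.s_mem)
  -- adjust it to normalize `T`
  obtain ⟨c, hcs, hcU, hcT⟩ : ∃ c, cj c s = x ∧ cjMap c U = D ∧ ∀ t ∈ T, cj c t ∈ T := by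
    have hT'H : ∀ t ∈ T, cj c₁⁻¹ t ∈ H := fun t ht => hc₁H t (hTx ht)
    let θ : T →* A5 := MonoidHom.mk' (fun t => f (p ⟨cj c₁⁻¹ t, hT'H t t.2⟩)) fun u v => by
      rw [← map_mul, ← map_mul]
      exact congrArg (fun q => f (p q)) (Subtype.ext (cj_mul _ _ _))
    have h := θ.ker.card_mul_index
    rw [index_ker, hTc] at h
    have hk : Nat.card θ.ker ≤ 32 := by
      rw [← hUc]
      refine Nat.card_le_card_of_injective (fun t : θ.ker =>
        (⟨cj c₁⁻¹ ((t : T) : G), mem_uGroup.2 ⟨hT'H _ (t : T).2, t.2⟩⟩ : U)) ?_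
      intro u v e
      exact Subtype.ext (Subtype.ext ((MulAut.conj c₁⁻¹).injective
        (congrArg (fun q : U => (q : G)) e :)))
    have hsq : ∀ q ∈ θ.range, q * q = 1 := by
      rintro q ⟨t, rfl⟩
      obtain ⟨n, hn⟩ : ∃ n, θ t ^ 2 ^ n = 1 := by
        obtain ⟨n, hn⟩ := (IsPGroup.of_card (p := 2) (n := 7) hTc) t
        exact ⟨n, by rw [← map_pow, hn, map_one]⟩
      rcases A5_orders (θ t) with h | h | h
      · exact h
      · have h1 : θ t ^ Nat.gcd (2 ^ n) 3 = 1 := pow_gcd_eq_one.2 ⟨hn, h⟩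
        rw [show Nat.gcd (2 ^ n) 3 = 1 from Nat.Coprime.pow_left n (by norm_num), pow_one] at h1
        rw [h1, one_mul]
      · have h1 : θ t ^ Nat.gcd (2 ^ n) 5 = 1 := pow_gcd_eq_one.2 ⟨hn, h⟩
        rw [show Nat.gcd (2 ^ n) 5 = 1 from Nat.Coprime.pow_left n (by norm_num), pow_one] at h1
        rw [h1, one_mul]
    obtain ⟨w, hw, hw1⟩ : ∃ w ∈ θ.range, w ≠ 1 := by
      by_contra hno
      push Not at hno
      rw [show θ.range = ⊥ from eq_bot_iff.2 fun q hq => Subgroup.mem_bot.2 (hno q hq),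
        Subgroup.card_bot, mul_one] at h
      omega
    obtain ⟨e₀, he₀⟩ := two_conj (hsq w hw) hw1 B.alt.fz_sq B.alt.z_ne
    obtain ⟨q₀, rfl⟩ := B.f_surj e₀
    obtain ⟨⟨e, he⟩, rfl⟩ := B.p_surj q₀
    have hT'T : ∀ t ∈ T, cj e (cj c₁⁻¹ t) ∈ T := by
      intro t ht
      refine mem_tSub.2 ⟨mul_mem (mul_mem he (hT'H t ht)) (inv_mem he), ?_⟩
      show f (p (⟨e, he⟩ * ⟨cj c₁⁻¹ t, hT'H t ht⟩ * ⟨e, he⟩⁻¹)) * Z =
        Z * f (p (⟨e, he⟩ * ⟨cj c₁⁻¹ t, hT'H t ht⟩ * ⟨e, he⟩⁻¹))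
      simp only [map_mul, map_inv]
      rw [hZdef, ← he₀]
      have hcomm : θ ⟨t, ht⟩ * w = w * θ ⟨t, ht⟩ :=
        commute_of_sq (hsq _ ⟨_, rfl⟩) (hsq w hw) (hsq _ (mul_mem ⟨_, rfl⟩ hw))
      exact cj_commute hcomm
    have himgT : cjMap (e * c₁⁻¹) T = T := cjMap_eq (fun t ht => by
      rw [← cj_cj]; exact hT'T t ht) le_rfl
    refine ⟨c₁ * e⁻¹, ?_, ?_, fun t ht => ?_⟩
    · rw [← cj_cj, cj_eq_self.2 (mem_centralizer_singleton_iff.1 (inv_mem he)), hc₁]
    · rw [← cjMap_cjMap, hnorm _ (inv_mem he), hX]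
    · rw [← himgT, mem_cjMap] at ht
      rwa [show (e * c₁⁻¹)⁻¹ = c₁ * e⁻¹ by rw [mul_inv_rev, inv_inv]] at ht
  -- an element of order three normalizing `T`
  obtain ⟨w, hw3, hw1, hwn⟩ := exists_norm B.alt.fz_sq B.alt.z_ne
  obtain ⟨q, rfl⟩ := B.f_surj w
  obtain ⟨⟨h, hh⟩, rfl⟩ := B.p_surj q
  have hhT : ∀ t ∈ T, cj h t ∈ T := by
    intro t ht
    obtain ⟨htH, htq⟩ := mem_tSub.1 ht
    refine mem_tSub.2 ⟨mul_mem (mul_mem hh htH) (inv_mem hh), ?_⟩
    show f (p (⟨h, hh⟩ * ⟨t, htH⟩ * ⟨h, hh⟩⁻¹)) * Z = Z * f (p (⟨h, hh⟩ * ⟨t, htH⟩ * ⟨h, hh⟩⁻¹))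
    simp only [map_mul, map_inv]
    exact hwn _ htq
  -- the two normalizing elements exchange or fix `U` and `D`
  have hmove : ∀ y : G, (∀ t ∈ T, cj y t ∈ T) → ∀ K ≤ T, (∀ v ∈ K, v * v = 1) →
      Nat.card K = 32 → cjMap y K = U ∨ cjMap y K = D := by
    intro y hy K hKT hK hKc
    refine hE _ ?_ (himg y K hK) (by rw [card_cjMap, hKc])
    rintro _ ⟨v, hv, rfl⟩
    exact hy v (hKT hv)
  have hinj : ∀ (y : G) (K L' : Subgroup G), cjMap y K = cjMap y L' → K = L' := fun y K L' e => by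
    ext v
    rw [← cj_inv_cj y v, ← mem_cjMap, ← mem_cjMap, e]
  have hhD : cjMap h D = D := (hmove h hhT D hDT hDsq hDc).resolve_left fun e =>
    hDU (hinj h D U (e.trans (hnorm h hh).symm))
  have hcD : cjMap c D = U := (hmove c hcT D hDT hDsq hDc).resolve_right fun e =>
    hDU (hinj c D U (e.trans hcU.symm))
  have hCUD : ∀ v, v ∈ C ↔ v ∈ U ∧ v ∈ D := fun v =>
    ⟨fun hv => ⟨hv.1, hCD hv⟩, fun hv => ⟨hv.1, hv.2.2⟩⟩
  have hcinv : cjMap c⁻¹ U = D := by
    rw [← hcD, cjMap_cjMap, inv_mul_cancel]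
    ext v
    rw [mem_cjMap, inv_one, cj_one]
  have hcinvD : cjMap c⁻¹ D = U := by
    rw [← hcU, cjMap_cjMap, inv_mul_cancel]
    ext v
    rw [mem_cjMap, inv_one, cj_one]
  have hhC : ∀ v ∈ C, cj h v ∈ C := fun v hv =>
    (hCUD _).2 ⟨cj_mem_uGroup hh hv.1, hhD ▸ cj_mem_cjMap (c := h) (hCD hv)⟩
  have hcC : ∀ v ∈ C, cj c v ∈ C := fun v hv =>
    (hCUD _).2 ⟨hcD ▸ cj_mem_cjMap (c := c) (hCD hv), hcU ▸ cj_mem_cjMap (c := c) hv.1⟩
  have hciC : ∀ v ∈ C, cj c⁻¹ v ∈ C := fun v hv =>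
    (hCUD _).2 ⟨hcinvD ▸ cj_mem_cjMap (c := c⁻¹) (hCD hv), hcinv ▸ cj_mem_cjMap (c := c⁻¹) hv.1⟩
  -- elements of `C` fixed by `h` lie in `⟨s⟩`
  have hfix : ∀ v, ∀ hvH : v ∈ H, f (p ⟨v, hvH⟩) = 1 →
      cj (p ⟨h, hh⟩) (p ⟨v, hvH⟩) = p ⟨v, hvH⟩ → v = 1 ∨ v = s := by
    intro v hvH hv hfixv
    have ht := B.alt.triple hw3 hw1 hv
    rw [← cj_cj, hfixv, hfixv, B.sq _ hv, one_mul] at ht
    exact (B.p_ker _).1 ht
  -- a conjugate of `s` in `C` other than `s`
  set r := cj (c * h * c⁻¹) s with hr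
  have hrC : r ∈ C := by
    rw [hr, ← cj_cj, ← cj_cj]
    exact hcC _ (hhC _ (hciC s hsC))
  have hrU : cjMap (c * h * c⁻¹) U = U := by
    rw [← cjMap_cjMap, ← cjMap_cjMap, hcinv, hhD, hcD]
  have hrs : r ≠ s := by
    intro e
    rw [hr, ← cj_cj, ← cj_cj] at e
    have e' : cj h (cj c⁻¹ s) = cj c⁻¹ s := by
      have h' := congrArg (cj c⁻¹) e
      rwa [cj_inv_cj] at h'
    have hv := hciC s hsC
    obtain ⟨hvH, hv'⟩ := mem_uGroup.1 hv.1
    have := hfix _ hvH hv' (by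
      show p ⟨h, hh⟩ * p ⟨cj c⁻¹ s, hvH⟩ * (p ⟨h, hh⟩)⁻¹ = _
      rw [← map_inv, ← map_mul, ← map_mul]
      exact congrArg p (Subtype.ext e'))
    rcases this with e1 | e1
    · exact L.s_ne (conj_eq_one_iff.1 e1)
    · have h' := congrArg (cj c) e1
      rw [cj_cj_inv, hcs] at h'
      exact hxne h'.symm
  -- `r` lies in the coset of a translate of `x`
  obtain ⟨hrH, hr'⟩ := mem_uGroup.1 hrC.1
  obtain ⟨hxH, hx'⟩ := mem_uGroup.1 hxC.1
  set P := p ⟨h, hh⟩ with hP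
  set X := p ⟨x, hxH⟩ with hXdef
  have hXfix : cj P X ≠ X := fun e => ((hfix x hxH hx' e).elim hx1 hxne)
  have hP3 : ∀ v, f v = 1 → cj P (cj P (cj P v)) = v := fun v hv => by
    rw [cj_cj, cj_cj, B.alt.conj_eq (q := 1) ?_ hv, cj_one]
    rw [map_mul, map_mul, map_one]
    rw [pow_three] at hw3
    simpa [mul_assoc] using hw3
  have hmemC : ∀ v ∈ C, ∀ hvH : v ∈ H,
      f (p ⟨v, hvH⟩) = 1 ∧ cj (p ⟨a ^ 4, L.z_mem_H⟩) (p ⟨v, hvH⟩) = p ⟨v, hvH⟩ := by
    intro v hv hvH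
    obtain ⟨_, h1⟩ := mem_uGroup.1 hv.1
    refine ⟨h1, cj_eq_self.2 ?_⟩
    rw [← map_mul, ← map_mul]
    exact congrArg p (Subtype.ext (mem_centralizer_singleton_iff.1 hv.2).symm)
  have hx1' : cj h x ∈ C := hhC x hxC
  have hx2' : cj h (cj h x) ∈ C := hhC _ hx1'
  have hPX : p ⟨cj h x, (mem_uGroup.1 hx1'.1).1⟩ = cj P X := by
    show p (⟨h, hh⟩ * ⟨x, hxH⟩ * ⟨h, hh⟩⁻¹) = _
    rw [map_mul, map_mul, map_inv]
  have hPPX : p ⟨cj h (cj h x), (mem_uGroup.1 hx2'.1).1⟩ = cj P (cj P X) := by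
    rw [← hPX]
    show p (⟨h, hh⟩ * ⟨cj h x, (mem_uGroup.1 hx1'.1).1⟩ * ⟨h, hh⟩⁻¹) = _
    rw [map_mul, map_mul, map_inv]
  have hX1 : X ≠ 1 := fun e => ((B.p_ker _).1 e).elim hx1 hxne
  have hCcard : cCard f (p ⟨a ^ 4, L.z_mem_H⟩) = 4 := by
    rcases B.cases with h | ⟨-, h⟩
    · omega
    · exact h
  have hfour : ({1, X, cj P X, cj P (cj P X)} : Finset Q).card = 4 := by
    have i1 : cj P X ≠ 1 := fun e => hX1 (conj_eq_one_iff.1 e)
    have i2 : cj P (cj P X) ≠ 1 := fun e => i1 (conj_eq_one_iff.1 e)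
    have i3 : cj P (cj P X) ≠ X := fun e => hXfix (by
      nth_rewrite 1 [← e]
      rw [hP3 X hx'])
    have i4 : cj P X ≠ cj P (cj P X) := fun e => hXfix ((MulAut.conj P).injective e.symm)
    simp only [Finset.card_insert_of_notMem, Finset.mem_insert, Finset.mem_singleton,
      Finset.card_singleton, Ne.symm i1, Ne.symm i2, Ne.symm hX1, Ne.symm hXfix, Ne.symm i3, i4,
      or_self, not_false_eq_true]
  have hsub : (↑({1, X, cj P X, cj P (cj P X)} : Finset Q) : Set Q) ⊆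
      {v | f v = 1 ∧ cj (p ⟨a ^ 4, L.z_mem_H⟩) v = v} := by
    intro v hv
    simp only [Finset.coe_insert, Finset.coe_singleton, Set.mem_insert_iff,
      Set.mem_singleton_iff] at hv
    rcases hv with rfl | rfl | rfl | rfl
    · exact ⟨map_one f, by simp [cj]⟩
    · exact hmemC x hxC hxH
    · exact hPX ▸ hmemC _ hx1' _
    · exact hPPX ▸ hmemC _ hx2' _
  have heq := Set.eq_of_subset_of_ncard_le hsub (by
    rw [Set.ncard_coe_finset, hfour, ← Nat.card_coe_set_eq]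
    exact le_of_eq hCcard) (Set.toFinite _)
  have hrmem : p ⟨r, hrH⟩ ∈ (↑({1, X, cj P X, cj P (cj P X)} : Finset Q) : Set Q) := by
    rw [heq]; exact hmemC r hrC hrH
  have hsr : IsConj s r := isConj_cj _ s
  -- so it is that translate
  have hfinish : ∀ y ∈ C, ∀ hyH : y ∈ H, p ⟨y, hyH⟩ = p ⟨r, hrH⟩ →
      ∀ d, cj d s = y → cjMap d U = D → False := by
    intro y hy hyH hpy d hds hdU
    have hry : r = y := by
      rcases B.same_image hpy with e | e
      · exact e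
      · exfalso
        by_cases hy1 : y = 1
        · exact hrs (by rw [e, hy1, one_mul])
        by_cases hys : y = s
        · rw [e, hys, L.s_sq] at hsr
          exact L.s_ne (isConj_one_left.1 hsr)
        · exact hcoset y hy.1 hy1 hys ((hds ▸ isConj_cj d s).symm.trans (e ▸ hsr))
    have hmem : d⁻¹ * (c * h * c⁻¹) ∈ H := by
      refine mem_centralizer_singleton_iff.2 (cj_eq_self.1 ?_)
      rw [← cj_cj, ← hr, hry, ← hds, cj_inv_cj]
    have h' := congrArg (cjMap d) (hnorm _ hmem)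
    rw [cjMap_cjMap, mul_inv_cancel_left, hrU, hdU] at h'
    exact hDU h'.symm
  simp only [Finset.coe_insert, Finset.coe_singleton, Set.mem_insert_iff,
    Set.mem_singleton_iff] at hrmem
  rcases hrmem with e | e | e | e
  · rcases (B.p_ker _).1 e with e1 | e1
    · exact L.s_ne (conj_eq_one_iff.1 (show cj (c * h * c⁻¹) s = 1 from e1))
    · exact hrs e1
  · exact hfinish x hxC hxH e.symm c hcs hcU
  · exact hfinish _ hx1' _ (hPX.trans e.symm) (h * c) (by rw [← cj_cj, hcs])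
      (by rw [← cjMap_cjMap, hcU, hhD])
  · exact hfinish _ hx2' _ (hPPX.trans e.symm) (h * (h * c)) (by rw [← cj_cj, ← cj_cj, hcs])
      (by rw [← cjMap_cjMap, ← cjMap_cjMap, hcU, hhD, hhD])

end BCase

end Cfsg.Agent.M11Local
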