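import Cfsg.Agent.Lib.M11Local.CaseBZero
import Cfsg.Agent.Lib.M11Local.CaseBOne

/-!
# `C(s)/⟨s⟩` an extension of an elementary abelian 2-group by `A₅` is impossible (S3717, case B;
owner: helper31)
-/

set_option autoImplicit false

namespace Cfsg.Agent.M11Local

open Subgroup

variable {G : Type*} [Group G] [Finite G] {M : Subgroup G} {g g' a s : G}

/-- Case B. -/
theorem Local.caseB [IsSimpleGroup G] (L : Local M g g' a s) (hna : ¬ IsMulCommutative G)
    {Q : Type*} [Group Q] (p : centralizer ({s} : Set G) →* Q) (hp : Function.Surjective p)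
    (hpker : ∀ x, p x = 1 ↔ (x : G) = 1 ∨ (x : G) = s)
    (f : Q →* alternatingGroup (Fin 5)) (hf : Function.Surjective f)
    (hcomm : ∀ u v, f u = 1 → f v = 1 → u * v = v * u)
    (hsq : ∀ u, f u = 1 → u * u = 1) : False := by
  have B : BCase L p f := ⟨hp, hpker, hf, hcomm, hsq⟩
  haveI : Finite Q := Finite.of_surjective p hp
  rcases B.cases with h | ⟨h, -⟩
  · exact B.zero hna h
  · exact B.one h

end Cfsg.Agent.M11Local
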