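import Cfsg.Agent.EqLemmas

/-!
# Fixed-point-free automorphisms of order three (S3717; owner helper21)

* `Fpf.norm` : `w * φ w * φ (φ w) = 1`
* `Fpf.shift_comm` : if `b` and `x` commute then so do `b` and `φ x`
* `Fpf.card_le_sq` : with an involutory automorphism inverting `φ`, the order is at most the square of the
  number of its fixed points
-/

set_option autoImplicit false

namespace Cfsg.Agent.M11Local

/-- A fixed-point-free automorphism of order dividing three. -/
structure Fpf {Q : Type*} [Group Q] (φ : Q →* Q) : Prop where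
  cube : ∀ w : Q, φ (φ (φ w)) = w
  fix : ∀ w : Q, φ w = w → w = 1

namespace Fpf

variable {Q : Type*} [Group Q] [Finite Q] {φ : Q →* Q}

theorem norm (h : Fpf φ) (w : Q) : w * φ w * φ (φ w) = 1 := by
  have hinj : Function.Injective fun v : Q => v⁻¹ * φ v := by
    intro u v e
    have e' : u⁻¹ * φ u = v⁻¹ * φ v := e
    have h1 : φ (v * u⁻¹) = v * u⁻¹ := by
      calc φ (v * u⁻¹) = v * (v⁻¹ * φ v) * (φ u)⁻¹ := by rw [map_mul, map_inv]; group
        _ = v * (u⁻¹ * φ u) * (φ u)⁻¹ := by rw [e']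
        _ = v * u⁻¹ := by group
    exact (mul_inv_eq_one.1 (h.fix _ h1)).symm
  obtain ⟨v, hv⟩ := Finite.surjective_of_injective hinj w
  rw [← hv]
  simp only [map_mul, map_inv, h.cube]
  group

theorem comm_self (h : Fpf φ) (w : Q) : w * φ w = φ w * w := by
  have h1 := h.norm w
  have h2 := h.norm w⁻¹
  rw [map_inv, map_inv] at h2
  have e1 : w * φ w = (φ (φ w))⁻¹ := eq_inv_of_mul_eq_one_left h1
  have e2 : w⁻¹ * (φ w)⁻¹ = φ (φ w) := by
    have := eq_inv_of_mul_eq_one_left h2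
    rwa [inv_inv] at this
  calc w * φ w = (φ (φ w))⁻¹ := e1
    _ = (w⁻¹ * (φ w)⁻¹)⁻¹ := by rw [e2]
    _ = φ w * w := by group

theorem shift_comm (h : Fpf φ) {b x : Q} (hbx : b * x = x * b) : b * φ x = φ x * b := by
  have hn : ∀ w : Q, φ (φ w) = (φ w)⁻¹ * w⁻¹ := fun w => by
    rw [← mul_left_cancel_iff (a := w * φ w), h.norm w]; group
  have h1 : φ (φ (b * x)) = φ (φ b) * φ (φ x) := by rw [map_mul, map_mul]
  rw [hn, hn, hn, map_mul] at h1
  -- `b x φb φx = x φx b φb`
  have h2 : b * x * (φ b * φ x) = x * φ x * (b * φ b) := by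
    have := congrArg (fun q => q⁻¹) h1
    simpa [mul_assoc] using this
  rw [hbx] at h2
  have h3 : b * φ b * φ x = φ x * (b * φ b) := by
    simp only [mul_assoc] at h2 ⊢
    exact mul_left_cancel h2
  have h4 : φ b * φ x = φ x * φ b := by rw [← map_mul, hbx, map_mul]
  rw [mul_assoc, h4, ← mul_assoc, ← mul_assoc] at h3
  exact mul_right_cancel h3

theorem card_le_sq (h : Fpf φ) (ζ : Q →* Q) (hζ : ∀ w, ζ (ζ w) = w)
    (hζφ : ∀ w, ζ (φ w) = φ (φ (ζ w))) :
    Nat.card Q ≤ Nat.card {w : Q // ζ w = w} ^ 2 := by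
  classical
  let I := {v : Q // ζ v = v⁻¹}
  let C := {w : Q // ζ w = w}
  have hle : Nat.card I ≤ Nat.card C := by
    refine Nat.card_le_card_of_injective
      (fun v => (⟨φ (v.1 * (φ v.1)⁻¹), ?_⟩ : C)) ?_
    · have hv := v.2
      rw [hζφ, map_mul ζ, map_inv ζ, hζφ, hv]
      simp only [map_mul, map_inv, h.cube, inv_inv]
      have hcomm := congrArg φ (h.comm_self v.1)
      simp only [map_mul] at hcomm
      rw [eq_mul_inv_iff_mul_eq, mul_assoc, inv_mul_eq_iff_eq_mul]
      exact hcomm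
    · intro v w e
      have e' : v.1 * (φ v.1)⁻¹ = w.1 * (φ w.1)⁻¹ := by
        have := congrArg Subtype.val e
        have hinj : Function.Injective φ := fun p q hpq => by rw [← h.cube p, hpq, h.cube]
        exact hinj this
      refine Subtype.ext ?_
      have h1 : φ (w.1⁻¹ * v.1) = w.1⁻¹ * v.1 := by
        calc φ (w.1⁻¹ * v.1) = (φ w.1)⁻¹ * φ v.1 := by rw [map_mul, map_inv]
          _ = w.1⁻¹ * (w.1 * (φ w.1)⁻¹) * φ v.1 := by group
          _ = w.1⁻¹ * (v.1 * (φ v.1)⁻¹) * φ v.1 := by rw [e']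
          _ = w.1⁻¹ * v.1 := by group
      exact (inv_mul_eq_one.1 (h.fix _ h1)).symm
  let f : Q → I := fun q => ⟨q⁻¹ * ζ q, by rw [map_mul, map_inv, hζ, mul_inv_rev, inv_inv]⟩
  have hsplit : Nat.card Q ≤ Nat.card C * Nat.card I := by
    rw [← Nat.card_prod]
    let r : I → Q := Function.invFun f
    refine Nat.card_le_card_of_injective
      (fun q => ((⟨q * (r (f q))⁻¹, ?_⟩ : C), f q)) ?_
    · have e : (r (f q))⁻¹ * ζ (r (f q)) = q⁻¹ * ζ q :=
        congrArg Subtype.val (Function.invFun_eq (f := f) ⟨q, rfl⟩)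
      calc ζ (q * (r (f q))⁻¹)
            = q * (q⁻¹ * ζ q) * ((r (f q))⁻¹ * ζ (r (f q)))⁻¹ * (r (f q))⁻¹ := by
            rw [map_mul, map_inv]; group
        _ = q * (r (f q))⁻¹ := by rw [e]; group
    · intro p q e
      have e1 := congrArg (fun c => c.1.1) e
      have e2 : f p = f q := congrArg Prod.snd e
      simp only [e2] at e1
      exact mul_right_cancel e1
  rw [pow_two]
  exact hsplit.trans (Nat.mul_le_mul_left _ hle)

end Fpf

end Cfsg.Agent.M11Local
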