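import Cfsg.Agent.Lib.M11Local.One
import Cfsg.Agent.Lib.M11Local.Fpf

/-!
# Two-groups normalized by `g` in `C(s)` (S3717; owner helper21)

`Good U g a s` : a 2-group in `C(s)` containing `s` but not `a ^ 4`, normalized by `g` and `a ^ 4`.

* `Good.norm`, `Good.shift` : the norm and shift identities modulo `s`
* `Good.card_le`, `Good.card_le_of_lift` : `|U|` is bounded by the square of `|C_U(a ^ 4)|`
* `Good.key` : `U ∩ U^(a ^ 2) ∩ C(a ^ 4)` is trivial or generated by an involution with `Axis`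
-/

set_option autoImplicit false
set_option linter.unusedSectionVars false

namespace Cfsg.Agent.M11Local

open Subgroup

variable {G : Type*} [Group G] {M U : Subgroup G} {g g' a s : G}

/-- A 2-group in `C(s)` normalized by `g` and `a ^ 4`. -/
structure Good (U : Subgroup G) (g a s : G) : Prop where
  s_mem : s ∈ U
  cent : ∀ u ∈ U, u * s = s * u
  z_notMem : a ^ 4 ∉ U
  two : IsPGroup 2 U
  g_inv : ∀ u ∈ U, cj g u ∈ U
  z_inv : ∀ u ∈ U, cj (a ^ 4) u ∈ U

theorem mem_zpowers_sq {s t : G} (hs : s * s = 1) (ht : t ∈ zpowers s) : t = 1 ∨ t = s := by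
  obtain ⟨k, rfl⟩ := mem_zpowers_iff.1 ht
  have h2 : s ^ (2 : ℤ) = 1 := by rw [zpow_two, hs]
  rcases Int.even_or_odd k with ⟨r, rfl⟩ | ⟨r, rfl⟩
  · left; rw [← two_mul, zpow_mul, h2, one_zpow]
  · right; rw [zpow_add, zpow_mul, h2, one_zpow, one_mul, zpow_one]

/-- The kernel `⟨s⟩` inside `U`. -/
abbrev sN (U : Subgroup G) (s : G) : Subgroup U := (Subgroup.zpowers s).subgroupOf U

namespace Good

variable [Finite G]

theorem normal (hU : Good U g a s) (L : Local M g g' a s) : (sN U s).Normal := ⟨fun n hn u => by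
  rw [Subgroup.mem_subgroupOf] at hn ⊢
  rcases mem_zpowers_sq L.s_sq hn with h | h
  · simp [h]
  · simp only [Subgroup.coe_mul, Subgroup.coe_inv, h, hU.cent u u.2, mul_inv_cancel_right]
    exact Subgroup.mem_zpowers s⟩

theorem mk_eq (hU : Good U g a s) (L : Local M g g' a s) [(sN U s).Normal] {u v : U}
    (h : (QuotientGroup.mk u : U ⧸ sN U s) = QuotientGroup.mk v) :
    (v : G) = u ∨ (v : G) = u * s := by
  have h1 := QuotientGroup.eq.1 h
  rw [Subgroup.mem_subgroupOf] at h1
  rcases mem_zpowers_sq L.s_sq h1 with e | e <;>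
    simp only [Subgroup.coe_mul, Subgroup.coe_inv, inv_mul_eq_iff_eq_mul, mul_one] at e
  · exact Or.inl e
  · exact Or.inr e

/-- The centralizer of `g` in `U`. -/
theorem cent_g (hU : Good U g a s) (L : Local M g g' a s) {u : G} (hu : u ∈ U)
    (hg : u * g = g * u) : u = 1 ∨ u = s := by
  obtain ⟨i, hi⟩ := L.cent3 L.g_cube L.g_ne L.s_sq L.s_ne L.sg hg (hU.cent u hu)
  have key : g ^ i ∈ U := by
    rcases hi with hi | hi
    · exact hi ▸ hu
    · have := U.mul_mem hu hU.s_mem
      rwa [hi, mul_assoc, L.s_sq, mul_one] at this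
  have h1 : g ^ i = 1 := by
    obtain ⟨k, hk⟩ := hU.two ⟨g ^ i, key⟩
    have hk' : (g ^ i) ^ 2 ^ k = 1 := congrArg Subtype.val hk
    have h3 : (g ^ i) ^ 3 = 1 := by rw [← pow_mul, mul_comm, pow_mul, L.g_cube, one_pow]
    have hd : orderOf (g ^ i) ∣ Nat.gcd 3 (2 ^ k) :=
      Nat.dvd_gcd (orderOf_dvd_of_pow_eq_one h3) (orderOf_dvd_of_pow_eq_one hk')
    rw [Nat.Coprime.pow_right k (by norm_num : Nat.Coprime 3 2), Nat.dvd_one, orderOf_eq_one_iff] at hd
    exact hd
  rw [h1, one_mul] at hi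
  exact hi

/-- The maps induced on `U / ⟨s⟩`. -/
theorem exists_maps (hU : Good U g a s) (L : Local M g g' a s) [(sN U s).Normal] :
    ∃ φ ζ : (U ⧸ sN U s) →* (U ⧸ sN U s), Fpf φ ∧ (∀ w, ζ (ζ w) = w) ∧
      (∀ w, ζ (φ w) = φ (φ (ζ w))) ∧
      (∀ u : U, φ (QuotientGroup.mk u) = QuotientGroup.mk ⟨cj g u, hU.g_inv u u.2⟩) ∧
      (∀ u : U, ζ (QuotientGroup.mk u) = QuotientGroup.mk ⟨cj (a ^ 4) u, hU.z_inv u u.2⟩) := by
  let mkEnd : ∀ c : G, (∀ u ∈ U, cj c u ∈ U) → (U →* U) := fun c hc =>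
    { toFun := fun u => ⟨cj c u, hc u u.2⟩
      map_one' := Subtype.ext (by simp [cj])
      map_mul' := fun u v => Subtype.ext (cj_mul c u v) }
  have hker : ∀ (c : G) (hc : ∀ u ∈ U, cj c u ∈ U), cj c s = s →
      sN U s ≤ (sN U s).comap (mkEnd c hc) := by
    intro c hc hcs u hu
    rw [Subgroup.mem_comap, Subgroup.mem_subgroupOf]
    rw [Subgroup.mem_subgroupOf] at hu
    show cj c (u : G) ∈ _
    rcases mem_zpowers_sq L.s_sq hu with h | h
    · simp [h, cj]
    · rw [h, hcs]; exact Subgroup.mem_zpowers s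
  let φ := QuotientGroup.map (sN U s) (sN U s) (mkEnd g hU.g_inv)
    (hker g hU.g_inv (cj_eq_self.2 L.sg.symm))
  let ζ := QuotientGroup.map (sN U s) (sN U s) (mkEnd (a ^ 4) hU.z_inv)
    (hker (a ^ 4) hU.z_inv (cj_eq_self.2 L.s_z.symm))
  have h3 : ∀ q : G, cj g (cj g (cj g q)) = q := fun q => by
    rw [cj_cj, cj_cj, ← pow_three', L.g_cube, cj_one]
  refine ⟨φ, ζ, ⟨?_, ?_⟩, ?_, ?_, fun u => rfl, fun u => rfl⟩
  · intro w
    induction w using QuotientGroup.induction_on with
    | H u => exact congrArg QuotientGroup.mk (Subtype.ext (h3 u))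
  · intro w
    induction w using QuotientGroup.induction_on with
    | H u =>
      intro hw
      rw [QuotientGroup.eq_one_iff, Subgroup.mem_subgroupOf]
      have hg : (u : G) * g = g * u := by
        rcases hU.mk_eq L (u := u) (v := ⟨cj g u, hU.g_inv u u.2⟩) hw.symm with h | h
        · exact (cj_eq_self.1 h).symm
        · exfalso
          have e := h3 (u : G)
          have h' : cj g (u : G) = u * s := h
          have hgs : cj g s = s := cj_eq_self.2 L.sg.symm
          rw [h', cj_mul g (u : G) s, h', hgs, mul_assoc, L.s_sq, mul_one, h'] at e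
          exact L.s_ne (by simpa using e)
      rcases hU.cent_g L u.2 hg with h | h <;> rw [h]
      · exact Subgroup.one_mem _
      · exact Subgroup.mem_zpowers s
  · intro w
    induction w using QuotientGroup.induction_on with
    | H u =>
      refine congrArg QuotientGroup.mk (Subtype.ext ?_)
      show cj (a ^ 4) (cj (a ^ 4) (u : G)) = u
      rw [cj_cj, L.z_sq, cj_one]
  · intro w
    induction w using QuotientGroup.induction_on with
    | H u =>
      refine congrArg QuotientGroup.mk (Subtype.ext ?_)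
      show cj (a ^ 4) (cj g (u : G)) = cj g (cj g (cj (a ^ 4) (u : G)))
      rw [cj_cj, cj_cj, cj_cj, cj_eq_iff.1 L.z_g]
      congr 2
      rw [inv_eq_iff_mul_eq_one, ← pow_three, L.g_cube]

/-- The norm of an element of `U` lies in `⟨s⟩`. -/
theorem norm (hU : Good U g a s) (L : Local M g g' a s) {w : G} (hw : w ∈ U) :
    w * cj g w * cj (g ^ 2) w = 1 ∨ w * cj g w * cj (g ^ 2) w = s := by
  haveI := hU.normal L
  obtain ⟨φ, ζ, hφ, -, -, hφm, -⟩ := hU.exists_maps L
  have h := hφ.norm (QuotientGroup.mk (⟨w, hw⟩ : U))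
  rw [hφm, hφm, ← QuotientGroup.mk_mul, ← QuotientGroup.mk_mul, QuotientGroup.eq_one_iff,
    Subgroup.mem_subgroupOf] at h
  have h' : w * cj g w * cj g (cj g w) ∈ Subgroup.zpowers s := h
  rw [cj_cj, ← pow_two] at h'
  exact mem_zpowers_sq L.s_sq h'

/-- If `b` and `x` commute modulo `s`, so do `b` and the translate of `x`. -/
theorem shift (hU : Good U g a s) (L : Local M g g' a s) {b x : G} (hb : b ∈ U) (hx : x ∈ U)
    (h : b * x = x * b ∨ b * x = x * b * s) :
    b * cj g x = cj g x * b ∨ b * cj g x = cj g x * b * s := by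
  haveI := hU.normal L
  obtain ⟨φ, ζ, hφ, -, -, hφm, -⟩ := hU.exists_maps L
  have h1 : (QuotientGroup.mk ((⟨x, hx⟩ : U) * ⟨b, hb⟩) : U ⧸ sN U s)
      = QuotientGroup.mk ((⟨b, hb⟩ : U) * ⟨x, hx⟩) := by
    rw [QuotientGroup.eq, Subgroup.mem_subgroupOf]
    show (x * b)⁻¹ * (b * x) ∈ _
    rcases h with e | e <;> rw [e]
    · simp
    · rw [inv_mul_cancel_left]; exact Subgroup.mem_zpowers s
  rw [QuotientGroup.mk_mul, QuotientGroup.mk_mul] at h1
  have h2 := hφ.shift_comm h1.symm
  rw [hφm, ← QuotientGroup.mk_mul, ← QuotientGroup.mk_mul] at h2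
  exact hU.mk_eq L h2.symm

theorem card_quotient (hU : Good U g a s) (L : Local M g g' a s) :
    Nat.card U = 2 * Nat.card (U ⧸ sN U s) := by
  rw [Subgroup.card_eq_card_quotient_mul_card_subgroup (sN U s), mul_comm]
  congr 1
  rw [Nat.card_congr (Subgroup.subgroupOfEquivOfLe (Subgroup.zpowers_le.2 hU.s_mem)).toEquiv,
    Nat.card_zpowers, L.orderOf_s]

theorem card_le_aux (hU : Good U g a s) (L : Local M g g' a s) {t : Type*} [Finite t]
    (f : {u : U // cj (a ^ 4) (u : G) = u ∨ cj (a ^ 4) (u : G) = u * s} → t)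
    (hf : Function.Injective f) : Nat.card U * 2 ≤ Nat.card t ^ 2 := by
  classical
  haveI := hU.normal L
  obtain ⟨φ, ζ, hφ, hζ, hζφ, hφm, hζm⟩ := hU.exists_maps L
  let P := {u : U // cj (a ^ 4) (u : G) = u ∨ cj (a ^ 4) (u : G) = u * s}
  let C := {w : U ⧸ sN U s // ζ w = w}
  have hrep : ∀ w : C, ∃ u : P, QuotientGroup.mk (u : U) = w.1 := fun w => by
    obtain ⟨u, hu⟩ := QuotientGroup.mk_surjective w.1
    have e := w.2
    rw [← hu, hζm] at e
    exact ⟨⟨u, hU.mk_eq L e.symm⟩, hu⟩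
  choose r hr using hrep
  have hmul : ∀ (u : P) (e : Bool), (cj (a ^ 4) (((u : U) * bif e then (⟨s, hU.s_mem⟩ : U) else 1) : U)
      = ((u : U) * bif e then (⟨s, hU.s_mem⟩ : U) else 1 : U)) ∨
      cj (a ^ 4) (((u : U) * bif e then (⟨s, hU.s_mem⟩ : U) else 1) : U)
      = (((u : U) * bif e then (⟨s, hU.s_mem⟩ : U) else 1 : U) : G) * s := by
    intro u e
    cases e
    · simpa using u.2
    · simp only [cond_true, Subgroup.coe_mul]
      rw [cj_mul, show cj (a ^ 4) s = s from cj_eq_self.2 L.s_z.symm]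
      rcases u.2 with h | h <;> rw [h]
      · exact Or.inl rfl
      · exact Or.inr rfl
  let k : C × Bool → P := fun p => ⟨_, hmul (r p.1) p.2⟩
  have hk : Function.Injective k := by
    intro p q e
    have e1 : ((r p.1 : P) : U) * (bif p.2 then (⟨s, hU.s_mem⟩ : U) else 1) =
        (r q.1 : U) * (bif q.2 then (⟨s, hU.s_mem⟩ : U) else 1) := congrArg Subtype.val e
    have hsone : (QuotientGroup.mk (⟨s, hU.s_mem⟩ : U) : U ⧸ sN U s) = 1 := by
      rw [QuotientGroup.eq_one_iff, Subgroup.mem_subgroupOf]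
      exact Subgroup.mem_zpowers s
    have h2 := congrArg (QuotientGroup.mk (s := sN U s)) e1
    simp only [QuotientGroup.mk_mul, hr] at h2
    have h0 : ∀ b : Bool,
        (QuotientGroup.mk (bif b then (⟨s, hU.s_mem⟩ : U) else 1) : U ⧸ sN U s) = 1 := fun b => by
      cases b <;> simp [hsone]
    rw [h0, h0, mul_one, mul_one] at h2
    have h3 : p.1 = q.1 := Subtype.ext h2
    rw [h3] at e1
    have h4 := mul_left_cancel e1
    refine Prod.ext h3 ?_
    revert h4
    cases p.2 <;> cases q.2 <;> intro h4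
    · rfl
    · exact absurd (congrArg Subtype.val h4).symm L.s_ne
    · exact absurd (congrArg Subtype.val h4) L.s_ne
    · rfl
  have h1 := (Nat.card_le_card_of_injective k hk).trans (Nat.card_le_card_of_injective f hf)
  rw [Nat.card_prod, Nat.card_eq_fintype_card (α := Bool), Fintype.card_bool] at h1
  have h2 := hφ.card_le_sq ζ hζ hζφ
  rw [hU.card_quotient L]
  calc 2 * Nat.card (U ⧸ sN U s) * 2 = 4 * Nat.card (U ⧸ sN U s) := by ring
    _ ≤ 4 * Nat.card C ^ 2 := Nat.mul_le_mul_left 4 h2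
    _ = (Nat.card C * 2) ^ 2 := by ring
    _ ≤ _ := Nat.pow_le_pow_left h1 2

/-- `|U|` is at most twice the square of `|C_U(z)|`. -/
theorem card_le (hU : Good U g a s) (L : Local M g g' a s) :
    Nat.card U ≤ 2 * Nat.card ↥(U ⊓ centralizer ({a ^ 4} : Set G)) ^ 2 := by
  classical
  by_cases h0 : ∃ w : U, cj (a ^ 4) (w : G) = w * s
  · obtain ⟨w, hw⟩ := h0
    have hwi : cj (a ^ 4) (w : G)⁻¹ = s⁻¹ * (w : G)⁻¹ := by rw [cj_inv, hw, mul_inv_rev]
    have hmem : ∀ u : {u : U // cj (a ^ 4) (u : G) = u ∨ cj (a ^ 4) (u : G) = u * s},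
        cj (a ^ 4) ((u : U) : G) ≠ ((u : U) : G) →
        ((u : U) : G) * (w : G)⁻¹ ∈ U ⊓ centralizer ({a ^ 4} : Set G) := fun u hu =>
      ⟨U.mul_mem u.1.2 (U.inv_mem w.2), mem_centralizer_singleton_iff.2 (cj_eq_self.1 (by
        rw [cj_mul, hwi, u.2.resolve_left hu]; group)).symm⟩
    let f : {u : U // cj (a ^ 4) (u : G) = u ∨ cj (a ^ 4) (u : G) = u * s} →
        ↥(U ⊓ centralizer ({a ^ 4} : Set G)) × Bool := fun u =>
      if h : cj (a ^ 4) ((u : U) : G) = ((u : U) : G) then
        (⟨(u : U), ⟨u.1.2, mem_centralizer_singleton_iff.2 (cj_eq_self.1 h).symm⟩⟩, false)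
      else (⟨((u : U) : G) * (w : G)⁻¹, hmem u h⟩, true)
    have hf : Function.Injective f := by
      intro u v e
      simp only [f] at e
      split_ifs at e with hu hv hv
      · exact Subtype.ext (Subtype.ext (congrArg (fun p => ((p.1 : ↥(U ⊓ _)) : G)) e))
      · exact absurd (congrArg Prod.snd e) (by simp)
      · exact absurd (congrArg Prod.snd e) (by simp)
      · exact Subtype.ext (Subtype.ext
          (mul_right_cancel (congrArg (fun p => ((p.1 : ↥(U ⊓ _)) : G)) e)))
    have := hU.card_le_aux L f hf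
    rw [Nat.card_prod, Nat.card_eq_fintype_card (α := Bool), Fintype.card_bool, mul_pow] at this
    omega
  · have hall : ∀ u : {u : U // cj (a ^ 4) (u : G) = u ∨ cj (a ^ 4) (u : G) = u * s},
        ((u : U) : G) ∈ U ⊓ centralizer ({a ^ 4} : Set G) := fun u =>
      ⟨u.1.2, mem_centralizer_singleton_iff.2 (cj_eq_self.1
        (u.2.resolve_right fun h => h0 ⟨u, h⟩)).symm⟩
    have := hU.card_le_aux L (fun u => (⟨_, hall u⟩ : ↥(U ⊓ centralizer ({a ^ 4} : Set G))))
      (fun u v e => Subtype.ext (Subtype.ext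
        (congrArg (fun p : ↥(U ⊓ centralizer ({a ^ 4} : Set G)) => (p : G)) e)))
    omega

/-- If `z` moves no element of `U` by `s`, then `2 |U| ≤ |C_U(z)| ^ 2`. -/
theorem card_le_of_lift (hU : Good U g a s) (L : Local M g g' a s)
    (h : ∀ u ∈ U, cj (a ^ 4) u ≠ u * s) :
    2 * Nat.card U ≤ Nat.card ↥(U ⊓ centralizer ({a ^ 4} : Set G)) ^ 2 := by
  have hall : ∀ u : {u : U // cj (a ^ 4) (u : G) = u ∨ cj (a ^ 4) (u : G) = u * s},
      ((u : U) : G) ∈ U ⊓ centralizer ({a ^ 4} : Set G) := fun u =>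
    ⟨u.1.2, mem_centralizer_singleton_iff.2 (cj_eq_self.1
      (u.2.resolve_right (h _ u.1.2))).symm⟩
  have := hU.card_le_aux L (fun u => (⟨_, hall u⟩ : ↥(U ⊓ centralizer ({a ^ 4} : Set G))))
    (fun u v e => Subtype.ext (Subtype.ext
        (congrArg (fun p : ↥(U ⊓ centralizer ({a ^ 4} : Set G)) => (p : G)) e)))
  omega

/-- The common part of `U` and `U^(a ^ 2)` centralizing `z`. -/
def inter (U : Subgroup G) (a : G) : Subgroup G :=
  U ⊓ U.comap (MulAut.conj ((a ^ 2)⁻¹)).toMonoidHom ⊓ centralizer ({a ^ 4} : Set G)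

omit [Finite G] in
theorem mem_inter {U : Subgroup G} {a w : G} : w ∈ inter U a ↔
    w ∈ U ∧ cj (a ^ 2)⁻¹ w ∈ U ∧ w * a ^ 4 = a ^ 4 * w := by
  simp only [inter, Subgroup.mem_inf, Subgroup.mem_comap, mem_centralizer_singleton_iff, and_assoc]
  rfl

theorem inter_invar (hU : Good U g a s) (L : Local M g g' a s) {w : G} (hw : w ∈ inter U a) :
    cj (a ^ 2) w ∈ inter U a := by
  obtain ⟨h1, h2, h3⟩ := mem_inter.1 hw
  refine mem_inter.2 ⟨?_, by rw [cj_inv_cj]; exact h1, ?_⟩
  · have := hU.z_inv _ h2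
    rwa [cj_cj, show a ^ 4 * (a ^ 2)⁻¹ = a ^ 2 by
      rw [mul_inv_eq_iff_eq_mul, ← pow_add]] at this
  · have := cj_commute (c := a ^ 2) h3
    rwa [L.a_z] at this

theorem inter_fix (hU : Good U g a s) (L : Local M g g' a s) {w : G} (hw : w ∈ inter U a) :
    cj (a ^ 2) (cj (a ^ 2) w) = w := by
  rw [cj_cj, ← pow_add, cj_eq_self]
  exact (mem_inter.1 hw).2.2.symm

/-- The intersection is trivial or generated by an axis involution. -/
theorem key (hU : Good U g a s) (L : Local M g g' a s) :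
    inter U a = ⊥ ∨ ∃ x, Axis g a s x ∧ x ∈ inter U a ∧ ∀ w ∈ inter U a, w = 1 ∨ w = x := by
  classical
  set I := inter U a with hI
  by_cases hbot : I = ⊥
  · exact Or.inl hbot
  refine Or.inr ?_
  haveI : Nontrivial I := (Subgroup.nontrivial_iff_ne_bot I).2 hbot
  have hIU : I ≤ U := inf_le_left.trans inf_le_left
  have hI2 : IsPGroup 2 I := hU.two.to_le hIU
  haveI := Fact.mk Nat.prime_two
  haveI := hI2.center_nontrivial
  obtain ⟨n, hn0, hn⟩ := (hI2.to_subgroup (center I)).nontrivial_iff_card.1 inferInstance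
  obtain ⟨y, hy⟩ := exists_prime_orderOf_dvd_card' (G := center I) 2
    (by rw [hn]; exact dvd_pow_self 2 hn0.ne')
  -- a fixed involution of the centre
  let T := {w : G // w ∈ I ∧ w * w = 1 ∧ ∀ v ∈ I, w * v = v * w}
  let f : T → T := fun w => ⟨cj (a ^ 2) w.1, hU.inter_invar L w.2.1,
    by rw [← cj_mul, w.2.2.1]; simp [cj],
    fun v hv => by
      have h1 := cj_commute (c := a ^ 2) (w.2.2.2 _ (hU.inter_invar L hv))
      rwa [hU.inter_fix L hv] at h1⟩
  have hff : ∀ w, f (f w) = w := fun w => Subtype.ext (hU.inter_fix L w.2.1)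
  let σ : Equiv.Perm T := ⟨f, f, hff, hff⟩
  haveI := Fintype.ofFinite T
  have hy2 : ((y : I) : G) * ((y : I) : G) = 1 :=
    sq_of_orderOf (by rw [orderOf_coe, orderOf_coe, hy])
  have hT2 : 2 ∣ Fintype.card T := by
    let yT : T := ⟨((y : I) : G), (y : I).2, hy2,
      fun v hv => (congrArg Subtype.val (mem_center_iff.1 y.2 ⟨v, hv⟩)).symm⟩
    let τ : T → T := fun w => ⟨w.1 * yT.1, I.mul_mem w.2.1 yT.2.1, by
      calc w.1 * yT.1 * (w.1 * yT.1) = w.1 * (yT.1 * w.1) * yT.1 := by simp only [mul_assoc]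
        _ = w.1 * w.1 * (yT.1 * yT.1) := by rw [yT.2.2.2 _ w.2.1]; simp only [mul_assoc]
        _ = 1 := by rw [w.2.2.1, yT.2.2.1, one_mul],
      fun v hv => (((show Commute w.1 v from w.2.2.2 v hv)).mul_left (yT.2.2.2 v hv)).eq⟩
    have hτ2 : ∀ w, τ (τ w) = w := fun w => Subtype.ext (by
      show w.1 * yT.1 * yT.1 = w.1
      rw [mul_assoc, yT.2.2.1, mul_one])
    let π : Equiv.Perm T := ⟨τ, τ, hτ2, hτ2⟩
    by_contra h
    obtain ⟨w, hw⟩ := Equiv.Perm.exists_fixed_point_of_prime (p := 2) h (σ := π) (n := 1)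
      (Equiv.ext fun w => by simp [pow_two, π, hτ2])
    have h1 : ((y : I) : G) = 1 := by
      have := congrArg (fun q : T => q.1) hw
      simpa [π, τ, yT] using this
    have : orderOf ((y : I) : G) = 2 := by rw [orderOf_coe, orderOf_coe, hy]
    rw [h1, orderOf_one] at this
    omega
  obtain ⟨w, hw, hwne⟩ := Equiv.Perm.exists_fixed_point_of_prime' (p := 2) hT2
    (σ := σ) (n := 1) (Equiv.ext fun w => by simp [pow_two, σ, hff])
    (a := ⟨1, I.one_mem, one_mul 1, fun v _ => by simp⟩)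
    (Subtype.ext (by simp [σ, f, cj]))
  obtain ⟨x, hxI, hx2, hxc⟩ := w
  have hx1 : x ≠ 1 := fun h => hwne (Subtype.ext h)
  have hfix : cj (a ^ 2) x = x := congrArg Subtype.val hw
  obtain ⟨hxU, hxU', hxz⟩ := mem_inter.1 hxI
  have hxs : x * s = s * x := hU.cent x hxU
  have ne_s : x ≠ s := by
    rintro rfl
    rw [L.a_s] at hfix
    exact L.z_ne (mul_eq_right.1 hfix)
  have ne_z : x ≠ a ^ 4 := fun h => hU.z_notMem (h ▸ hxU)
  have ne_sz : x ≠ s * a ^ 4 := fun h => hU.z_notMem (by
    have := U.mul_mem hU.s_mem hxU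
    rwa [h, ← mul_assoc, L.s_sq, one_mul] at this)
  rcases hU.norm L hxU with hn1 | hn1
  · exfalso
    have h := congrArg (cj (a ^ 2)) hn1
    have e : ∀ k : ℕ, cj (a ^ 2) (cj (g ^ k) x) = cj (g' ^ k) x := fun k => by
      have h1 : a ^ 2 * g ^ k = g' ^ k * a ^ 2 := by rw [← cj_eq_iff, cj_pow, L.a_g]
      rw [cj_cj, h1, ← cj_cj, hfix]
    have e1 := e 1
    rw [pow_one, pow_one] at e1
    rw [cj_mul, cj_mul, hfix, e1, e 2] at h
    exact L.no_zero hx2 hx1 hxs hn1 (h.trans (by simp [cj]))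
  have A : Axis g a s x := ⟨hx2, hx1, ne_s, ne_z, ne_sz, hxs, hxz, hfix, hn1⟩
  refine ⟨x, A, hxI, fun b hb => ?_⟩
  obtain ⟨hbU, -, hbz⟩ := mem_inter.1 hb
  have hbx : b * x = x * b := (hxc b hb).symm
  obtain ⟨h, k, hk, h3, -, hhx, hs, -, -, hz⟩ := A.exists_three L
  set E := eSub a s x with hE
  obtain ⟨hsE, hzE, hxE⟩ := mem_eSub_gens a s x
  -- `h` normalizes `E`
  have hhE : ∀ e ∈ E, cj h e ∈ E := by
    intro e he
    refine Subgroup.closure_induction (p := fun e _ => cj h e ∈ E) ?_ ?_ ?_ ?_ he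
    · intro q hq
      rcases hq with hq | hq | hq
      · subst hq; rw [hs]; exact E.mul_mem hsE hzE
      · subst hq; rw [hz]; exact E.mul_mem hxE hsE
      · rw [Set.mem_singleton_iff] at hq; subst hq; rw [cj_eq_self.2 hhx]; exact hxE
    · simp [cj]
    · intro p q _ _ hp hq
      rw [cj_mul]; exact E.mul_mem hp hq
    · intro p _ hp
      rw [cj_inv]; exact E.inv_mem hp
  -- the translates of `x` normalize `b E`
  have hP : ∀ c ∈ U, cj g x * c = c * cj g x ∨ cj g x * c = c * cj g x * s →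
      c⁻¹ * cj (cj g x) c ∈ E := fun c hc h => by
    rcases h with h | h
    · rw [cj_eq_self.2 h]; simp
    · have : cj (cj g x) c = c * s := by
        rw [cj_eq_iff, h, mul_assoc, hU.cent _ (hU.g_inv x hxU), ← mul_assoc]
      rw [this, inv_mul_cancel_left]; exact hsE
  have key1 : ∀ c ∈ I, c⁻¹ * cj (cj g x) c ∈ E := fun c hc => by
    have hcx : c * x = x * c := (hxc c hc).symm
    refine hP c (hIU hc) ?_
    rcases hU.shift L (hIU hc) hxU (Or.inl hcx) with h | h
    · exact Or.inl h.symm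
    · refine Or.inr ?_
      rw [h, mul_assoc (cj g x * c) s s, L.s_sq, mul_one]
  have key2 : ∀ c ∈ I, c⁻¹ * cj (cj g' x) c ∈ E := fun c hc => by
    have hc' : cj (a ^ 2) c ∈ I := hU.inter_invar L hc
    have h1 := key1 _ hc'
    have e : cj (a ^ 2) (cj g x) = cj g' x := by
      have h1 : a ^ 2 * g = g' * a ^ 2 := cj_eq_iff.1 L.a_g
      rw [cj_cj, h1, ← cj_cj, hfix]
    have hE2 : ∀ q ∈ E, cj (a ^ 2) q ∈ E := by
      intro q hq
      refine Subgroup.closure_induction (p := fun q _ => cj (a ^ 2) q ∈ E) ?_ ?_ ?_ ?_ hq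
      · intro q hq
        rcases hq with hq | hq | hq
        · subst hq; rw [L.a_s]; exact E.mul_mem hzE hsE
        · subst hq; rw [L.a_z]; exact hzE
        · rw [Set.mem_singleton_iff] at hq; subst hq; rw [hfix]; exact hxE
      · simp [cj]
      · intro p q _ _ hp hq
        rw [cj_mul]; exact E.mul_mem hp hq
      · intro p _ hp
        rw [cj_inv]; exact E.inv_mem hp
    have h2 := hE2 _ h1
    rw [cj_mul, cj_inv, hU.inter_fix L hc] at h2
    have e2 : cj (a ^ 2) (cj (cj g x) (cj (a ^ 2) c)) = cj (cj g' x) c := by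
      have h3 := hU.inter_fix L hc
      calc cj (a ^ 2) (cj (cj g x) (cj (a ^ 2) c))
          = cj (cj (a ^ 2) (cj g x)) (cj (a ^ 2) (cj (a ^ 2) c)) := by simp [cj, mul_assoc]
        _ = cj (cj g' x) c := by rw [e, h3]
    rwa [e2] at h2
  obtain ⟨-, aPs, aPz, aQx, -, aQz, aQs, -⟩ := A.actions L
  have aPx : cj (cj g x) x = x := (A.actions L).1
  have normE : ∀ c : G, cj c s ∈ E → cj c (a ^ 4) ∈ E → cj c x ∈ E → ∀ e ∈ E, cj c e ∈ E := by
    intro c h1 h2 h3 e he
    refine Subgroup.closure_induction (p := fun e _ => cj c e ∈ E) ?_ ?_ ?_ ?_ he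
    · intro q hq
      rcases hq with hq | hq | hq
      · subst hq; exact h1
      · subst hq; exact h2
      · rw [Set.mem_singleton_iff] at hq; subst hq; exact h3
    · simp [cj]
    · intro p q _ _ hp hq
      rw [cj_mul]; exact E.mul_mem hp hq
    · intro p _ hp
      rw [cj_inv]; exact E.inv_mem hp
  have hPE := normE _ (by rw [aPs]; exact hsE) (by rw [aPz]; exact E.mul_mem (E.mul_mem hxE hsE) hzE)
    (by rw [aPx]; exact hxE)
  have hQE := normE _ (by rw [aQs]; exact E.mul_mem hxE hzE) (by rw [aQz]; exact E.mul_mem hxE hsE)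
    (by rw [aQx]; exact hxE)
  have hc : ∀ j : ℕ, b⁻¹ * cj ((cj g x * cj g' x) ^ j) b ∈ E ∧
      ∀ e ∈ E, cj ((cj g x * cj g' x) ^ j) e ∈ E := by
    intro j
    induction j with
    | zero => simp [cj]
    | succ j ih =>
      refine ⟨?_, fun e he => ?_⟩
      · have e1 : b⁻¹ * cj ((cj g x * cj g' x) ^ (j + 1)) b = b⁻¹ * cj (cj g x) b *
            cj (cj g x) (b⁻¹ * cj (cj g' x) b) *
            cj (cj g x) (cj (cj g' x) (b⁻¹ * cj ((cj g x * cj g' x) ^ j) b)) := by
          simp [cj, pow_succ', mul_assoc]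
        rw [e1]
        exact E.mul_mem (E.mul_mem (key1 b hb) (hPE _ (key2 b hb))) (hPE _ (hQE _ ih.1))
      · have e1 : cj ((cj g x * cj g' x) ^ (j + 1)) e =
            cj (cj g x) (cj (cj g' x) (cj ((cj g x * cj g' x) ^ j) e)) := by
          simp [cj, pow_succ', mul_assoc]
        rw [e1]
        exact hPE _ (hQE _ (ih.2 e he))
  have hbh : b⁻¹ * cj h b ∈ E := hk ▸ (hc k).1
  have hbE := A.mem_eSub L h3 hhx hs hhE (hU.cent b hbU) hbz hbx hbh
  -- the elements of `E` in `I`
  have hmem : ∀ q ∈ E, ∃ i j l : Bool, q = (bif i then s else 1) * (bif j then a ^ 4 else 1) *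
      (bif l then x else 1) := by
    intro q hq
    refine Subgroup.closure_induction (p := fun q _ => ∃ i j l : Bool,
      q = (bif i then s else 1) * (bif j then a ^ 4 else 1) * (bif l then x else 1)) ?_
      ⟨false, false, false, by simp⟩ ?_ ?_ hq
    · intro q hq
      rcases hq with hq | hq | hq
      · exact ⟨true, false, false, by simp [hq]⟩
      · exact ⟨false, true, false, by simp [hq]⟩
      · rw [Set.mem_singleton_iff] at hq; exact ⟨false, false, true, by simp [hq]⟩
    · rintro p q - - ⟨i, j, l, rfl⟩ ⟨i', j', l', rfl⟩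
      refine ⟨xor i i', xor j j', xor l l', ?_⟩
      have c1 : Commute s (a ^ 4) := L.s_z
      have c2 : Commute x s := hxs
      have c3 : Commute x (a ^ 4) := hxz
      have cS : ∀ (i : Bool) (q : G), Commute q s → Commute q (bif i then s else 1) := fun i q h => by
        cases i
        · exact Commute.one_right q
        · exact h
      have cZ : ∀ (i : Bool) (q : G), Commute q (a ^ 4) → Commute q (bif i then a ^ 4 else 1) :=
        fun i q h => by
        cases i
        · exact Commute.one_right q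
        · exact h
      have hxx : ∀ i, Commute (bif l then x else 1) (bif i then s else 1) := fun i => by
        cases l
        · exact Commute.one_left _
        · exact cS i x c2
      have hxx' : ∀ i, Commute (bif l then x else 1) (bif i then a ^ 4 else 1) := fun i => by
        cases l
        · exact Commute.one_left _
        · exact cZ i x c3
      have hzz : Commute (bif j then a ^ 4 else 1) (bif i' then s else 1) := by
        cases j
        · exact Commute.one_left _
        · exact cS i' _ c1.symm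
      have sq : ∀ (r : G), r * r = 1 → ∀ i i' : Bool,
          (bif i then r else 1) * (bif i' then r else 1) = bif xor i i' then r else 1 := by
        intro r hr i i'; cases i <;> cases i' <;> simp [hr]
      rw [← sq s L.s_sq, ← sq (a ^ 4) L.z_sq, ← sq x hx2]
      calc _ = (bif i then s else 1) * ((bif j then a ^ 4 else 1) * ((bif l then x else 1) *
            (bif i' then s else 1))) * (bif j' then a ^ 4 else 1) * (bif l' then x else 1) := by
            simp only [mul_assoc]
        _ = (bif i then s else 1) * ((bif j then a ^ 4 else 1) * (bif i' then s else 1)) *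
            ((bif l then x else 1) * (bif j' then a ^ 4 else 1)) * (bif l' then x else 1) := by
            rw [(hxx i').eq]; simp only [mul_assoc]
        _ = _ := by rw [hzz.eq, (hxx' j').eq]; simp only [mul_assoc]
    · intro p hp hp'
      obtain ⟨h1, -⟩ := A.eSub_props L hp
      rw [inv_of_sq h1]; exact hp'
  obtain ⟨i, j, l, rfl⟩ := hmem b hbE
  have zU : ∀ i l : Bool, (bif i then s else 1) * a ^ 4 * (bif l then x else 1) ∉ U := by
    intro i l h
    apply hU.z_notMem
    have h1 : (bif i then s else 1) ∈ U := by cases i; exacts [U.one_mem, hU.s_mem]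
    have h2 : (bif l then x else 1) ∈ U := by cases l; exacts [U.one_mem, hxU]
    have := U.mul_mem (U.mul_mem (U.inv_mem h1) h) (U.inv_mem h2)
    rwa [← mul_assoc, ← mul_assoc, inv_mul_cancel, one_mul, mul_inv_cancel_right] at this
  cases j
  · cases i
    · cases l
      · exact Or.inl (by simp)
      · exact Or.inr (by simp)
    · exfalso
      have hs' : s ∈ I := by
        cases l
        · simpa using hb
        · have := I.mul_mem hb hxI
          simpa [mul_assoc, hx2] using this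
      obtain ⟨h1, h2, -⟩ := mem_inter.1 hs'
      have h3 := hU.z_inv _ h2
      rw [cj_cj, show a ^ 4 * (a ^ 2)⁻¹ = a ^ 2 by rw [mul_inv_eq_iff_eq_mul, ← pow_add], L.a_s] at h3
      exact hU.z_notMem (by simpa [mul_assoc, L.s_sq] using U.mul_mem h3 hU.s_mem)
  · exact absurd hbU (by simpa using zU i l)

end Good

end Cfsg.Agent.M11Local
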