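import Cfsg.Agent.Lib.M11Local.Semidihedral
import Cfsg.Agent.Lib.M11Local.AltModule
import Cfsg.Agent.Lib.M11Local.Key

/-!
# `C(s)/⟨s⟩` is an extension of an elementary abelian 2-group by `A₅` (S3717, case B; owner: helper31)

* `BCase.cases` : that group has order 1 or 16
-/

set_option autoImplicit false

namespace Cfsg.Agent.M11Local

open Subgroup

variable {G : Type*} [Group G] {M : Subgroup G} {g g' a s : G}

theorem Local.g_mem_H (L : Local M g g' a s) : g ∈ centralizer ({s} : Set G) :=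
  mem_centralizer_singleton_iff.2 L.sg.symm

theorem Local.z_mem_H (L : Local M g g' a s) : a ^ 4 ∈ centralizer ({s} : Set G) :=
  mem_centralizer_singleton_iff.2 L.s_z.symm

theorem self_mem_centralizer (s : G) : s ∈ centralizer ({s} : Set G) :=
  mem_centralizer_singleton_iff.2 rfl

/-- The hypothesis on 2-subgroups used in case B. -/
def KeyHyp (g a s : G) : Prop :=
  ∀ U : Subgroup G, (∀ x ∈ U, x * s = s * x) → s ∈ U → a ^ 4 ∉ U → IsPGroup 2 U →
    (∀ x ∈ U, cj g x ∈ U) → (∀ x ∈ U, cj (a ^ 4) x ∈ U) →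
    ∀ x ∈ U, x * a ^ 4 = a ^ 4 * x → cj (a ^ 2) x ∈ U → x ≠ 1 →
      IsConj s x ∧ IsConj (a ^ 4) (x * s) ∧
        ∀ y ∈ U, y * a ^ 4 = a ^ 4 * y → cj (a ^ 2) y ∈ U → y ≠ 1 → y = x

theorem keyHyp [Finite G] (L : Local M g g' a s) : KeyHyp g a s := by
  intro U hcent hs hz h2 hg hzi x hx hxz hxa hx1
  have hU : Good U g a s := ⟨hs, hcent, hz, h2, hg, hzi⟩
  have hin : ∀ w ∈ U, w * a ^ 4 = a ^ 4 * w → cj (a ^ 2) w ∈ U → w ∈ Good.inter U a := by
    intro w hw hwz hwa
    refine Good.mem_inter.2 ⟨hw, ?_, hwz⟩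
    have h := hzi _ hwa
    rwa [cj_cj, ← pow_add, show a ^ (4 + 2) = (a ^ 2)⁻¹ from
      eq_inv_of_mul_eq_one_left (by rw [← pow_add]; exact L.a_pow)] at h
  have hx' := hin x hx hxz hxa
  rcases hU.key L with h | ⟨x0, A, -, huniq⟩
  · rw [h, Subgroup.mem_bot] at hx'
    exact absurd hx' hx1
  obtain rfl : x = x0 := (huniq x hx').resolve_left hx1
  obtain ⟨h, k, -, h3, hh1, hhx, -, -, -, hhz⟩ := A.exists_three L
  exact ⟨L.refl h3 hh1 A.sq A.ne_one hhx.symm, hhz ▸ isConj_cj h (a ^ 4),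
    fun y hy hyz hya hy1 => (huniq y (hin y hy hyz hya)).resolve_left hy1⟩

variable {Q : Type*} [Group Q] {p : centralizer ({s} : Set G) →* Q} {f : Q →* A5}

/-- Case B. -/
structure BCase (L : Local M g g' a s) (p : centralizer ({s} : Set G) →* Q) (f : Q →* A5) :
    Prop where
  p_surj : Function.Surjective p
  p_ker : ∀ x, p x = 1 ↔ (x : G) = 1 ∨ (x : G) = s
  f_surj : Function.Surjective f
  comm : ∀ u v, f u = 1 → f v = 1 → u * v = v * u
  sq : ∀ u, f u = 1 → u * u = 1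

/-- The preimage of the kernel. -/
def uGroup (p : centralizer ({s} : Set G) →* Q) (f : Q →* A5) : Subgroup G :=
  (f.comp p).ker.map (centralizer ({s} : Set G)).subtype

theorem mem_uGroup {x : G} :
    x ∈ uGroup p f ↔ ∃ hx : x ∈ centralizer ({s} : Set G), f (p ⟨x, hx⟩) = 1 := by
  constructor
  · rintro ⟨y, hy, rfl⟩
    exact ⟨y.2, hy⟩
  · rintro ⟨hx, h⟩
    exact ⟨⟨x, hx⟩, h, rfl⟩

theorem cj_mem_uGroup {c x : G} (hc : c ∈ centralizer ({s} : Set G)) (hx : x ∈ uGroup p f) :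
    cj c x ∈ uGroup p f := by
  obtain ⟨hxH, h⟩ := mem_uGroup.1 hx
  refine mem_uGroup.2 ⟨mul_mem (mul_mem hc hxH) (inv_mem hc), ?_⟩
  show (f.comp p) (⟨c, hc⟩ * ⟨x, hxH⟩ * ⟨c, hc⟩⁻¹) = 1
  rw [map_mul, map_mul, map_inv, show (f.comp p) ⟨x, hxH⟩ = 1 from h, mul_one, mul_inv_cancel]

/-- The centralizer of `a ^ 4` in the preimage of the kernel. -/
def cGroup (a : G) (p : centralizer ({s} : Set G) →* Q) (f : Q →* A5) : Subgroup G :=
  uGroup p f ⊓ centralizer ({a ^ 4} : Set G)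

namespace BCase

variable {L : Local M g g' a s}

theorem alt (B : BCase L p f) : AltMod f (p ⟨g, L.g_mem_H⟩) (p ⟨a ^ 4, L.z_mem_H⟩) where
  surj := B.f_surj
  comm := B.comm
  sq := B.sq
  g_cube := by rw [← map_pow, show (⟨g, L.g_mem_H⟩ : centralizer ({s} : Set G)) ^ 3 = 1 from
    Subtype.ext L.g_cube, map_one]
  g_ne := fun h => by
    have h2 := B.sq _ h
    have h3 : p ⟨g, L.g_mem_H⟩ = 1 := eq_one_of_cube_sq (by
      rw [← map_pow, show (⟨g, L.g_mem_H⟩ : centralizer ({s} : Set G)) ^ 3 = 1 from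
        Subtype.ext L.g_cube, map_one]) h2
    rcases (B.p_ker _).1 h3 with h4 | h4
    · exact L.g_ne h4
    · exact L.s_ne (eq_one_of_cube_sq (by rw [← (show g = s from h4)]; exact L.g_cube) L.s_sq)
  fix := fun u hu hug => by
    obtain ⟨⟨x, hx⟩, rfl⟩ := B.p_surj u
    have hxs := mem_centralizer_singleton_iff.1 hx
    have hc : cj x g = g := by
      have h1 : p ((⟨g, L.g_mem_H⟩)⁻¹ * (⟨x, hx⟩ * ⟨g, L.g_mem_H⟩ * ⟨x, hx⟩⁻¹)) = 1 := by
        rw [map_mul, map_mul, map_mul, map_inv, map_inv, hug]; group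
      rcases (B.p_ker _).1 h1 with h2 | h2
      · exact (inv_mul_eq_one.1 h2).symm
      · exfalso
        have h3 : cj x g = g * s := inv_mul_eq_iff_eq_mul.1 h2
        have h4 : (g * s) ^ 3 = 1 := by rw [← h3, ← cj_pow, L.g_cube]; simp [cj]
        rw [(show Commute g s from L.sg.symm).mul_pow, L.g_cube, one_mul] at h4
        exact L.s_ne (eq_one_of_cube_sq h4 L.s_sq)
    obtain ⟨i, hi⟩ := L.cent3 L.g_cube L.g_ne L.s_sq L.s_ne L.sg (cj_eq_self.1 hc) hxs
    have hpi : p ⟨x, hx⟩ = p ⟨g, L.g_mem_H⟩ ^ i := by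
      rcases hi with hi | hi
      · rw [← map_pow]; exact congrArg p (Subtype.ext (by push_cast; exact hi))
      · rw [← map_pow, ← mul_one (p (_ ^ i)), ← (B.p_ker ⟨s, self_mem_centralizer s⟩).2 (Or.inr rfl),
          ← map_mul]
        exact congrArg p (Subtype.ext (by push_cast; exact hi))
    rw [hpi, map_pow] at hu
    have hg3 : p ⟨g, L.g_mem_H⟩ ^ 3 = 1 := by
      rw [← map_pow, show (⟨g, L.g_mem_H⟩ : centralizer ({s} : Set G)) ^ 3 = 1 from
        Subtype.ext L.g_cube, map_one]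
    have hf3 : f (p ⟨g, L.g_mem_H⟩) ^ 3 = 1 := by rw [← map_pow, hg3, map_one]
    have hne : f (p ⟨g, L.g_mem_H⟩) ≠ 1 := fun h => by
      have h3 := eq_one_of_cube_sq hg3 (B.sq _ h)
      rcases (B.p_ker _).1 h3 with h4 | h4
      · exact L.g_ne h4
      · exact L.s_ne (eq_one_of_cube_sq (by rw [← (show g = s from h4)]; exact L.g_cube) L.s_sq)
    rw [hpi]
    rcases pow_three_cases hg3 i with h | h | h
    · exact h
    · rw [← map_pow, h] at hu
      exact absurd hu hne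
    · rw [← map_pow, h, map_inv, inv_eq_one] at hu
      exact absurd hu hne
  z_sq := by rw [← map_mul, show (⟨a ^ 4, L.z_mem_H⟩ : centralizer ({s} : Set G)) *
    ⟨a ^ 4, L.z_mem_H⟩ = 1 from Subtype.ext L.z_sq, map_one]
  z_g := by
    show p _ * p _ * (p _)⁻¹ = (p _)⁻¹
    rw [← map_inv, ← map_inv, ← map_mul, ← map_mul]
    exact congrArg p (Subtype.ext L.z_g)

theorem s_mem (B : BCase L p f) : s ∈ uGroup p f :=
  mem_uGroup.2 ⟨self_mem_centralizer s, by rw [(B.p_ker _).2 (Or.inr rfl), map_one]⟩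

theorem z_notMem (B : BCase L p f) : a ^ 4 ∉ uGroup p f := fun h => by
  obtain ⟨_, h'⟩ := mem_uGroup.1 h
  exact B.alt.z_ne h'

theorem pGroup (B : BCase L p f) : IsPGroup 2 (uGroup p f) := by
  rintro ⟨x, hx⟩
  obtain ⟨hxH, h⟩ := mem_uGroup.1 hx
  refine ⟨2, Subtype.ext ?_⟩
  push_cast
  rw [show (4 : ℕ) = 2 + 2 from rfl, pow_add]
  have h2 : p (⟨x, hxH⟩ ^ 2) = 1 := by rw [map_pow, pow_two]; exact B.sq _ h
  rcases (B.p_ker _).1 h2 with h3 | h3 <;> push_cast at h3 <;> rw [h3]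
  · rw [one_mul]
  · exact L.s_sq

/-- The consequence of the key hypothesis for the preimage of the kernel. -/
theorem key' [Finite G] (B : BCase L p f) {x : G} (hx : x ∈ uGroup p f) (hxz : x * a ^ 4 = a ^ 4 * x)
    (hxa : cj (a ^ 2) x ∈ uGroup p f) (hx1 : x ≠ 1) :
    IsConj s x ∧ IsConj (a ^ 4) (x * s) ∧
      ∀ y ∈ uGroup p f, y * a ^ 4 = a ^ 4 * y → cj (a ^ 2) y ∈ uGroup p f → y ≠ 1 → y = x :=
  keyHyp L (uGroup p f) (fun _ h => mem_centralizer_singleton_iff.1 (mem_uGroup.1 h).1) B.s_mem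
    B.z_notMem B.pGroup (fun _ h => cj_mem_uGroup L.g_mem_H h)
    (fun _ h => cj_mem_uGroup L.z_mem_H h) x hx hxz hxa hx1

/-- `a ^ 2` preserves `C(s) ∩ C(a ^ 4)`. -/
theorem _root_.Cfsg.Agent.M11Local.Local.cj_a_sq_mem (L : Local M g g' a s) {x : G}
    (hxs : x ∈ centralizer ({s} : Set G)) (hxz : x * a ^ 4 = a ^ 4 * x) :
    cj (a ^ 2) x ∈ centralizer ({s} : Set G) ∧ cj (a ^ 2) x * a ^ 4 = a ^ 4 * cj (a ^ 2) x := by
  have h1 := cj_commute (c := a ^ 2) (mem_centralizer_singleton_iff.1 hxs)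
  have h2 := cj_commute (c := a ^ 2) hxz
  rw [L.a_z] at h2
  rw [L.a_s] at h1
  refine ⟨mem_centralizer_singleton_iff.2 ?_, h2⟩
  calc cj (a ^ 2) x * s = a ^ 4 * (cj (a ^ 2) x * (a ^ 4 * s)) := by
        rw [← mul_assoc (cj (a ^ 2) x), h2, mul_assoc (a ^ 4), ← mul_assoc (a ^ 4) (a ^ 4), L.z_sq,
          one_mul]
    _ = a ^ 4 * (a ^ 4 * s * cj (a ^ 2) x) := by rw [h1]
    _ = s * cj (a ^ 2) x := by simp only [← mul_assoc, L.z_sq, one_mul]

variable [Finite G]

theorem card_cGroup_le (B : BCase L p f) : Nat.card (cGroup a p f) ≤ 8 := by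
  classical
  have hmem : ∀ x : cGroup a p f, cj (a ^ 2) (x : G) ∈ centralizer ({s} : Set G) ∧
      cj (a ^ 2) (x : G) * a ^ 4 = a ^ 4 * cj (a ^ 2) (x : G) := fun x =>
    L.cj_a_sq_mem (mem_uGroup.1 x.2.1).1 (mem_centralizer_singleton_iff.1 x.2.2)
  let ψ : cGroup a p f →* A5 := MonoidHom.mk'
    (fun x => f (p ⟨cj (a ^ 2) (x : G), (hmem x).1⟩)) fun x y => by
      rw [← map_mul, ← map_mul]
      exact congrArg (fun q => f (p q)) (Subtype.ext (by push_cast; exact cj_mul _ _ _))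
  rw [← ψ.ker.card_mul_index, index_ker]
  show _ ≤ 2 * 4
  refine Nat.mul_le_mul ?_ ?_
  · by_contra hlt
    obtain ⟨x, hx1⟩ : ∃ x : ψ.ker, x ≠ 1 := by
      by_contra hno
      push Not at hno
      haveI : Subsingleton ψ.ker := ⟨fun u v => (hno u).trans (hno v).symm⟩
      exact hlt (by rw [Nat.card_eq_one_iff_unique.2 ⟨inferInstance, ⟨1⟩⟩]; norm_num)
    have hin : ∀ y : ψ.ker, cj (a ^ 2) ((y : cGroup a p f) : G) ∈ uGroup p f := fun y =>
      mem_uGroup.2 ⟨(hmem _).1, MonoidHom.mem_ker.1 y.2⟩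
    obtain ⟨-, -, huniq⟩ := B.key' x.1.2.1 (mem_centralizer_singleton_iff.1 x.1.2.2) (hin x)
      (fun e => hx1 (Subtype.ext (Subtype.ext e)))
    haveI : Fintype ψ.ker := Fintype.ofFinite _
    refine hlt ((Nat.card_eq_fintype_card).trans_le ?_)
    rw [← Finset.card_univ]
    refine (Finset.card_le_card (t := {1, x}) fun y _ => ?_).trans Finset.card_le_two
    by_cases hy : y = 1
    · simp [hy]
    · have := huniq _ y.1.2.1 (mem_centralizer_singleton_iff.1 y.1.2.2) (hin y)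
        (fun e => hy (Subtype.ext (Subtype.ext e)))
      rw [Finset.mem_insert, Finset.mem_singleton]
      exact Or.inr (Subtype.ext (Subtype.ext this))
  · have h4 := card_commute B.alt.fz_sq B.alt.z_ne
    rw [← h4]
    refine Nat.card_le_card_of_injective (fun x : ψ.range => (⟨(x : A5), ?_⟩ :
      {q : A5 // q * f (p ⟨a ^ 4, L.z_mem_H⟩) = f (p ⟨a ^ 4, L.z_mem_H⟩) * q})) ?_
    · obtain ⟨y, hy⟩ := x.2
      rw [← hy]
      show f (p _) * _ = _ * f (p _)
      rw [← map_mul, ← map_mul, ← map_mul, ← map_mul]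
      exact congrArg (fun q => f (p q)) (Subtype.ext (hmem y).2)
    · intro u v e
      exact Subtype.ext (congrArg (fun q : {q : A5 //
        q * f (p ⟨a ^ 4, L.z_mem_H⟩) = f (p ⟨a ^ 4, L.z_mem_H⟩) * q} => (q : A5)) e :)

theorem cCard_le (B : BCase L p f) :
    cCard f (p ⟨a ^ 4, L.z_mem_H⟩) ≤ Nat.card (cGroup a p f) := by
  classical
  let H := centralizer ({s} : Set G)
  set zH : H := ⟨a ^ 4, L.z_mem_H⟩
  let sH : H := ⟨s, self_mem_centralizer s⟩
  let C' := {x : H // f (p x) = 1 ∧ cj (p zH) (p x) = p x}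
  have h2 : 2 * cCard f (p zH) ≤ Nat.card C' := by
    rw [cCard, show 2 = Nat.card Bool by simp, ← Nat.card_prod]
    refine Nat.card_le_card_of_injective (fun q : Bool × {v : Q // f v = 1 ∧ cj (p zH) v = v} =>
      (⟨(B.p_surj q.2.1).choose * cond q.1 sH 1, ?_⟩ : C')) ?_
    · have hs : p (cond q.1 sH 1) = 1 := by
        cases q.1
        · exact map_one p
        · exact (B.p_ker _).2 (Or.inr rfl)
      rw [map_mul, hs, mul_one, (B.p_surj q.2.1).choose_spec]
      exact q.2.2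
    · rintro ⟨b, v⟩ ⟨c, w⟩ e
      have e' : (B.p_surj v.1).choose * cond b sH 1 = (B.p_surj w.1).choose * cond c sH 1 :=
        congrArg (fun q : C' => (q : H)) e
      have hv : (v : Q) = w := by
        have h := congrArg p e'
        have hs : ∀ b : Bool, p (cond b sH 1) = 1 := fun b => by
          cases b
          · exact map_one p
          · exact (B.p_ker _).2 (Or.inr rfl)
        rwa [map_mul, map_mul, hs, hs, mul_one, mul_one, (B.p_surj v.1).choose_spec,
          (B.p_surj w.1).choose_spec] at h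
      obtain rfl : v = w := Subtype.ext hv
      have h1 := mul_left_cancel e'
      cases b <;> cases c <;> first
        | rfl
        | exact absurd (congrArg (fun q : H => (q : G)) h1) L.s_ne
        | exact absurd (congrArg (fun q : H => (q : G)) h1).symm L.s_ne
  have h3 : Nat.card C' ≤ 2 * Nat.card (cGroup a p f) := by
    have hcase : ∀ x : C', cj (a ^ 4) ((x : H) : G) = x.1 ∨
        cj (a ^ 4) ((x : H) : G) = x.1 * s := by
      intro x
      have h : p ((x : H)⁻¹ * (zH * x * zH⁻¹)) = 1 := by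
        rw [map_mul, map_mul, map_mul, map_inv, map_inv,
          show p zH * p x.1 * (p zH)⁻¹ = p x.1 from x.2.2, inv_mul_cancel]
      rcases (B.p_ker _).1 h with h | h
      · exact Or.inl (inv_mul_eq_one.1 h).symm
      · exact Or.inr (inv_mul_eq_iff_eq_mul.1 h)
    have hdiv : ∀ x y : C', cj (a ^ 4) ((x : H) : G) = x.1 * s →
        cj (a ^ 4) ((y : H) : G) = y.1 * s →
        ((y : H) : G)⁻¹ * x.1 ∈ cGroup a p f := by
      intro x y hx hy
      refine ⟨mem_uGroup.2 ⟨mul_mem (inv_mem y.1.2) x.1.2, ?_⟩,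
        mem_centralizer_singleton_iff.2 (cj_eq_self.1 ?_).symm⟩
      · show f (p ((y : H)⁻¹ * x.1)) = 1
        rw [map_mul, map_inv, map_mul, map_inv, x.2.1, y.2.1, inv_one, mul_one]
      · rw [cj_mul, cj_inv, hx, hy, mul_inv_rev, L.s_inv,
          ← mem_centralizer_singleton_iff.1 (inv_mem y.1.2), mul_assoc, ← mul_assoc s,
          ← mem_centralizer_singleton_iff.1 x.1.2, mul_assoc (x.1.1), L.s_sq, mul_one]
    have hself : ∀ x : C', cj (a ^ 4) ((x : H) : G) = x.1 → ((x : H) : G) ∈ cGroup a p f :=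
      fun x hx => ⟨mem_uGroup.2 ⟨x.1.2, x.2.1⟩,
        mem_centralizer_singleton_iff.2 (cj_eq_self.1 hx).symm⟩
    rw [show 2 = Nat.card Bool by simp, ← Nat.card_prod]
    by_cases hex : ∃ y : C', cj (a ^ 4) ((y : H) : G) = y.1 * s
    · obtain ⟨y, hy⟩ := hex
      refine Nat.card_le_card_of_injective (fun x : C' =>
        if h : cj (a ^ 4) ((x : H) : G) = x.1 then (true, (⟨_, hself x h⟩ : cGroup a p f))
        else (false, ⟨_, hdiv x y ((hcase x).resolve_left h) hy⟩)) ?_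
      intro x x' e
      simp only at e
      split_ifs at e with h h' h'
      all_goals have e2 := Prod.ext_iff.1 e
      · exact Subtype.ext (Subtype.ext (congrArg (fun q : cGroup a p f => (q : G)) e2.2 :))
      · exact absurd e2.1 (by simp)
      · exact absurd e2.1 (by simp)
      · exact Subtype.ext (Subtype.ext (mul_left_cancel
          (congrArg (fun q : cGroup a p f => (q : G)) e2.2 :)))
    · push Not at hex
      refine Nat.card_le_card_of_injective (fun x : C' =>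
        (true, (⟨_, hself x ((hcase x).resolve_right (hex x))⟩ : cGroup a p f))) ?_
      intro x x' e
      exact Subtype.ext (Subtype.ext
        (congrArg (fun q : cGroup a p f => (q : G)) (Prod.ext_iff.1 e).2 :))
  omega

/-- The kernel has order 1 or 16. -/
theorem cases [Finite Q] (B : BCase L p f) :
    Nat.card f.ker = 1 ∨
      (Nat.card f.ker = 16 ∧ cCard f (p ⟨a ^ 4, L.z_mem_H⟩) = 4) :=
  B.alt.card_cases (B.cCard_le.trans B.card_cGroup_le)

omit [Finite G] in
theorem card_H [Finite Q] (B : BCase L p f) :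
    Nat.card (centralizer ({s} : Set G)) = 2 * (Nat.card f.ker * 60) := by
  have hk : Nat.card p.ker = 2 := by
    rw [Nat.card_eq_two_iff]
    refine ⟨1, ⟨⟨s, self_mem_centralizer s⟩, MonoidHom.mem_ker.2 ((B.p_ker _).2 (Or.inr rfl))⟩,
      fun e => L.s_ne ?_, ?_⟩
    · exact (congrArg (fun x : p.ker => ((x : centralizer ({s} : Set G)) : G)) e).symm
    · ext x
      simp only [Set.mem_univ, iff_true, Set.mem_insert_iff, Set.mem_singleton_iff]
      rcases (B.p_ker _).1 (MonoidHom.mem_ker.1 x.2) with h | h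
      · exact Or.inl (Subtype.ext (Subtype.ext h))
      · exact Or.inr (Subtype.ext (Subtype.ext h))
  rw [← p.ker.card_mul_index, hk, index_ker, MonoidHom.range_eq_top.2 B.p_surj, card_top,
    ← f.ker.card_mul_index, index_ker, MonoidHom.range_eq_top.2 B.f_surj, card_top, card_A5]

end BCase

end Cfsg.Agent.M11Local
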