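import Cfsg.Agent.Lib.M11Local.CaseBBase
import Cfsg.Agent.Lib.M11Local.Parity
import Cfsg.Agent.S0111

/-!
# `C(s)` of order 120 is impossible (S3717, case B with trivial kernel; owner: helper31)

A Sylow 2-subgroup `S ⊇ ⟨a, s⟩` has order 32; an involution `x ∈ S \ ⟨a, s⟩` centralizes `s` and `a ^ 2`,
and `s` has no conjugate in `⟨a, x⟩`: Thompson transfer.
-/

set_option autoImplicit false

namespace Cfsg.Agent.M11Local

open Subgroup

variable {G : Type*} [Group G] {M : Subgroup G} {g g' a s : G}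

/-- `⟨a, x⟩` as an explicit subgroup, when `x` is an involution with `x a x = a ^ k`. -/
def axGroup (a x : G) (k : ℕ) (ha : a ^ 8 = 1) (hx : x * x = 1)
    (hk : ∀ j : ℕ, x * a ^ j = a ^ (k * j) * x) : Subgroup G where
  carrier := {y | ∃ i : ℕ, y = a ^ i ∨ y = a ^ i * x}
  one_mem' := ⟨0, Or.inl (pow_zero a).symm⟩
  mul_mem' := by
    rintro _ _ ⟨i, rfl | rfl⟩ ⟨j, rfl | rfl⟩
    · exact ⟨i + j, Or.inl (pow_add a i j).symm⟩
    · exact ⟨i + j, Or.inr (by rw [pow_add, mul_assoc])⟩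
    · exact ⟨i + k * j, Or.inr (by rw [mul_assoc, hk, ← mul_assoc, ← pow_add])⟩
    · exact ⟨i + k * j, Or.inl (by
        rw [mul_assoc, ← mul_assoc x, hk, mul_assoc, hx, mul_one, ← pow_add])⟩
  inv_mem' := by
    rintro _ ⟨i, rfl | rfl⟩
    · refine ⟨7 * i, Or.inl (inv_eq_of_mul_eq_one_right ?_)⟩
      rw [← pow_add, show i + 7 * i = 8 * i by ring, pow_mul, ha, one_pow]
    · refine ⟨k * (7 * i), Or.inr ?_⟩
      rw [← hk, mul_inv_rev, inv_of_sq hx]
      refine congrArg (x * ·) (inv_eq_of_mul_eq_one_right ?_)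
      rw [← pow_add, show i + 7 * i = 8 * i by ring, pow_mul, ha, one_pow]

theorem mem_axGroup {a x y : G} {k : ℕ} {ha : a ^ 8 = 1} {hx : x * x = 1}
    {hk : ∀ j : ℕ, x * a ^ j = a ^ (k * j) * x} :
    y ∈ axGroup a x k ha hx hk ↔ ∃ i : ℕ, y = a ^ i ∨ y = a ^ i * x := Iff.rfl

theorem cj_pow_eq_odd {u : G} {i : ℕ} (ha : orderOf a = 8) (h : orderOf (cj u a) = 8)
    (hi : cj u a = a ^ i) : i % 2 = 1 := by
  by_contra hne
  have h4 : cj u a ^ 4 = 1 := by
    rw [hi, ← pow_mul]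
    refine orderOf_dvd_iff_pow_eq_one.1 ?_
    rw [ha]
    exact ⟨i / 2, by omega⟩
  have := orderOf_dvd_of_pow_eq_one h4
  rw [h] at this
  norm_num at this

namespace BCase

variable [Finite G] {Q : Type*} [Group Q] [Finite Q] {p : centralizer ({s} : Set G) →* Q}
  {f : Q →* A5} {L : Local M g g' a s}

theorem zero [IsSimpleGroup G] (B : BCase L p f) (hna : ¬ IsMulCommutative G)
    (h1 : Nat.card f.ker = 1) : False := by
  classical
  let H : Subgroup G := centralizer ({s} : Set G)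
  have hH : Nat.card H = 120 := by
    show Nat.card (centralizer ({s} : Set G)) = 120
    rw [B.card_H, h1]
  have hfinj : ∀ u, f u = 1 → u = 1 := fun u hu => by
    have := (Nat.card_eq_one_iff_unique.1 h1).1
    exact congrArg Subtype.val (Subsingleton.elim (⟨u, hu⟩ : f.ker) 1)
  have hzero : ∀ (y : G) (hy : y ∈ H), f (p ⟨y, hy⟩) = 1 → y = 1 ∨ y = s := fun y hy h =>
    (B.p_ker _).1 (hfinj _ h)
  -- 2-elements of `H` square to one
  have hexp : ∀ y ∈ H, y ^ 8 = 1 → y * y = 1 := by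
    intro y hy h8
    set w := f (p ⟨y, hy⟩) with hw
    have hw8 : w ^ 8 = 1 := by
      rw [hw, ← map_pow, ← map_pow, show (⟨y, hy⟩ : H) ^ 8 = 1 from Subtype.ext h8, map_one,
        map_one]
    have hw2 : w * w = 1 := by
      rcases A5_orders w with h | h | h
      · exact h
      · have e : w = 1 := by
          have : w ^ 1 = 1 := by
            rw [show (1 : ℕ) = Nat.gcd 8 3 from rfl]; exact pow_gcd_eq_one.2 ⟨hw8, h⟩
          simpa using this
        simp [e]
      · have e : w = 1 := by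
          have : w ^ 1 = 1 := by
            rw [show (1 : ℕ) = Nat.gcd 8 5 from rfl]; exact pow_gcd_eq_one.2 ⟨hw8, h⟩
          simpa using this
        simp [e]
    by_cases hw1 : w = 1
    · rcases hzero y hy hw1 with e | e <;> rw [e]
      · rw [one_mul]
      · exact L.s_sq
    · obtain ⟨c, hc⟩ := two_conj hw2 hw1 B.alt.fz_sq B.alt.z_ne
      obtain ⟨q, rfl⟩ := B.f_surj c
      obtain ⟨⟨c, hcH⟩, rfl⟩ := B.p_surj q
      have h' : f (p (⟨a ^ 4, L.z_mem_H⟩⁻¹ * (⟨c, hcH⟩ * ⟨y, hy⟩ * ⟨c, hcH⟩⁻¹))) = 1 := by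
        simp only [map_mul, map_inv]
        rw [← hw, hc, inv_mul_cancel]
      have hsq : cj c y * cj c y = 1 := by
        rcases hzero _ _ h' with e | e
        · rw [show cj c y = a ^ 4 from (inv_mul_eq_one.1 e).symm]; exact L.z_sq
        · rw [show cj c y = a ^ 4 * s from inv_mul_eq_iff_eq_mul.1 e, mul_assoc, ← mul_assoc s,
            L.s_z, mul_assoc (a ^ 4) s s, L.s_sq, mul_one, L.z_sq]
      rw [← cj_mul] at hsq
      exact conj_eq_one_iff.1 hsq
  have hcomm : ∀ y : G, y * a ^ 2 = a ^ 2 * y → ¬ IsConj s y := by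
    intro y hy hc
    obtain ⟨c, hc⟩ := isConj_iff.1 hc
    have hcy : cj c⁻¹ y = s := by rw [← hc]; exact cj_inv_cj c s
    have hmem : cj c⁻¹ (a ^ 2) ∈ H :=
      mem_centralizer_singleton_iff.2 (by rw [← hcy]; exact cj_commute hy.symm)
    have h := hexp _ hmem (by
      rw [← cj_pow, ← pow_mul, show 2 * 8 = 8 * 2 from rfl, pow_mul, L.a_pow, one_pow]; simp [cj])
    rw [← cj_mul, ← pow_add] at h
    exact L.z_ne (conj_eq_one_iff.1 h)
  have hz : ¬ IsConj s (a ^ 4) := hcomm _ (by rw [← pow_add, ← pow_add])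
  -- the Sylow 2-subgroup
  set T := L.tGroup with hT
  have hTc : Nat.card T = 16 := L.card_tGroup
  have hfix : fixCount s T = 30 := by
    have := card_fixed_mul s T
    rw [hTc, L.card_classIn_tGroup hz, show Nat.card (centralizer ({s} : Set G)) = 120 from hH] at this
    omega
  have hidx := index_modEq_fixed hna L.orderOf_s T
  rw [hfix] at hidx
  unfold Nat.ModEq at hidx
  have hGc : 16 * T.index = Nat.card G := by rw [← hTc]; exact T.card_mul_index
  haveI : Fact (Nat.Prime 2) := ⟨Nat.prime_two⟩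
  obtain ⟨S, hTS⟩ := (IsPGroup.of_card (p := 2) (n := 4) (G := T) hTc).exists_le_sylow
  have hScard : Nat.card (S : Subgroup G) = 32 := by
    obtain ⟨n, hn⟩ := IsPGroup.iff_card.1 S.isPGroup'
    have h16 : 16 ∣ Nat.card (S : Subgroup G) := hTc ▸ card_dvd_of_le hTS
    have hdvd : Nat.card (S : Subgroup G) ∣ Nat.card G := card_subgroup_dvd_card _
    have h32 : 32 ∣ Nat.card (S : Subgroup G) :=
      S.pow_dvd_card_of_pow_dvd_card (n := 5) ⟨T.index / 2, by omega⟩
    have h64 : ¬ 64 ∣ Nat.card G := fun ⟨k, hk⟩ => by omega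
    rw [hn] at h32 h16 hdvd ⊢
    have h5 : 5 ≤ n := (Nat.pow_dvd_pow_iff_le_right (by norm_num : 1 < 2)).1 h32
    have h6 : n < 6 := by
      by_contra hlt
      exact h64 (dvd_trans (pow_dvd_pow 2 (by omega : 6 ≤ n)) hdvd)
    obtain rfl : n = 5 := by omega
    rfl
  have hrel : (T.subgroupOf (S : Subgroup G)).index = 2 := by
    have h := (T.subgroupOf (S : Subgroup G)).card_mul_index
    rw [Nat.card_congr (subgroupOfEquivOfLe hTS).toEquiv, hTc, hScard] at h
    omega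
  have hTn : ∀ u ∈ (S : Subgroup G), ∀ t ∈ T, cj u t ∈ T := fun u hu t ht =>
    (Subgroup.normal_of_index_eq_two hrel).conj_mem ⟨t, hTS ht⟩ ht ⟨u, hu⟩
  have hTmul : ∀ u ∈ (S : Subgroup G), ∀ v ∈ (S : Subgroup G), u ∉ T → v ∉ T → u * v ∈ T :=
    fun u hu v hv hut hvt =>
    (mul_mem_iff_of_index_two hrel (a := ⟨u, hu⟩) (b := ⟨v, hv⟩)).2
      ⟨fun h => absurd h hut, fun h => absurd h hvt⟩
  -- `S` centralizes `a ^ 4`
  have hua : ∀ u ∈ (S : Subgroup G), ∃ i : ℕ, i % 2 = 1 ∧ cj u a = a ^ i := by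
    intro u hu
    have ho : orderOf (cj u a) = 8 := (orderOf_cj u a).trans L.orderOf_a
    obtain ⟨i, hi | hi⟩ := L.mem_tGroup.1 (hTn u hu a L.a_mem_tGroup)
    · exact ⟨i, cj_pow_eq_odd L.orderOf_a ho hi, hi⟩
    · exfalso
      have h4 : cj u a ^ 4 = 1 := by
        rw [hi, show 4 = 2 * 2 from rfl, pow_mul, pow_two (a ^ i * s), mul_assoc, ← mul_assoc s,
          L.s_a_pow, mul_assoc, L.s_sq, mul_one, ← pow_add, ← pow_mul,
          show (i + 3 * i) * 2 = 8 * i by ring, pow_mul, L.a_pow, one_pow]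
      have := orderOf_dvd_of_pow_eq_one h4
      rw [ho] at this
      norm_num at this
  have huz : ∀ u ∈ (S : Subgroup G), u * a ^ 4 = a ^ 4 * u := by
    intro u hu
    obtain ⟨i, hi, he⟩ := hua u hu
    refine cj_eq_self.1 ?_
    rw [cj_pow, he, ← pow_mul]
    exact L.a_pow_eq.2 (by omega)
  -- the centralizer of `s` in `S`
  set CS : Subgroup G := (S : Subgroup G) ⊓ H with hCS
  have hCS8 : 8 ≤ Nat.card CS := by
    have hle : (H.subgroupOf (S : Subgroup G)).index ≤ 4 := by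
      rw [← L.card_classIn_tGroup hz, Subgroup.index_eq_card]
      refine Nat.card_le_card_of_injective (fun c => (⟨cj ((Quotient.out c : (S : Subgroup G)) : G) s,
        isConj_cj _ _, hTn _ (Quotient.out c).2 _ L.s_mem_tGroup⟩ : classIn s T)) ?_
      intro c d e
      have e' : cj ((Quotient.out c : (S : Subgroup G)) : G) s =
          cj ((Quotient.out d : (S : Subgroup G)) : G) s :=
        congrArg (fun q : classIn s T => (q : G)) e
      rw [← QuotientGroup.out_eq' c, ← QuotientGroup.out_eq' d, QuotientGroup.eq]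
      refine mem_centralizer_singleton_iff.2 (cj_eq_self.1 ?_)
      rw [map_mul, map_inv, ← cj_cj]
      show cj ((Quotient.out c : (S : Subgroup G)) : G)⁻¹ (cj ((Quotient.out d : (S : Subgroup G)) : G) s) = s
      rw [← e', cj_inv_cj]
    have h := (H.subgroupOf (S : Subgroup G)).card_mul_index
    rw [hScard] at h
    have hcs : Nat.card (H.subgroupOf (S : Subgroup G)) = Nat.card CS := by
      rw [← card_map_of_injective (Subgroup.subtype_injective (S : Subgroup G)),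
        subgroupOf_map_subtype, inf_comm]
    rw [← hcs]
    nlinarith
  have hTH : ∀ y ∈ T, y ∈ H → y = 1 ∨ y = a ^ 4 ∨ y = s ∨ y = a ^ 4 * s := by
    intro y hyT hyH
    have hys := mem_centralizer_singleton_iff.1 hyH
    obtain ⟨i, rfl | rfl⟩ := L.mem_tGroup.1 hyT
    · rw [L.s_a_pow] at hys
      have h8 := L.a_pow_eq.1 (mul_right_cancel hys)
      rcases (show i % 8 = 0 % 8 ∨ i % 8 = 4 % 8 by omega) with h | h <;>
        rw [L.a_pow_eq.2 h]
      · exact Or.inl (pow_zero a)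
      · exact Or.inr (Or.inl rfl)
    · rw [← mul_assoc, L.s_a_pow] at hys
      have h8 := L.a_pow_eq.1 (mul_right_cancel (mul_right_cancel hys))
      rcases (show i % 8 = 0 % 8 ∨ i % 8 = 4 % 8 by omega) with h | h <;>
        rw [L.a_pow_eq.2 h]
      · exact Or.inr (Or.inr (Or.inl (by rw [pow_zero, one_mul])))
      · exact Or.inr (Or.inr (Or.inr rfl))
  have hCSexp : ∀ y ∈ CS, y * y = 1 := by
    intro y hy
    refine hexp y hy.2 (orderOf_dvd_iff_pow_eq_one.1 ?_)
    obtain ⟨n, hn⟩ := IsPGroup.iff_card.1 ((S.isPGroup').to_le (inf_le_left : CS ≤ _))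
    have h1 : Nat.card CS ∣ 120 := hH ▸ card_dvd_of_le inf_le_right
    rw [hn] at h1
    have hn3 : n ≤ 3 := by
      by_contra hlt
      have := dvd_trans (pow_dvd_pow 2 (by omega : 4 ≤ n)) h1
      norm_num at this
    refine (Subgroup.orderOf_dvd_natCard CS hy).trans ?_
    rw [hn]
    exact pow_dvd_pow 2 hn3
  obtain ⟨x₀, hx₀, hx₀T⟩ : ∃ x₀ ∈ CS, x₀ ∉ T := by
    by_contra hno
    push Not at hno
    have hsub : (CS : Set G) ⊆ ↑({1, a ^ 4, s, a ^ 4 * s} : Finset G) := fun y hy => by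
      have := hTH y (hno y hy) hy.2
      simpa using this
    have h4 := Set.ncard_le_ncard hsub (Finset.finite_toSet _)
    rw [Set.ncard_coe_finset, ← Nat.card_coe_set_eq] at h4
    have h4' : Nat.card CS ≤ 4 := le_trans h4 Finset.card_le_four
    omega
  have ha2S : a ^ 2 ∈ (S : Subgroup G) := pow_mem (hTS L.a_mem_tGroup) 2
  have hzS : a ^ 4 ∈ (S : Subgroup G) := pow_mem (hTS L.a_mem_tGroup) 4
  -- an involution outside `T` fixed by `a ^ 2`
  obtain ⟨x, hxS, hxH, hxT, hxa⟩ :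
      ∃ x, x ∈ (S : Subgroup G) ∧ x ∈ H ∧ x ∉ T ∧ cj (a ^ 2) x = x := by
    set w := x₀⁻¹ * cj (a ^ 2) x₀ with hw
    have hmem := L.cj_a_sq_mem hx₀.2 (huz x₀ hx₀.1)
    have hwH : w ∈ H := mul_mem (inv_mem hx₀.2) hmem.1
    have hwT : w ∈ T := by
      have h1 := hTn x₀⁻¹ (inv_mem hx₀.1) _ (pow_mem L.a_mem_tGroup 2)
      rw [hw, show x₀⁻¹ * cj (a ^ 2) x₀ = cj x₀⁻¹ (a ^ 2) * (a ^ 2)⁻¹ by simp [cj, mul_assoc]]
      exact mul_mem h1 (inv_mem (pow_mem L.a_mem_tGroup 2))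
    have hxw : cj (a ^ 2) x₀ = x₀ * w := by rw [hw, mul_inv_cancel_left]
    have hww : w * cj (a ^ 2) w = 1 := by
      have e : cj (a ^ 2) (cj (a ^ 2) x₀) = x₀ := by
        rw [cj_cj, ← pow_add, cj_eq_self]; exact (huz x₀ hx₀.1).symm
      rw [hxw, cj_mul, hxw, mul_assoc] at e
      exact mul_eq_left.1 e
    rcases hTH w hwT hwH with e | e | e | e
    · exact ⟨x₀, hx₀.1, hx₀.2, hx₀T, by rw [hxw, e, mul_one]⟩
    · refine ⟨x₀ * s, mul_mem hx₀.1 (hTS L.s_mem_tGroup), mul_mem hx₀.2 (self_mem_centralizer s),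
        fun h => hx₀T (by simpa [mul_assoc, L.s_sq] using mul_mem h L.s_mem_tGroup), ?_⟩
      rw [cj_mul, hxw, e, L.a_s, mul_assoc x₀ (a ^ 4), ← mul_assoc (a ^ 4) (a ^ 4), L.z_sq, one_mul]
    · rw [e, L.a_s, ← mul_assoc, L.s_z, mul_assoc, L.s_sq, mul_one] at hww
      exact absurd hww L.z_ne
    · rw [e, cj_mul, L.a_z, L.a_s, ← mul_assoc (a ^ 4) (a ^ 4) s, L.z_sq, one_mul, mul_assoc, L.s_sq,
        mul_one] at hww
      exact absurd hww L.z_ne
  have hx2 : x * x = 1 := hCSexp x ⟨hxS, hxH⟩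
  have hxc : x * a ^ 2 = a ^ 2 * x := (cj_eq_self.1 hxa).symm
  obtain ⟨k, hk2, hka⟩ := hua x hxS
  have hkj : ∀ j : ℕ, x * a ^ j = a ^ (k * j) * x := fun j => by
    rw [← cj_eq_iff, cj_pow, hka, ← pow_mul]
  have hk8 : k % 8 = 1 ∨ k % 8 = 5 := by
    have h := cj_eq_iff.2 hxc
    rw [cj_pow, hka, ← pow_mul] at h
    have := L.a_pow_eq.1 h
    omega
  set W := axGroup a x k L.a_pow hx2 hkj with hW
  have hWS : W ≤ (S : Subgroup G) := by
    rintro _ ⟨i, rfl | rfl⟩
    · exact pow_mem (hTS L.a_mem_tGroup) i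
    · exact mul_mem (pow_mem (hTS L.a_mem_tGroup) i) hxS
  have hne : ∀ i j : ℕ, a ^ i ≠ a ^ j * x := fun i j h => hxT (by
    rw [show x = (a ^ j)⁻¹ * a ^ i by rw [h, inv_mul_cancel_left]]
    exact mul_mem (inv_mem (pow_mem L.a_mem_tGroup j)) (pow_mem L.a_mem_tGroup i))
  have hWc : Nat.card W = 16 := by
    let e : Fin 8 ⊕ Fin 8 → W := Sum.elim (fun i => ⟨a ^ (i : ℕ), i, Or.inl rfl⟩)
      (fun i => ⟨a ^ (i : ℕ) * x, i, Or.inr rfl⟩)
    have he : Function.Bijective e := by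
      refine ⟨?_, ?_⟩
      · rintro (i | i) (j | j) h <;> have h' := congrArg Subtype.val h
        · exact congrArg Sum.inl (Fin.ext (by
            have := L.a_pow_eq.1 h'; rwa [Nat.mod_eq_of_lt i.2, Nat.mod_eq_of_lt j.2] at this))
        · exact absurd h' (hne i j)
        · exact absurd h'.symm (hne j i)
        · exact congrArg Sum.inr (Fin.ext (by
            have := L.a_pow_eq.1 (mul_right_cancel h')
            rwa [Nat.mod_eq_of_lt i.2, Nat.mod_eq_of_lt j.2] at this))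
      · rintro ⟨y, i, rfl | rfl⟩
        · exact ⟨Sum.inl ⟨i % 8, Nat.mod_lt _ (by norm_num)⟩, Subtype.ext (L.a_pow_mod i)⟩
        · exact ⟨Sum.inr ⟨i % 8, Nat.mod_lt _ (by norm_num)⟩,
            Subtype.ext (congrArg (· * x) (L.a_pow_mod i))⟩
    rw [← Nat.card_eq_of_bijective e he]
    simp
  have hWi : W.relIndex (S : Subgroup G) = 2 := by
    have h := (W.subgroupOf (S : Subgroup G)).card_mul_index
    rw [Nat.card_congr (subgroupOfEquivOfLe hWS).toEquiv, hWc, hScard] at h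
    show (W.subgroupOf (S : Subgroup G)).index = 2
    omega
  have hsW : s ∉ W := by
    rintro ⟨i, h | h⟩
    · exact L.pow_ne_mul_s i 0 (by rw [pow_zero, one_mul, h])
    · refine hxT ?_
      rw [show x = (a ^ i)⁻¹ * s by rw [h, inv_mul_cancel_left]]
      exact mul_mem (inv_mem (pow_mem L.a_mem_tGroup i)) L.s_mem_tGroup
  rcases Cfsg.Agent.S0111.result S W hWS hWi s L.orderOf_s (hTS L.s_mem_tGroup) hsW with
    ⟨N, hN, hNi, hsN⟩ | ⟨c, i, hci⟩
  · rcases hN.eq_bot_or_eq_top with h | h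
    · rw [h, Subgroup.index_bot] at hNi
      exact absurd (hNi ▸ card_subgroup_dvd_card H : Nat.card H ∣ 2) (by rw [hH]; norm_num)
    · rw [h, Subgroup.index_top] at hNi; omega
  · have hinv : c * s * c⁻¹ * (c * s * c⁻¹) = 1 := by
      show cj c s * cj c s = 1
      rw [← cj_mul, L.s_sq]; simp [cj]
    have hone : c * s * c⁻¹ ≠ 1 := fun e => L.s_ne (conj_eq_one_iff.1 e)
    have hcs : IsConj s (c * s * c⁻¹) := isConj_cj c s
    rcases hci with e | e <;> rw [e] at hinv hone hcs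
    · refine hcomm _ ?_ hcs
      rw [← pow_add, ← pow_add, add_comm]
    · rw [mul_assoc, ← mul_assoc x, hkj, mul_assoc, hx2, mul_one, ← pow_add] at hinv
      have h8 := (L.a_pow_eq (i := i + k * i) (j := 0)).1 (by rw [hinv, pow_zero])
      refine hcomm _ ?_ hcs
      rw [mul_assoc, hxc, ← mul_assoc, ← pow_add, ← mul_assoc, ← pow_add, add_comm]

end BCase

end Cfsg.Agent.M11Local
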