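import Cfsg.Agent.EqLemmas
import Cfsg.Agent.Lib.PSL2.Facts

/-!
# The involutions of `PSL(2, 7)` (S3717; owner: helper31)
-/

set_option autoImplicit false

namespace Cfsg.Agent.M11Local

open Matrix

abbrev SL27 := Matrix.SpecialLinearGroup (Fin 2) (ZMod 7)
abbrev L27 := Matrix.ProjectiveSpecialLinearGroup (Fin 2) (ZMod 7)

/-- The image in `PSL(2, 7)`. -/
noncomputable def proj : SL27 →* L27 := QuotientGroup.mk' _

theorem proj_eq_one (A : SL27) : proj A = 1 ↔ A = 1 ∨ A = -1 := by
  haveI : Fact (Nat.Prime 7) := ⟨by norm_num⟩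
  exact (QuotientGroup.eq_one_iff A).trans PSL2.mem_center_iff'

theorem proj_eq (A B : SL27) : proj A = proj B ↔ A = B ∨ A = -B := by
  rw [← inv_mul_eq_one, ← map_inv, ← map_mul, proj_eq_one, inv_mul_eq_one, inv_mul_eq_iff_eq_mul,
    mul_neg, mul_one]
  constructor <;> rintro (rfl | rfl) <;> first | exact Or.inl rfl | exact Or.inr (neg_neg _).symm

theorem trace_one : ∀ a b c d : ZMod 7, a * d - b * c = 1 → a * a + b * c = 1 →
    a * b + b * d = 0 → c * a + d * c = 0 → c * b + d * d = 1 →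
    b = 0 ∧ c = 0 ∧ d = a ∧ (a = 1 ∨ a = -1) := by decide +kernel

theorem trace_zero : ∀ a b c d : ZMod 7, a * d - b * c = 1 → a * a + b * c = -1 →
    a * b + b * d = 0 → c * a + d * c = 0 → c * b + d * d = -1 → d = -a := by
  haveI : Fact (Nat.Prime 7) := ⟨by norm_num⟩
  intro a b c d h h1 h2 h3 _
  by_contra hne
  have hsum : a + d ≠ 0 := fun e => hne (by linear_combination e)
  have hb : b = 0 := (mul_eq_zero.1 (show b * (a + d) = 0 by linear_combination h2)).resolve_right hsum
  have ha : a = 0 := (mul_eq_zero.1 (show a * (a + d) = 0 by linear_combination h + h1)).resolve_right hsum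
  have h10 : (0 : ZMod 7) = -1 := by rw [ha, hb] at h1; simpa using h1
  exact neg_ne_zero.2 one_ne_zero h10.symm

theorem triple_conj : ∀ a b c : ZMod 7, a * a + b * c = -1 →
    ∃ p q r u : ZMod 7, p * u - q * r = 1 ∧ p * a + q * c = r ∧ p * b - q * a = u ∧
      r * a + u * c = -p ∧ r * b - u * a = -q := by decide +kernel

theorem triple_count :
    (Finset.univ.filter fun t : ZMod 7 × ZMod 7 × ZMod 7 =>
      t.1 * t.1 + t.2.1 * t.2.2 = -1).card = 42 := by decide +kernel

/-- The matrices squaring to `-1`. -/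
abbrev Quarter : Type := {A : SL27 // A * A = -1}

theorem entries_mul (A B : SL27) (i j : Fin 2) :
    (A * B).1 i j = A.1 i 0 * B.1 0 j + A.1 i 1 * B.1 1 j := by
  show (A.1 * B.1) i j = _
  rw [Matrix.mul_apply, Fin.sum_univ_two]

theorem quarter_shape {A : SL27} (h : A * A = -1) :
    A.1 1 1 = -A.1 0 0 ∧ A.1 0 0 * A.1 0 0 + A.1 0 1 * A.1 1 0 = -1 := by
  have hd : A.1 0 0 * A.1 1 1 - A.1 0 1 * A.1 1 0 = 1 := (Matrix.det_fin_two A.1).symm.trans A.2
  have e : ∀ i j, A.1 i 0 * A.1 0 j + A.1 i 1 * A.1 1 j = (-1 : SL27).1 i j := fun i j => by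
    rw [← entries_mul, h]
  refine ⟨trace_zero _ _ _ _ hd ?_ ?_ ?_ ?_, ?_⟩
  · simpa using e 0 0
  · simpa using e 0 1
  · simpa using e 1 0
  · simpa using e 1 1
  · simpa using e 0 0

theorem one_shape {A : SL27} (h : A * A = 1) : A = 1 ∨ A = -1 := by
  have hd : A.1 0 0 * A.1 1 1 - A.1 0 1 * A.1 1 0 = 1 := (Matrix.det_fin_two A.1).symm.trans A.2
  have e : ∀ i j, A.1 i 0 * A.1 0 j + A.1 i 1 * A.1 1 j = (1 : SL27).1 i j := fun i j => by
    rw [← entries_mul, h]
  obtain ⟨hb, hc, hd', ha⟩ := trace_one _ _ _ _ hd (by simpa using e 0 0) (by simpa using e 0 1)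
    (by simpa using e 1 0) (by simpa using e 1 1)
  rcases ha with ha | ha
  · exact Or.inl (Subtype.ext (Matrix.ext fun i j => by
      fin_cases i <;> fin_cases j <;> simp [ha, hb, hc, hd']))
  · exact Or.inr (Subtype.ext (Matrix.ext fun i j => by
      fin_cases i <;> fin_cases j <;> simp [ha, hb, hc, hd']))

/-- A matrix squaring to `-1`. -/
def base : SL27 := ⟨!![0, 1; -1, 0], by decide +kernel⟩

theorem quarter_conj {A : SL27} (h : A * A = -1) : ∃ P : SL27, P * A * P⁻¹ = base := by
  obtain ⟨hd, he⟩ := quarter_shape h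
  obtain ⟨p, q, r, u, hdet, e1, e2, e3, e4⟩ := triple_conj _ _ _ he
  let P : SL27 := ⟨!![p, q; r, u], by rw [Matrix.det_fin_two]; simpa using hdet⟩
  refine ⟨P, mul_inv_eq_iff_eq_mul.2 (Subtype.ext (Matrix.ext fun i j => ?_))⟩
  rw [entries_mul, entries_mul]
  fin_cases i <;> fin_cases j <;> simp [P, base, hd] <;> first
    | linear_combination e1 | linear_combination e2 | linear_combination e3 | linear_combination e4

theorem involution_iff (x : L27) : x * x = 1 ∧ x ≠ 1 ↔ ∃ A : SL27, A * A = -1 ∧ proj A = x := by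
  constructor
  · rintro ⟨h1, h2⟩
    obtain ⟨A, rfl⟩ := QuotientGroup.mk'_surjective _ x
    have h3 : proj (A * A) = 1 := by rw [map_mul]; exact h1
    rcases (proj_eq_one _).1 h3 with h | h
    · exact absurd ((proj_eq_one A).2 (one_shape h)) h2
    · exact ⟨A, h, rfl⟩
  · rintro ⟨A, hA, rfl⟩
    refine ⟨by rw [← map_mul, hA]; exact (proj_eq_one _).2 (Or.inr rfl), fun h => ?_⟩
    have hne : (1 : SL27) ≠ -1 := by decide +kernel
    rcases (proj_eq_one A).1 h with rfl | rfl
    · exact hne (by rwa [one_mul] at hA)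
    · exact hne (by rwa [neg_mul_neg, one_mul] at hA)

/-- `PSL(2, 7)` has a single class of involutions. -/
theorem involution_isConj {x y : L27} (hx : x * x = 1) (hx1 : x ≠ 1) (hy : y * y = 1) (hy1 : y ≠ 1) :
    IsConj x y := by
  obtain ⟨A, hA, rfl⟩ := (involution_iff x).1 ⟨hx, hx1⟩
  obtain ⟨B, hB, rfl⟩ := (involution_iff y).1 ⟨hy, hy1⟩
  obtain ⟨P, hP⟩ := quarter_conj hA
  obtain ⟨Q, hQ⟩ := quarter_conj hB
  refine isConj_iff.2 ⟨proj (Q⁻¹ * P), ?_⟩
  rw [← map_inv, ← map_mul, ← map_mul]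
  congr 1
  rw [show Q⁻¹ * P * A * (Q⁻¹ * P)⁻¹ = Q⁻¹ * (P * A * P⁻¹) * Q by group, hP, ← hQ]
  group

/-- `PSL(2, 7)` has twenty-one involutions. -/
theorem card_involutions : Nat.card {x : L27 // x * x = 1 ∧ x ≠ 1} = 21 := by
  classical
  let e : Quarter ≃ {t : ZMod 7 × ZMod 7 × ZMod 7 // t.1 * t.1 + t.2.1 * t.2.2 = -1} :=
    { toFun := fun A => ⟨(A.1.1 0 0, A.1.1 0 1, A.1.1 1 0), (quarter_shape A.2).2⟩
      invFun := fun t => ⟨⟨!![t.1.1, t.1.2.1; t.1.2.2, -t.1.1], by
          rw [Matrix.det_fin_two]; simp; linear_combination -t.2⟩, by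
          refine Subtype.ext (Matrix.ext fun i j => ?_)
          refine (entries_mul _ _ i j).trans ?_
          have := t.2
          fin_cases i <;> fin_cases j <;> simp <;> first
            | linear_combination this
            | ring⟩
      left_inv := fun A => Subtype.ext (Subtype.ext (Matrix.ext fun i j => by
        have := (quarter_shape A.2).1
        fin_cases i <;> fin_cases j <;> simp [this]))
      right_inv := fun t => Subtype.ext (by simp) }
  have h42 : Nat.card Quarter = 42 := by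
    rw [Nat.card_congr e, Nat.card_eq_fintype_card, Fintype.card_subtype]
    exact triple_count
  haveI : Finite Quarter := Nat.finite_of_card_ne_zero (by omega)
  haveI : Fintype Quarter := Fintype.ofFinite _
  let f : Quarter → {x : L27 // x * x = 1 ∧ x ≠ 1} := fun A =>
    ⟨proj A.1, (involution_iff _).2 ⟨A.1, A.2, rfl⟩⟩
  haveI : Fintype {x : L27 // x * x = 1 ∧ x ≠ 1} := Fintype.ofFinite _
  have hfib : ∀ x, (Finset.univ.filter fun A : Quarter => f A = x).card = 2 := by
    rintro ⟨x, hx⟩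
    obtain ⟨A, hA, rfl⟩ := (involution_iff x).1 hx
    have hA' : (-A) * (-A) = -1 := by rw [neg_mul_neg]; exact hA
    have hne : (⟨A, hA⟩ : Quarter) ≠ ⟨-A, hA'⟩ := by
      intro h
      have h' : A = -A := congrArg Subtype.val h
      have : (1 : SL27) = -1 := by
        have := congrArg (fun B => B * A⁻¹) h'
        simpa using this
      exact absurd this (by decide +kernel)
    rw [show (Finset.univ.filter fun B : Quarter => f B = ⟨proj A, hx⟩) =
      {⟨A, hA⟩, ⟨-A, hA'⟩} from ?_, Finset.card_pair hne]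
    ext B
    simp only [Finset.mem_filter, Finset.mem_univ, true_and, Finset.mem_insert, Finset.mem_singleton,
      f, Subtype.mk.injEq]
    rw [proj_eq]
    constructor <;> rintro (h | h) <;> first
      | exact Or.inl (Subtype.ext h) | exact Or.inr (Subtype.ext h)
      | exact Or.inl (congrArg Subtype.val h) | exact Or.inr (congrArg Subtype.val h)
  have h := Finset.card_eq_sum_card_fiberwise (f := f) (s := Finset.univ) (t := Finset.univ)
    (fun _ _ => Finset.mem_univ _)
  rw [Finset.sum_congr rfl fun x _ => hfib x, Finset.sum_const, smul_eq_mul, Finset.card_univ,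
    Finset.card_univ, ← Nat.card_eq_fintype_card, h42, ← Nat.card_eq_fintype_card] at h
  omega

end Cfsg.Agent.M11Local
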