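import Cfsg.Agent.Lib.M11Local.Semidihedral
import Cfsg.Agent.Lib.M11Local.PSLSeven

/-!
# `C(s)/⟨s⟩ ≅ PSL(2, 7)` is impossible (S3717, case C; owner: helper31)
-/

set_option autoImplicit false

namespace Cfsg.Agent.M11Local

open Subgroup

theorem fourth_trace : ∀ a b c d : ZMod 7, a * d - b * c = 1 →
    (a * a + b * c) * (a * a + b * c) + 2 * ((a * b + b * d) * (c * a + d * c)) +
      (c * b + d * d) * (c * b + d * d) ≠ 0 := by decide +kernel

theorem L27_pow_four {x : L27} (h : x ^ 8 = 1) : x ^ 4 = 1 := by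
  obtain ⟨A, rfl⟩ : ∃ A, proj A = x := QuotientGroup.mk'_surjective _ x
  rw [← map_pow] at h ⊢
  rw [proj_eq_one] at h ⊢
  have e8 : A ^ 8 = A ^ 4 * A ^ 4 := pow_add A 4 4
  rcases h with h | h
  · exact one_shape (e8 ▸ h)
  · exfalso
    obtain ⟨hd, -⟩ := quarter_shape (A := A ^ 4) (e8 ▸ h)
    have e4 : A ^ 4 = A * A * (A * A) := by
      rw [show 4 = 1 + 1 + (1 + 1) from rfl]; simp only [pow_add, pow_one]
    rw [e4] at hd
    simp only [entries_mul] at hd
    refine fourth_trace (A.1 0 0) (A.1 0 1) (A.1 1 0) (A.1 1 1)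
      ((Matrix.det_fin_two A.1).symm.trans A.2) ?_
    linear_combination hd

variable {G : Type*} [Group G] [Finite G] {M : Subgroup G} {g g' a s : G}

/-- Case C: the centralizer of `s` modulo `⟨s⟩` is not `PSL(2, 7)`. -/
theorem Local.caseC [IsSimpleGroup G] (L : Local M g g' a s) (hna : ¬ IsMulCommutative G)
    (f : centralizer ({s} : Set G) →* L27) (hf : Function.Surjective f)
    (hker : ∀ x, f x = 1 ↔ (x : G) = 1 ∨ (x : G) = s) : False := by
  let H : Subgroup G := centralizer ({s} : Set G)
  let sH : H := ⟨s, mem_centralizer_singleton_iff.2 rfl⟩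
  let zH : H := ⟨a ^ 4, mem_centralizer_singleton_iff.2 L.s_z.symm⟩
  have hfs : f sH = 1 := (hker _).2 (Or.inr rfl)
  have hfz1 : f zH ≠ 1 := fun h => ((hker _).1 h).elim L.z_ne (fun e => L.sz_ne e.symm)
  have hfz2 : f zH * f zH = 1 := by
    rw [← map_mul, show zH * zH = 1 from Subtype.ext L.z_sq, map_one]
  have hsc : ∀ x : H, (x : G) * s = s * x := fun x => mem_centralizer_singleton_iff.1 x.2
  have hsx : ∀ x : H, cj (x : G) s = s := fun x => cj_eq_self.2 (hsc x)
  -- elements over an involution are conjugate to `z` or `zs`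
  have hlift : ∀ x : H, f x * f x = 1 → f x ≠ 1 →
      ∃ c : H, cj (c : G) x = a ^ 4 ∨ cj (c : G) x = a ^ 4 * s := by
    intro x hx hx1
    obtain ⟨d, hd⟩ := isConj_iff.1 (involution_isConj hx hx1 hfz2 hfz1)
    obtain ⟨c, rfl⟩ := hf d
    refine ⟨c, ?_⟩
    have h : f (zH⁻¹ * (c * x * c⁻¹)) = 1 := by
      rw [map_mul, map_mul f (c * x), map_mul, map_inv, map_inv, hd, inv_mul_cancel]
    rcases (hker _).1 h with h | h
    · exact Or.inl (inv_mul_eq_one.1 h).symm
    · exact Or.inr (inv_mul_eq_iff_eq_mul.1 h)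
  -- elements of order 8
  have hexp : ∀ y : H, y ^ 8 = 1 → y ^ 4 = 1 := by
    intro y hy
    have h4 : f y ^ 4 = 1 := L27_pow_four (by rw [← map_pow, hy, map_one])
    by_cases h2 : f y ^ 2 = 1
    · rcases (hker (y ^ 2)).1 (by rw [map_pow]; exact h2) with h | h
      · exact Subtype.ext (by
          rw [show 4 = 2 * 2 from rfl, pow_mul]; push_cast; push_cast at h; rw [h, one_pow])
      · exact Subtype.ext (by
          rw [show 4 = 2 * 2 from rfl, pow_mul]; push_cast; push_cast at h
          rw [h, pow_two, L.s_sq])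
    · obtain ⟨c, hc⟩ := hlift (y ^ 2) (by rw [map_pow, ← pow_add]; exact h4) (by rwa [map_pow])
      have hsq : cj (c : G) ((y ^ 2 : H) : G) * cj (c : G) ((y ^ 2 : H) : G) = 1 := by
        rcases hc with hc | hc <;> rw [hc]
        · exact L.z_sq
        · rw [mul_assoc, ← mul_assoc s, L.s_z, mul_assoc (a ^ 4) s s, L.s_sq, mul_one, L.z_sq]
      rw [← cj_mul] at hsq
      have h' := conj_eq_one_iff.1 hsq
      exact Subtype.ext (by rw [show 4 = 2 + 2 from rfl, pow_add]; exact h')
  -- `z` is not conjugate to `s`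
  have hz : ¬ IsConj s (a ^ 4) := by
    intro h
    obtain ⟨c, hc⟩ := isConj_iff.1 h
    have hcz : cj c⁻¹ (a ^ 4) = s := by rw [← hc]; exact cj_inv_cj c s
    have hmem : cj c⁻¹ a ∈ H :=
      mem_centralizer_singleton_iff.2 (by rw [← hcz]; exact cj_commute (Commute.self_pow a 4).eq)
    have h8 : (⟨cj c⁻¹ a, hmem⟩ : H) ^ 8 = 1 := Subtype.ext (by
      push_cast; rw [← cj_pow, L.a_pow]; simp [cj])
    have h4 := congrArg Subtype.val (hexp _ h8)
    push_cast at h4
    rw [← cj_pow, hcz] at h4
    exact L.s_ne h4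
  -- the conjugates of `s` in `H`
  have hzs : IsConj s (a ^ 4 * s) := L.a_s ▸ isConj_cj (a ^ 2) s
  have hcount : Nat.card (classIn s H) = 22 := by
    classical
    let φ : Option {x : L27 // x * x = 1 ∧ x ≠ 1} → classIn s H := fun o =>
      match o with
      | none => ⟨s, IsConj.refl s, sH.2⟩
      | some w =>
        let c := (hf (isConj_iff.1 (involution_isConj hfz2 hfz1 w.2.1 w.2.2)).choose).choose
        ⟨cj (c : G) (a ^ 4 * s), hzs.trans (isConj_cj _ _), (c * (zH * sH) * c⁻¹).2⟩
    have hφf : ∀ w h, f ⟨(φ (some w) : G), h⟩ = w.1 := by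
      intro w h
      set d := (isConj_iff.1 (involution_isConj hfz2 hfz1 w.2.1 w.2.2)).choose with hd
      have hd' := (isConj_iff.1 (involution_isConj hfz2 hfz1 w.2.1 w.2.2)).choose_spec
      show f ((hf d).choose * (zH * sH) * (hf d).choose⁻¹) = w.1
      rw [map_mul, map_mul, map_mul, map_inv, (hf d).choose_spec, hfs, mul_one]
      exact hd'
    have hbij : Function.Bijective φ := by
      refine ⟨?_, ?_⟩
      · rintro (_ | v) (_ | w) h
        · rfl
        · have h1 := hφf w (φ (some w)).2.2
          have e : (⟨(φ (some w) : G), (φ (some w)).2.2⟩ : H) = sH :=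
            Subtype.ext (congrArg (fun q : classIn s H => (q : G)) h :).symm
          rw [e, hfs] at h1
          exact absurd h1.symm w.2.2
        · have h1 := hφf v (φ (some v)).2.2
          have e : (⟨(φ (some v) : G), (φ (some v)).2.2⟩ : H) = sH :=
            Subtype.ext (congrArg (fun q : classIn s H => (q : G)) h :)
          rw [e, hfs] at h1
          exact absurd h1.symm v.2.2
        · have h1 := hφf v (φ (some v)).2.2
          have h2 := hφf w (φ (some w)).2.2
          have e : (⟨(φ (some v) : G), (φ (some v)).2.2⟩ : H) = ⟨(φ (some w) : G), (φ (some w)).2.2⟩ :=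
            Subtype.ext (congrArg (fun q : classIn s H => (q : G)) h :)
          rw [e, h2] at h1
          exact congrArg some (Subtype.ext h1.symm)
      · rintro ⟨x, hxs, hxH⟩
        have hxo : x * x = 1 := by
          obtain ⟨e, he⟩ := isConj_iff.1 hxs
          rw [← he, show e * s * e⁻¹ * (e * s * e⁻¹) = e * (s * s) * e⁻¹ by group, L.s_sq]; simp
        by_cases hx : f ⟨x, hxH⟩ = 1
        · refine ⟨none, Subtype.ext ?_⟩
          rcases (hker _).1 hx with h | h
          · exfalso
            obtain ⟨e, he⟩ := isConj_iff.1 hxs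
            exact L.s_ne (conj_eq_one_iff.1 (he.trans h))
          · exact h.symm
        · have hw : f ⟨x, hxH⟩ * f ⟨x, hxH⟩ = 1 := by
            rw [← map_mul, show (⟨x, hxH⟩ : H) * ⟨x, hxH⟩ = 1 from Subtype.ext hxo, map_one]
          let w : {x : L27 // x * x = 1 ∧ x ≠ 1} := ⟨f ⟨x, hxH⟩, hw, hx⟩
          refine ⟨some w, Subtype.ext ?_⟩
          set y : H := ⟨(φ (some w) : G), (φ (some w)).2.2⟩ with hy
          have hfy : f y = f ⟨x, hxH⟩ := hφf w _
          have h0 : f (⟨x, hxH⟩⁻¹ * y) = 1 := by rw [map_mul, map_inv, hfy, inv_mul_cancel]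
          rcases (hker _).1 h0 with h | h
          · exact (inv_mul_eq_one.1 h).symm
          · exfalso
            have h' : (y : G) = x * s := inv_mul_eq_iff_eq_mul.1 h
            have hxs' : IsConj s (x * s) := h' ▸ (φ (some w)).2.1
            obtain ⟨c, hc | hc⟩ := hlift ⟨x, hxH⟩ hw hx
            · exact hz (hxs.trans (hc ▸ isConj_cj (c : G) x))
            · refine hz (hxs'.trans ?_)
              have e : cj (c : G) (x * s) = a ^ 4 := by
                rw [cj_mul, hc, hsx c, mul_assoc, L.s_sq, mul_one]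
              exact e ▸ isConj_cj (c : G) (x * s)
    rw [← Nat.card_eq_of_bijective φ hbij, Finite.card_option, card_involutions]
  -- the orders
  have hH : Nat.card H = 336 := by
    have hk : Nat.card f.ker = 2 := by
      rw [Nat.card_eq_two_iff]
      refine ⟨1, ⟨sH, MonoidHom.mem_ker.2 hfs⟩, fun e => L.s_ne ?_, ?_⟩
      · exact (congrArg (fun x : f.ker => ((x : H) : G)) e).symm
      · ext x
        simp only [Set.mem_univ, iff_true, Set.mem_insert_iff, Set.mem_singleton_iff]
        rcases (hker _).1 (MonoidHom.mem_ker.1 x.2) with h | h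
        · exact Or.inl (Subtype.ext (Subtype.ext h))
        · exact Or.inr (Subtype.ext (Subtype.ext h))
    haveI : Fact (Nat.Prime 7) := ⟨by norm_num⟩
    have h168 : Nat.card L27 = 168 := by
      rw [GLOrder.card_PSL_two, Nat.card_eq_fintype_card, ZMod.card]; decide
    rw [← f.ker.card_mul_index, hk, index_ker, MonoidHom.range_eq_top.2 hf, card_top, h168]
  have h1 := card_fixed_mul s L.tGroup
  rw [L.card_tGroup, L.card_classIn_tGroup hz, show Nat.card (centralizer ({s} : Set G)) = 336 from hH] at h1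
  have h2 := card_fixed_mul s H
  rw [hcount, show Nat.card (centralizer ({s} : Set G)) = 336 from hH] at h2
  have h3 := fixed_parity_compare hna L.orderOf_s L.tGroup H (k := 21) (l := 1) (by decide)
    (by rw [L.card_tGroup, hH]) (by unfold Nat.ModEq; omega)
  unfold Nat.ModEq at h3
  omega

end Cfsg.Agent.M11Local
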