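import Cfsg.Agent.Lib.M11Local.Zero

/-!
# An involution with norm `s`: the element of order 3 (S3717; owner helper21)

* `Axis` : an involution `x` of `C(s) ∩ C(a ^ 4)` fixed by `a ^ 2` with `x x^g x^(g^2) = s`
* `Axis.exists_three` : an element of order 3 commuting with `x` and permuting `s, s z, x z`
* `Axis.mem_eSub` : an element of `C(s) ∩ C(z) ∩ C(x)` whose coset modulo `⟨s, z, x⟩` is fixed by it lies
  in `⟨s, z, x⟩`
-/

set_option autoImplicit false
set_option linter.unusedSectionVars false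

namespace Cfsg.Agent.M11Local

variable {G : Type*} [Group G] {M : Subgroup G} {g g' a s x : G}

/-- An involution with norm `s`. -/
structure Axis (g a s x : G) : Prop where
  sq : x * x = 1
  ne_one : x ≠ 1
  ne_s : x ≠ s
  ne_z : x ≠ a ^ 4
  ne_sz : x ≠ s * a ^ 4
  comm_s : x * s = s * x
  comm_z : x * a ^ 4 = a ^ 4 * x
  fixed : cj (a ^ 2) x = x
  norm : x * cj g x * cj (g ^ 2) x = s

/-- The elementary subgroup `⟨s, z, x⟩`. -/
def eSub (a s x : G) : Subgroup G := Subgroup.closure {s, a ^ 4, x}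

theorem mem_eSub_gens (a s x : G) : s ∈ eSub a s x ∧ a ^ 4 ∈ eSub a s x ∧ x ∈ eSub a s x :=
  ⟨Subgroup.subset_closure (by simp), Subgroup.subset_closure (by simp),
    Subgroup.subset_closure (by simp)⟩

theorem Axis.eSub_props (A : Axis g a s x) (L : Local M g g' a s) {q : G} (hq : q ∈ eSub a s x) :
    q * q = 1 ∧ q * s = s * q ∧ q * a ^ 4 = a ^ 4 * q ∧ q * x = x * q := by
  refine Subgroup.closure_induction (p := fun q _ => q * q = 1 ∧ q * s = s * q ∧
    q * a ^ 4 = a ^ 4 * q ∧ q * x = x * q) ?_ ?_ ?_ ?_ hq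
  · intro q hq
    rcases hq with h | h | h
    · subst h; exact ⟨L.s_sq, rfl, L.s_z, A.comm_s.symm⟩
    · subst h; exact ⟨L.z_sq, L.s_z.symm, rfl, A.comm_z.symm⟩
    · rw [Set.mem_singleton_iff] at h; subst h; exact ⟨A.sq, A.comm_s, A.comm_z, rfl⟩
  · simp
  · intro p q hp hq' ⟨h1, h2, h3, h4⟩ ⟨k1, k2, k3, k4⟩
    have hpq : p * q = q * p := by
      have hcen : ∀ r ∈ eSub a s x, r * p = p * r := fun r hr => by
        refine Subgroup.closure_induction (p := fun r _ => r * p = p * r) ?_ (by simp) ?_ ?_ hr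
        · intro r hr
          rcases hr with h | h | h
          · subst h; exact h2.symm
          · subst h; exact h3.symm
          · rw [Set.mem_singleton_iff] at h; subst h; exact h4.symm
        · exact fun r₁ r₂ _ _ e₁ e₂ => ((show Commute r₁ p from e₁).mul_left e₂).eq
        · exact fun r _ e => ((show Commute r p from e).inv_left).eq
      exact (hcen q hq').symm
    refine ⟨?_, ((show Commute p s from h2).mul_left k2).eq, ((show Commute p (a ^ 4) from h3).mul_left k3).eq,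
      ((show Commute p x from h4).mul_left k4).eq⟩
    calc p * q * (p * q) = p * (q * p) * q := by simp only [mul_assoc]
      _ = p * (p * q) * q := by rw [hpq]
      _ = p * p * (q * q) := by simp only [mul_assoc]
      _ = 1 := by rw [h1, k1, one_mul]
  · intro p _ ⟨h1, h2, h3, h4⟩
    refine ⟨by rw [← mul_inv_rev, h1, inv_one], ((show Commute p s from h2).inv_left).eq,
      ((show Commute p (a ^ 4) from h3).inv_left).eq, ((show Commute p x from h4).inv_left).eq⟩

/-- `x` has norm `z s` along the second axis. -/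
theorem Axis.norm' (A : Axis g a s x) (L : Local M g g' a s) :
    x * cj g' x * cj (g' ^ 2) x = a ^ 4 * s := by
  have h := congrArg (cj (a ^ 2)) A.norm
  have e : ∀ k : ℕ, cj (a ^ 2) (cj (g ^ k) x) = cj (g' ^ k) x := fun k => by
    have h1 : a ^ 2 * g ^ k = g' ^ k * a ^ 2 := by rw [← cj_eq_iff, cj_pow, L.a_g]
    rw [cj_cj, h1, ← cj_cj, A.fixed]
  have e1 := e 1
  rw [pow_one, pow_one] at e1
  rwa [cj_mul, cj_mul, A.fixed, e1, e 2, L.a_s] at h

theorem norm_solve {x P P2 e : G} (hx : x * x = 1) (hP : P * P = 1) (h : x * P * P2 = e) :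
    P2 = P * x * e := by
  rw [← h, ← mul_assoc, ← mul_assoc, mul_assoc P x x, hx, mul_one, hP, one_mul]

theorem norm_comm {x P P2 e : G} (hx : x * x = 1) (hP : P * P = 1) (hP2 : P2 * P2 = 1) (h : x * P * P2 = e)
    (he : e * e = 1) (heP : e * P = P * e) (hex : e * x = x * e) : x * P = P * x := by
  have h1 : x * P = e * P2 := by rw [← h, mul_assoc (x * P), hP2, mul_one]
  rw [h1, norm_solve hx hP h, ← mul_assoc, ← mul_assoc, heP, mul_assoc P e x, hex, ← mul_assoc,
    mul_assoc (P * x) e e, he, mul_one]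

theorem cj_pow_three (c q : G) : cj (c ^ 3) q = cj c (cj c (cj c q)) := by
  rw [cj_cj, cj_cj, pow_three']

theorem cj_of_eq {P z r : G} (hP : P * P = 1) (h : z * P = P * r) : cj P z = r := by
  show P * z * P⁻¹ = r
  rw [inv_of_sq hP, mul_assoc, h, ← mul_assoc, hP, one_mul]

/-- The actions of the two translates of `x` and of their product. -/
theorem Axis.actions (A : Axis g a s x) (L : Local M g g' a s) :
    cj (cj g x) x = x ∧ cj (cj g x) s = s ∧ cj (cj g x) (a ^ 4) = x * s * a ^ 4 ∧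
      cj (cj g' x) x = x ∧ cj (cj g' x) (s * a ^ 4) = s * a ^ 4 ∧ cj (cj g' x) (a ^ 4) = x * s ∧
      cj (cj g' x) s = x * a ^ 4 ∧
      cj (cj g x * cj g' x) s = s * a ^ 4 ∧ cj (cj g x * cj g' x) (s * a ^ 4) = x * a ^ 4 ∧
      cj (cj g x * cj g' x) (x * a ^ 4) = s ∧ cj (cj g x * cj g' x) x = x := by
  have hz := L.z_inv_self
  have hzs := L.s_z
  have hPP : cj g x * cj g x = 1 := by rw [← cj_mul, A.sq]; simp [cj]
  have hQQ : cj g' x * cj g' x = 1 := by rw [← cj_mul, A.sq]; simp [cj]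
  have hxz : cj (a ^ 4) x = x := cj_eq_self.2 A.comm_z.symm
  have hsx : cj s x = x := cj_eq_self.2 A.comm_s.symm
  have hsPs : s * cj g x = cj g x * s := by
    rw [← cj_eq_self, cj_cj, L.sg, ← cj_cj, hsx]
  have hszg : s * a ^ 4 * g' = g' * (s * a ^ 4) := by
    rw [← cj_eq_self, ← cj_cj, L.z_g', cj_inv, L.s_g', inv_inv]
  have hszQ : s * a ^ 4 * cj g' x = cj g' x * (s * a ^ 4) := by
    rw [← cj_eq_self, cj_cj, hszg, ← cj_cj, ← cj_cj (s) (a ^ 4), hxz, hsx]
  -- norms
  have hP2 : cj (g ^ 2) x = cj g x * x * s := norm_solve A.sq hPP A.norm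
  have hQ2 : cj (g' ^ 2) x = cj g' x * x * (a ^ 4 * s) := norm_solve A.sq hQQ (A.norm' L)
  have hzP : a ^ 4 * cj g x = cj g x * x * s * a ^ 4 := by
    rw [← cj_eq_iff, cj_cj, cj_eq_iff.1 L.z_g, ← cj_cj, hxz, ← hP2]
    congr 1
    rw [inv_eq_iff_mul_eq_one, ← pow_succ', L.g_cube]
  have hzQ : a ^ 4 * cj g' x = cj g' x * x * (a ^ 4 * s) * a ^ 4 := by
    rw [← cj_eq_iff, cj_cj, cj_eq_iff.1 L.z_g', ← cj_cj, hxz, ← hQ2]
    congr 1
    rw [inv_eq_iff_mul_eq_one, ← pow_succ', L.g'_cube]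
  -- `x` commutes with its two translates
  have hxP : x * cj g x = cj g x * x :=
    norm_comm A.sq hPP (by rw [← cj_mul, A.sq]; simp [cj]) A.norm L.s_sq hsPs A.comm_s.symm
  have hszx : s * a ^ 4 * x = x * (s * a ^ 4) := by
    rw [mul_assoc, ← A.comm_z, ← mul_assoc, ← A.comm_s, mul_assoc]
  have hsz2 : s * a ^ 4 * (s * a ^ 4) = 1 := by
    rw [mul_assoc, ← mul_assoc (a ^ 4) s, ← hzs, mul_assoc s (a ^ 4), L.z_sq, mul_one, L.s_sq]
  have hxQ : x * cj g' x = cj g' x * x :=
    norm_comm (P2 := cj (g' ^ 2) x) A.sq hQQ (by rw [← cj_mul, A.sq]; simp [cj]) (by rw [hzs]; exact A.norm' L) hsz2 hszQ hszx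
  have e1 : cj (cj g x) x = x := cj_eq_self.2 hxP.symm
  have e2 : cj (cj g x) s = s := cj_eq_self.2 hsPs.symm
  have e3 : cj (cj g x) (a ^ 4) = x * s * a ^ 4 :=
    cj_of_eq hPP (hzP.trans (by simp only [mul_assoc]))
  have e4 : cj (cj g' x) x = x := cj_eq_self.2 hxQ.symm
  have e5 : cj (cj g' x) (s * a ^ 4) = s * a ^ 4 := cj_eq_self.2 hszQ.symm
  have e6 : cj (cj g' x) (a ^ 4) = x * s := by
    refine cj_of_eq hQQ (hzQ.trans ?_)
    rw [← hzs]
    simp only [mul_assoc, L.z_sq, mul_one]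
  have e7 : cj (cj g' x) s = x * a ^ 4 := by
    have e : cj (cj g' x) (s * a ^ 4 * a ^ 4) = s * a ^ 4 * (x * s) := by rw [cj_mul, e5, e6]
    rw [mul_assoc s, L.z_sq, mul_one] at e
    rw [e, ← mul_assoc, hszx, mul_assoc x, mul_assoc s, ← hzs, ← mul_assoc s, L.s_sq, one_mul]
  have t1 : cj (cj g x * cj g' x) s = s * a ^ 4 := by
    rw [← cj_cj, e7, cj_mul, e1, e3, ← mul_assoc, ← mul_assoc, A.sq, one_mul]
  have t2 : cj (cj g x * cj g' x) (s * a ^ 4) = x * a ^ 4 := by
    rw [← cj_cj, e5, cj_mul, e2, e3, ← mul_assoc, ← mul_assoc, ← A.comm_s, mul_assoc x s s, L.s_sq,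
      mul_one]
  have t4 : cj (cj g x * cj g' x) x = x := by rw [← cj_cj, e4, e1]
  have t3 : cj (cj g x * cj g' x) (x * a ^ 4) = s := by
    rw [← cj_cj, cj_mul (cj g' x) x (a ^ 4), e4, e6, cj_mul (cj g x) x (x * s), cj_mul (cj g x) x s, e1, e2,
      ← mul_assoc, A.sq, one_mul]
  exact ⟨e1, e2, e3, e4, e5, e6, e7, t1, t2, t3, t4⟩

/-- The element of order three. -/
theorem Axis.exists_three [Finite G] (A : Axis g a s x) (L : Local M g g' a s) :
    ∃ (h : G) (k : ℕ), h = (cj g x * cj g' x) ^ k ∧ h ^ 3 = 1 ∧ h ≠ 1 ∧ h * x = x * h ∧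
      cj h s = s * a ^ 4 ∧ cj h (s * a ^ 4) = x * a ^ 4 ∧ cj h (x * a ^ 4) = s ∧
      cj h (a ^ 4) = x * s := by
  obtain ⟨-, -, -, -, -, -, -, t1, t2, t3, t4⟩ := A.actions L
  set c := cj g x * cj g' x with hc
  have hc3s : cj (c ^ 3) s = s := by
    rw [cj_pow_three, t1, t2, t3]
  have hc3sz : cj (c ^ 3) (s * a ^ 4) = s * a ^ 4 := by
    rw [cj_pow_three, t2, t3, t1]
  have hc3z : cj (c ^ 3) (a ^ 4) = a ^ 4 := by
    rw [cj_mul, hc3s] at hc3sz; exact mul_left_cancel hc3sz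
  have hne : s * a ^ 4 ≠ s := fun h => L.z_ne (by simpa using h)
  have hperiod : ∀ r : ℕ, cj (c ^ (3 * r)) s = s := by
    intro r
    induction r with
    | zero => simp [cj]
    | succ r ih => rw [mul_add, mul_one, pow_add, ← cj_cj, hc3s, ih]
  obtain ⟨n, hn⟩ : 3 ∣ orderOf c := by
    have h1 : cj (c ^ orderOf c) s = s := by rw [pow_orderOf_eq_one]; simp [cj]
    have e := Nat.div_add_mod (orderOf c) 3
    rw [← e, pow_add, ← cj_cj] at h1
    have h0 := hperiod (orderOf c / 3)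
    have hlt : orderOf c % 3 < 3 := Nat.mod_lt _ (by norm_num)
    by_contra h3
    have h2 : cj (c ^ (orderOf c % 3)) s = s :=
      (MulAut.conj (c ^ (3 * (orderOf c / 3)))).injective (h1.trans h0.symm)
    have hmod : orderOf c % 3 ≠ 0 := fun h => h3 (Nat.dvd_of_mod_eq_zero h)
    interval_cases hv : orderOf c % 3
    · omega
    · rw [pow_one, t1] at h2; exact hne h2
    · rw [pow_two, ← cj_cj, t1, t2] at h2
      exact A.ne_sz (by rw [← h2, mul_assoc, L.z_sq, mul_one])
  have hn3 : ¬ 3 ∣ n := by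
    rintro ⟨m, rfl⟩
    have hm0 : orderOf c ≠ 0 := (orderOf_pos c).ne'
    have h1 : (c ^ (3 * m)) ^ 3 = 1 := by
      rw [← pow_mul, show 3 * m * 3 = 3 * (3 * m) by ring, ← hn, pow_orderOf_eq_one]
    have hz : ∀ r : ℕ, cj (c ^ (3 * r)) (a ^ 4) = a ^ 4 := by
      intro r
      induction r with
      | zero => simp [cj]
      | succ r ih => rw [mul_add, mul_one, pow_add, ← cj_cj, hc3z, ih]
    have h2 := L.cV h1 (cj_eq_self.1 (hperiod m)) (cj_eq_self.1 (hz m))
    have h3 := orderOf_dvd_of_pow_eq_one h2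
    have h4 := Nat.le_of_dvd (by omega) h3
    omega
  set k := n * n with hk
  have hk1 : k % 3 = 1 := by
    have : n % 3 = 1 ∨ n % 3 = 2 := by omega
    rw [hk, Nat.mul_mod]
    rcases this with h | h <;> rw [h]
  have hkc : ∀ q : G, cj (c ^ 3) q = q → cj (c ^ k) q = cj c q := by
    intro q hq
    have hr : ∀ r : ℕ, cj (c ^ (3 * r)) q = q := by
      intro r
      induction r with
      | zero => simp [cj]
      | succ r ih => rw [mul_add, mul_one, pow_add, ← cj_cj, hq, ih]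
    rw [← Nat.div_add_mod k 3, hk1, Nat.add_comm, pow_add, pow_one, ← cj_cj, hr]
  have hh3 : (c ^ k) ^ 3 = 1 := by
    rw [← pow_mul, hk, show n * n * 3 = orderOf c * n by rw [hn]; ring, pow_mul, pow_orderOf_eq_one,
      one_pow]
  have hc3xz : cj (c ^ 3) (x * a ^ 4) = x * a ^ 4 := by
    rw [cj_pow_three, t3, t1, t2]
  refine ⟨c ^ k, k, rfl, hh3, fun h => ?_, ?_, ?_, ?_, ?_, ?_⟩
  · have := hkc s hc3s
    rw [h, t1] at this
    simp [cj] at this
    exact L.z_ne this
  · rw [← cj_eq_self, hkc x (by rw [cj_pow_three, t4, t4, t4]), t4]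
  · rw [hkc s hc3s, t1]
  · rw [hkc _ hc3sz, t2]
  · rw [hkc _ hc3xz, t3]
  · have e : cj (c ^ k) (s * (s * a ^ 4)) = s * a ^ 4 * (x * a ^ 4) := by
      rw [cj_mul, hkc s hc3s, hkc _ hc3sz, t1, t2]
    rw [← mul_assoc, L.s_sq, one_mul] at e
    rw [e, mul_assoc, ← mul_assoc (a ^ 4) x, ← A.comm_z, mul_assoc x, L.z_sq, mul_one, A.comm_s]

/-- A coset modulo `⟨s, z, x⟩` fixed by the element of order three is trivial. -/
theorem Axis.mem_eSub [Finite G] (A : Axis g a s x) (L : Local M g g' a s) {h w : G}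
    (h3 : h ^ 3 = 1) (hx : h * x = x * h) (hs : cj h s = s * a ^ 4)
    (hE : ∀ e ∈ eSub a s x, cj h e ∈ eSub a s x)
    (ws : w * s = s * w) (wz : w * a ^ 4 = a ^ 4 * w) (wx : w * x = x * w)
    (hw : w⁻¹ * cj h w ∈ eSub a s x) : w ∈ eSub a s x := by
  classical
  let E := eSub a s x
  have h33 : ∀ q : G, cj h (cj h (cj h q)) = q := fun q => by
    rw [cj_cj, cj_cj, ← pow_three', h3]; simp [cj]
  let f : E → E := fun e => ⟨w⁻¹ * cj h (w * e), by
    rw [cj_mul, ← mul_assoc]; exact E.mul_mem hw (hE _ e.2)⟩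
  have hf : ∀ e, f (f (f e)) = e := fun e => by
    apply Subtype.ext
    show w⁻¹ * cj h (w * (w⁻¹ * cj h (w * (w⁻¹ * cj h (w * (e : G)))))) = e
    simp only [mul_inv_cancel_left, h33, inv_mul_cancel_left]
  let σ : Equiv.Perm E := ⟨f, fun e => f (f e), hf, hf⟩
  haveI := Fintype.ofFinite E
  have hσ : σ ^ 3 ^ 1 = 1 := by
    ext e
    rw [pow_one, pow_three]
    exact congrArg Subtype.val (hf e)
  have hcard : ¬ 3 ∣ Fintype.card E := by
    rw [← Nat.card_eq_fintype_card]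
    have hp : IsPGroup 2 E := fun e => ⟨1, Subtype.ext (by
      rw [pow_one, pow_two]; exact (A.eSub_props L e.2).1)⟩
    obtain ⟨n, hn⟩ := IsPGroup.iff_card.1 hp
    rw [hn]
    intro h
    have := Nat.prime_three.dvd_of_dvd_pow h
    norm_num at this
  haveI := Fact.mk Nat.prime_three
  obtain ⟨e, he⟩ := Equiv.Perm.exists_fixed_point_of_prime hcard hσ
  have he' : cj h (w * e) = w * e := by
    have := congrArg (fun q : E => w * (q : G)) he
    simpa [σ, f] using this
  obtain ⟨-, es, ez, ex⟩ := A.eSub_props L e.2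
  have hh1 : h ≠ 1 := fun e => by
    rw [e] at hs
    simp [cj] at hs
    exact L.z_ne hs
  obtain ⟨i, hi⟩ := L.cent3 h3 hh1 A.sq A.ne_one hx.symm (cj_eq_self.1 he').symm
    ((show Commute w x from wx).mul_left ex).eq
  have hq : w * (e : G) = 1 ∨ w * (e : G) = x := by
    have hcs : Commute (w * (e : G)) s := (show Commute w s from ws).mul_left es
    have hi' : Commute (h ^ i) s := by
      rcases hi with hi | hi
      · rwa [hi] at hcs
      · rw [hi] at hcs
        have hxs : Commute x s := A.comm_s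
        have := hcs.mul_left hxs
        rwa [mul_assoc, A.sq, mul_one] at this
    rcases pow_three_cases h3 i with e0 | e0 | e0 <;> rw [e0] at hi hi'
    · rw [one_mul] at hi; exact hi
    · exfalso
      rw [cj_eq_self.2 hi'.eq] at hs
      exact L.z_ne (by simpa using hs.symm)
    · exfalso
      rw [Commute.inv_left_iff] at hi'
      rw [cj_eq_self.2 hi'.eq] at hs
      exact L.z_ne (by simpa using hs.symm)
  have : w = w * (e : G) * (e : G)⁻¹ := by rw [mul_inv_cancel_right]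
  rw [this]
  refine E.mul_mem ?_ (E.inv_mem e.2)
  rcases hq with h | h <;> rw [h]
  · exact E.one_mem
  · exact (mem_eSub_gens a s x).2.2

end Cfsg.Agent.M11Local
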