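import Cfsg.Agent.Lib.M11Local.Basic

/-!
# The local setting from the hypotheses of the recognition theorem (S3717; owner: helper31)

* `exists_local` : a semidihedral group `⟨a, b⟩` of order 16 in `N(M)` acts faithfully on `M`, so `a` is
  transitive on `M \ {1}`, and `b` fixes a point `g`
-/

set_option autoImplicit false

namespace Cfsg.Agent.M11Local

open Subgroup

variable {G : Type*} [Group G]

theorem cj_zero_pow {c m : G} (h : cj c m = m) (n : ℕ) : cj (c ^ n) m = m := by
  induction n with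
  | zero => simp [cj]
  | succ n ih => rw [pow_succ, ← cj_cj, h, ih]

/-- A power of an element of order 8 not fixing anything: `8` divides the exponent. -/
theorem eight_dvd_of_fix {a m : G} (ha : orderOf a = 8) (hfree : ¬ cj (a ^ 4) m = m) {k : ℕ}
    (hk : cj (a ^ k) m = m) : k % 8 = 0 := by
  by_contra hne
  refine hfree ?_
  have h : ∃ j : ℕ, k * j % 8 = 4 := by
    have hlt : k % 8 < 8 := Nat.mod_lt _ (by norm_num)
    refine ⟨if k % 2 = 1 then 4 else if k % 4 = 2 then 2 else 1, ?_⟩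
    split_ifs <;> omega
  obtain ⟨j, hj⟩ := h
  have h' := cj_zero_pow hk j
  rwa [← pow_mul, show a ^ (k * j) = a ^ 4 by rw [pow_inj_mod, ha, hj]] at h'

theorem exists_local [Finite G] (M : Sylow 3 G) (hM9 : Nat.card (M : Subgroup G) = 9)
    (hMel : ∀ m ∈ (M : Subgroup G), m ^ 3 = 1)
    (hCM : centralizer ((M : Subgroup G) : Set G) = (M : Subgroup G))
    (hCg : ∀ g ∈ (M : Subgroup G), g ≠ 1 →
      centralizer ({g} : Set G) ≤ normalizer ((M : Subgroup G) : Set G))
    {a b : G} (haN : a ∈ normalizer ((M : Subgroup G) : Set G))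
    (hbN : b ∈ normalizer ((M : Subgroup G) : Set G)) (ha : orderOf a = 8) (hb : orderOf b = 2)
    (hab : b * a * b⁻¹ = a ^ 3) :
    ∃ g g' : G, Local (M : Subgroup G) g g' a b := by
  classical
  set Mg : Subgroup G := (M : Subgroup G) with hMg
  have hp : Fact (Nat.Prime 3) := ⟨Nat.prime_three⟩
  have hcard2 : Nat.card Mg = 3 ^ 2 := by rw [hM9]; norm_num
  haveI hcomm' := IsPGroup.isMulCommutative_of_card_eq_prime_sq hcard2
  have hcomm : ∀ x ∈ Mg, ∀ y ∈ Mg, x * y = y * x := fun x hx y hy =>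
    congrArg Subtype.val (mul_comm' (⟨x, hx⟩ : Mg) ⟨y, hy⟩)
  have hself : ∀ x : G, (∀ m ∈ Mg, x * m = m * x) → x ∈ Mg := fun x hx =>
    (SetLike.le_def.1 hCM.le) (mem_centralizer_iff.2 fun m hm => (hx m hm).symm)
  have hconj : ∀ c ∈ normalizer (Mg : Set G), ∀ m ∈ Mg, cj c m ∈ Mg := fun c hc m hm =>
    (Subgroup.mem_normalizer_iff.1 hc m).1 hm
  have ha8 : a ^ 8 = 1 := ha ▸ pow_orderOf_eq_one a
  have hbb : b * b = 1 := sq_of_orderOf hb
  -- an element of 2-power order centralizing `M` is trivial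
  have htwo : ∀ x : G, (∀ m ∈ Mg, cj x m = m) → x ^ 8 = 1 → x = 1 := by
    intro x hx h8
    have h3 := hMel x (hself x fun m hm => cj_eq_self.1 (hx m hm))
    have : x ^ Nat.gcd 3 8 = 1 := pow_gcd_eq_one.2 ⟨h3, h8⟩
    simpa using this
  -- `a ^ 4` inverts `M`
  have hzN : a ^ 4 ∈ normalizer (Mg : Set G) := pow_mem haN 4
  have hfree : ∀ m ∈ Mg, m ≠ 1 → ¬ cj (a ^ 4) m = m := by
    intro m hm hm1 hfix
    let F : Subgroup G := Mg ⊓ centralizer ({a ^ 4} : Set G)
    have hmF : m ∈ F := ⟨hm, mem_centralizer_singleton_iff.2 (cj_eq_self.1 hfix).symm⟩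
    have hFne : F ≠ Mg := by
      intro e
      have h4 : a ^ 4 = 1 := htwo _ (fun n hn => cj_eq_self.2
        (mem_centralizer_singleton_iff.1 (by rw [← e] at hn; exact hn.2)).symm)
        (by rw [← pow_mul, show 4 * 8 = 8 * 4 from rfl, pow_mul, ha8, one_pow])
      have := orderOf_dvd_of_pow_eq_one h4
      rw [ha] at this
      norm_num at this
    have hF3 : Nat.card F = 3 := by
      have hd : Nat.card F ∣ 3 ^ 2 := hcard2 ▸ card_dvd_of_le inf_le_left
      obtain ⟨i, hi, hFi⟩ := (Nat.dvd_prime_pow Nat.prime_three).1 hd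
      interval_cases i
      · exfalso
        have := (Nat.card_eq_one_iff_unique.1 (by simpa using hFi : Nat.card F = 1)).1
        exact hm1 (congrArg Subtype.val (Subsingleton.elim (⟨m, hmF⟩ : F) 1))
      · simpa using hFi
      · exact absurd (eq_of_le_of_card_ge inf_le_left (by rw [hFi, hcard2])) hFne
    -- the elements inverted by `a ^ 4`
    let I : Subgroup G :=
      { carrier := {n | n ∈ Mg ∧ cj (a ^ 4) n = n⁻¹}
        one_mem' := ⟨one_mem _, by simp [cj]⟩
        mul_mem' := fun {p q} hp hq => ⟨mul_mem hp.1 hq.1, by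
          rw [cj_mul, hp.2, hq.2, mul_inv_rev]
          exact hcomm _ (inv_mem hp.1) _ (inv_mem hq.1)⟩
        inv_mem' := fun {p} hp => ⟨inv_mem hp.1, by rw [cj_inv, hp.2]⟩ }
    obtain ⟨n, hn, hn'⟩ : ∃ n ∈ Mg, cj (a ^ 4) n ≠ n := by
      by_contra hno
      push Not at hno
      exact hFne (le_antisymm inf_le_left fun n hn =>
        ⟨hn, mem_centralizer_singleton_iff.2 (cj_eq_self.1 (hno n hn)).symm⟩)
    set d := n⁻¹ * cj (a ^ 4) n with hd
    have hdI : d ∈ I := ⟨mul_mem (inv_mem hn) (hconj _ hzN n hn), by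
      rw [hd, cj_mul (a ^ 4) n⁻¹ (cj (a ^ 4) n), cj_inv (a ^ 4) n, cj_cj (a ^ 4) (a ^ 4) n, ← pow_add,
        ha8, cj_one]
      group⟩
    have hd1 : d ≠ 1 := fun e => hn' (inv_mul_eq_one.1 e).symm
    have hI3 : Nat.card I = 3 := by
      have hd' : Nat.card I ∣ 3 ^ 2 := hcard2 ▸ card_dvd_of_le (fun q hq => hq.1)
      obtain ⟨i, hi, hIi⟩ := (Nat.dvd_prime_pow Nat.prime_three).1 hd'
      interval_cases i
      · exfalso
        have := (Nat.card_eq_one_iff_unique.1 (by simpa using hIi : Nat.card I = 1)).1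
        exact hd1 (congrArg Subtype.val (Subsingleton.elim (⟨d, hdI⟩ : I) 1))
      · simpa using hIi
      · exfalso
        have e : I = Mg := eq_of_le_of_card_ge (fun q hq => hq.1) (by rw [hIi, hcard2])
        have hmI : m ∈ I := e ▸ hm
        exact hm1 (eq_one_of_cube_sq (hMel m hm) (by
          have h2 : m⁻¹ = m := hmI.2.symm.trans hfix
          nth_rewrite 1 [← h2]
          exact inv_mul_cancel m))
    -- `a` preserves both, so `a ^ 2` centralizes both
    have key : ∀ (K : Subgroup G), Nat.card K = 3 → (∀ q ∈ K, cj a q ∈ K) →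
        ∀ q ∈ K, cj (a ^ 2) q = q := by
      intro K hK hKa q hq
      by_cases hq1 : q = 1
      · simp [hq1, cj]
      have hz : zpowers q = K := eq_of_le_of_card_ge ((zpowers_le).2 hq) (by
        rw [Nat.card_zpowers, hK]
        have hdv := Subgroup.orderOf_dvd_natCard K hq
        rw [hK] at hdv
        rcases (Nat.dvd_prime Nat.prime_three).1 hdv with h | h
        · exact absurd (orderOf_eq_one_iff.1 h) hq1
        · omega)
      obtain ⟨i, hi⟩ : cj a q ∈ zpowers q := hz ▸ hKa q hq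
      have hq3 : q ^ 3 = 1 := by
        have hdv := Subgroup.orderOf_dvd_natCard K hq
        rw [hK] at hdv
        exact orderOf_dvd_iff_pow_eq_one.1 hdv
      obtain ⟨j, hj⟩ : ∃ j : ℕ, q ^ i = q ^ j := ⟨(i % 3).toNat, by
        rw [← zpow_natCast, Int.toNat_of_nonneg (Int.emod_nonneg _ (by norm_num))]
        conv_lhs => rw [← Int.emod_add_mul_ediv i 3]
        rw [zpow_add, zpow_mul, show q ^ (3 : ℤ) = 1 from by exact_mod_cast hq3, one_zpow, mul_one]⟩
      have hi' : cj a q = q ^ j := hi.symm.trans hj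
      rw [pow_two, ← cj_cj, hi', cj_pow, hi']
      rcases pow_three_cases hq3 j with e | e | e <;> rw [e] at hi' ⊢
      · exact absurd (conj_eq_one_iff.1 hi') hq1
      · exact e
      · rw [inv_pow, e, inv_inv]
    have haF : ∀ q ∈ F, cj a q ∈ F := fun q hq =>
      ⟨hconj a haN q hq.1, mem_centralizer_singleton_iff.2 (by
        have := cj_commute (c := a) (mem_centralizer_singleton_iff.1 hq.2)
        rwa [show cj a (a ^ 4) = a ^ 4 from cj_eq_self.2 (Commute.self_pow a 4).eq] at this)⟩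
    have haI : ∀ q ∈ I, cj a q ∈ I := fun q hq =>
      ⟨hconj a haN q hq.1, by
        rw [cj_cj, (Commute.pow_self a 4).eq, ← cj_cj, hq.2, cj_inv]⟩
    have h2 : a ^ 2 = 1 := by
      refine htwo _ (fun q hq => ?_) (by rw [← pow_mul, show 2 * 8 = 8 * 2 from rfl, pow_mul, ha8, one_pow])
      -- `q ^ 2 = (q * q^z) * (q * (q^z)⁻¹)`
      have h1 : q * cj (a ^ 4) q ∈ F := ⟨mul_mem hq (hconj _ hzN q hq),
        mem_centralizer_singleton_iff.2 (cj_eq_self.1 (by
          rw [cj_mul, cj_cj, ← pow_add, ha8, cj_one]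
          exact hcomm _ (hconj _ hzN q hq) _ hq)).symm⟩
      have h2 : q * (cj (a ^ 4) q)⁻¹ ∈ I := ⟨mul_mem hq (inv_mem (hconj _ hzN q hq)), by
        rw [cj_mul, cj_inv, cj_cj, ← pow_add, ha8, cj_one, mul_inv_rev, inv_inv]⟩
      have e : q * cj (a ^ 4) q * (q * (cj (a ^ 4) q)⁻¹) = q * q := by
        rw [mul_assoc, ← mul_assoc (cj (a ^ 4) q), hcomm _ (hconj _ hzN q hq) _ hq, mul_assoc,
          mul_inv_cancel, mul_one]
      have hqq : cj (a ^ 2) (q * q) = q * q := by
        rw [← e, cj_mul, key F hF3 haF _ h1, key I hI3 haI _ h2]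
      have hq4 : q = q * q * (q * q) := by
        have h3 := hMel q hq
        rw [pow_three] at h3
        rw [mul_assoc, h3, mul_one]
      nth_rewrite 1 [hq4]
      rw [cj_mul, hqq, ← hq4]
    have := orderOf_dvd_of_pow_eq_one h2
    rw [ha] at this
    norm_num at this
  have hinv : ∀ m ∈ Mg, cj (a ^ 4) m = m⁻¹ := by
    intro m hm
    by_contra hne
    have h1 : m * cj (a ^ 4) m ≠ 1 := fun e => hne (eq_inv_of_mul_eq_one_right e)
    refine hfree _ (mul_mem hm (hconj _ hzN m hm)) h1 ?_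
    rw [cj_mul, cj_cj, ← pow_add, ha8, cj_one]
    exact hcomm _ (hconj _ hzN m hm) _ hm
  -- `b` fixes a point
  obtain ⟨g, hg, hg1, hbg⟩ : ∃ g ∈ Mg, g ≠ 1 ∧ cj b g = g := by
    by_contra hno
    push Not at hno
    have hbinv : ∀ m ∈ Mg, cj b m = m⁻¹ := by
      intro m hm
      by_contra hne
      refine hno _ (mul_mem hm (hconj b hbN m hm)) (fun e => hne (eq_inv_of_mul_eq_one_right e)) ?_
      rw [cj_mul, cj_cj, hbb, cj_one]
      exact hcomm _ (hconj b hbN m hm) _ hm
    have hbz : b * a ^ 4 = a ^ 4 * b := by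
      rw [← cj_eq_self, cj_pow, show cj b a = a ^ 3 from hab, ← pow_mul, show 3 * 4 = 8 + 4 from rfl,
        pow_add, ha8, one_mul]
    have h1 : b * a ^ 4 = 1 := by
      refine htwo _ (fun m hm => by rw [← cj_cj, hinv m hm, cj_inv, hbinv m hm, inv_inv]) ?_
      rw [Commute.mul_pow hbz, ← pow_mul, show 4 * 8 = 8 * 4 from rfl, pow_mul, ha8, one_pow, mul_one,
        show 8 = 2 * 4 from rfl, pow_mul, pow_two, hbb, one_pow]
    have hb' : b = a ^ 4 := by
      exact (eq_inv_of_mul_eq_one_left h1).trans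
        (inv_eq_of_mul_eq_one_right (by rw [← pow_add]; exact ha8))
    rw [hb', show a ^ 4 * a * (a ^ 4)⁻¹ = a by group] at hab
    have : a ^ 2 = 1 := by
      have h2 : a * a ^ 2 = a * 1 := by rw [← pow_succ', ← hab, mul_one]
      exact mul_left_cancel h2
    have := orderOf_dvd_of_pow_eq_one this
    rw [ha] at this
    norm_num at this
  set g' := cj (a ^ 2) g with hg'
  have hg'M : g' ∈ Mg := hconj _ (pow_mem haN 2) g hg
  have hg'1 : g' ≠ 1 := fun e => hg1 (conj_eq_one_iff.1 e)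
  have hbg' : cj b g' = g'⁻¹ := by
    have h1 : b * a ^ 2 = a ^ 2 * a ^ 4 * b := by
      rw [← pow_add, ← cj_eq_iff, cj_pow, show cj b a = a ^ 3 from hab, ← pow_mul]
    rw [hg', cj_cj, h1, ← cj_cj, hbg, ← cj_cj, hinv g hg, cj_inv]
  -- `a` is transitive
  have horb : ∀ m ∈ Mg, m ≠ 1 → ∃ i : ℕ, cj (a ^ i) g = m := by
    intro m hm hm1
    let o : Fin 8 → Mg := fun i => ⟨cj (a ^ (i : ℕ)) g, hconj _ (pow_mem haN _) g hg⟩
    have ho : Function.Injective o := by
      intro i j e
      have e' : cj (a ^ (i : ℕ)) g = cj (a ^ (j : ℕ)) g := congrArg Subtype.val e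
      have h := congrArg (cj (a ^ (8 - (j : ℕ)))) e'
      rw [cj_cj, cj_cj, ← pow_add, ← pow_add, show 8 - (j : ℕ) + j = 8 by omega, ha8, cj_one] at h
      have := eight_dvd_of_fix ha (hfree g hg hg1) h
      exact Fin.ext (by omega)
    haveI : Fintype Mg := Fintype.ofFinite _
    have hr : Finset.univ.image o = Finset.univ.erase (1 : Mg) := by
      refine Finset.eq_of_subset_of_card_le (fun q hq => ?_) ?_
      · obtain ⟨i, -, rfl⟩ := Finset.mem_image.1 hq
        refine Finset.mem_erase.2 ⟨fun e => hg1 ?_, Finset.mem_univ _⟩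
        exact conj_eq_one_iff.1 (congrArg Subtype.val e : cj (a ^ (i : ℕ)) g = 1)
      · rw [Finset.card_image_of_injective _ ho, Finset.card_erase_of_mem (Finset.mem_univ _),
          Finset.card_univ, Finset.card_univ, ← Nat.card_eq_fintype_card, hM9, Fintype.card_fin]
    have : (⟨m, hm⟩ : Mg) ∈ Finset.univ.image o := by
      rw [hr]
      exact Finset.mem_erase.2 ⟨fun e => hm1 (congrArg Subtype.val e), Finset.mem_univ _⟩
    obtain ⟨i, -, hi⟩ := Finset.mem_image.1 this
    exact ⟨i, congrArg Subtype.val hi⟩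
  -- `g, g'` form a basis
  have hspan : ∀ m ∈ Mg, ∃ i j : ℕ, m = g ^ i * g' ^ j := by
    intro m hm
    let φ : Fin 3 × Fin 3 → Mg := fun ij =>
      ⟨g ^ (ij.1 : ℕ) * g' ^ (ij.2 : ℕ), mul_mem (pow_mem hg _) (pow_mem hg'M _)⟩
    have ho : ∀ x : G, x ^ 3 = 1 → x ≠ 1 → orderOf x = 3 := fun x h h1 => orderOf_eq_prime h h1
    have hφ : Function.Injective φ := by
      rintro ⟨i, j⟩ ⟨k, l⟩ e
      have e' : g ^ (i : ℕ) * g' ^ (j : ℕ) = g ^ (k : ℕ) * g' ^ (l : ℕ) := congrArg Subtype.val e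
      have hb' : ∀ p q : ℕ, cj b (g ^ p * g' ^ q) = g ^ p * (g' ^ q)⁻¹ := fun p q => by
        rw [cj_mul, cj_pow, cj_pow, hbg, hbg', inv_pow]
      have e2 := congrArg (cj b) e'
      rw [hb', hb'] at e2
      have e3 : g ^ (2 * (i : ℕ)) = g ^ (2 * (k : ℕ)) := by
        have h1 : ∀ p q : ℕ, g ^ (2 * p) = g ^ p * g' ^ q * (g ^ p * (g' ^ q)⁻¹) := fun p q => by
          rw [mul_assoc, ← mul_assoc (g' ^ q),
            hcomm _ (pow_mem hg'M q) _ (pow_mem hg p), mul_assoc, mul_inv_cancel, mul_one, ← pow_add,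
            two_mul]
        rw [h1 i j, h1 k l, e', e2]
      rw [pow_inj_mod, ho g (hMel g hg) hg1] at e3
      obtain rfl : i = k := Fin.ext (by omega)
      have e4 := mul_left_cancel e'
      rw [pow_inj_mod, ho g' (hMel g' hg'M) hg'1] at e4
      obtain rfl : j = l := Fin.ext (by omega)
      rfl
    have hbij := (Nat.bijective_iff_injective_and_card φ).2 ⟨hφ, by rw [hM9]; simp⟩
    obtain ⟨⟨i, j⟩, hij⟩ := hbij.2 ⟨m, hm⟩
    exact ⟨i, j, (congrArg Subtype.val hij).symm⟩
  -- the centralizer of `g`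
  have hcube : ∀ y : G, y ∈ normalizer (Mg : Set G) → y * g = g * y → y ^ 3 ∈ Mg → y ∈ Mg := by
    intro y hy _ hy3
    have h9 : y ^ 9 = 1 := by rw [show 9 = 3 * 3 from rfl, pow_mul, hMel _ hy3]
    have hP : IsPGroup 3 (zpowers y) := by
      obtain ⟨k, -, hk⟩ := (Nat.dvd_prime_pow Nat.prime_three).1
        (orderOf_dvd_of_pow_eq_one (show y ^ 3 ^ 2 = 1 from h9))
      exact IsPGroup.of_card (n := k) (by rw [Nat.card_zpowers, hk])
    have h2 : IsPGroup 3 (zpowers y ⊔ Mg : Subgroup G) :=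
      hP.to_sup_of_normal_right' M.isPGroup' ((zpowers_le).2 hy)
    have heq := M.is_maximal' h2 le_sup_right
    have hy' : y ∈ zpowers y ⊔ Mg := le_sup_left (a := zpowers y) (mem_zpowers y)
    rw [heq] at hy'
    exact hy'
  have hcent : ∀ x : G, x * g = g * x → ∃ m ∈ Mg, x = m ∨ x = m * b := by
    intro x hx
    have hxN : x ∈ normalizer (Mg : Set G) := hCg g hg hg1 (mem_centralizer_singleton_iff.2 hx)
    obtain ⟨i, j, hij⟩ := hspan _ (hconj x hxN g' hg'M)
    have hgfix : cj x g = g := cj_eq_self.2 hx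
    have key : ∀ y : G, y ∈ normalizer (Mg : Set G) → y * g = g * y → ∀ i : ℕ,
        cj y g' = g ^ i * g' → y ∈ Mg := by
      intro y hy hyg i hi
      refine hcube y hy hyg (hself _ fun m hm => ?_)
      have hyg' : cj y g = g := cj_eq_self.2 hyg
      have hg3 : cj (y ^ 3) g' = g' := by
        have h1 : ∀ k : ℕ, cj y (g ^ k * g') = g ^ (k + i) * g' := fun k => by
          rw [cj_mul y (g ^ k) g', cj_pow y g k, hyg', hi, ← mul_assoc, ← pow_add]
        rw [pow_three, ← cj_cj y (y * y) g', ← cj_cj y y g', hi, h1, h1,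
          show i + i + i = 3 * i by ring, pow_mul, hMel g hg, one_pow, one_mul]
      obtain ⟨p, q, rfl⟩ := hspan m hm
      exact cj_eq_self.1 (by rw [cj_mul, cj_pow, cj_pow, cj_zero_pow hyg' 3, hg3])
    rcases pow_three_cases (hMel g' hg'M) j with e | e | e <;> rw [e] at hij
    · exfalso
      rw [mul_one] at hij
      have h2 : cj x g' = cj x (g ^ i) := by rw [hij, cj_pow, hgfix]
      have h3 : g' = g ^ i := (MulAut.conj x).injective h2
      have h4 := congrArg (cj b) h3
      rw [hbg', cj_pow, hbg, ← h3] at h4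
      exact hg'1 (eq_one_of_cube_sq (hMel g' hg'M) (by nth_rewrite 1 [← h4]; exact inv_mul_cancel g'))
    · exact ⟨x, key x hxN hx i hij, Or.inl rfl⟩
    · have hy : b * x ∈ Mg := by
        refine key (b * x) (mul_mem hbN hxN) ?_ i ?_
        · exact cj_eq_self.1 (by rw [← cj_cj, hgfix, hbg])
        · rw [← cj_cj, hij, cj_mul, cj_pow, hbg, cj_inv, hbg', inv_inv]
      refine ⟨cj b (b * x), hconj b hbN _ hy, Or.inr ?_⟩
      rw [show cj b (b * x) * b = b * b * x by simp [cj, mul_assoc], hbb, one_mul]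
  refine ⟨g, g', ?_⟩
  exact
    { card := hM9
      comm := hcomm
      cube := hMel
      self := hself
      sylow := fun x hx => by
        have hP : IsPGroup 3 (zpowers x) := by
          obtain ⟨k, -, hk⟩ := (Nat.dvd_prime_pow Nat.prime_three).1
            (orderOf_dvd_of_pow_eq_one (show x ^ 3 ^ 1 = 1 by rw [pow_one, hx]))
          exact IsPGroup.of_card (n := k) (by rw [Nat.card_zpowers, hk])
        obtain ⟨Q, hQ⟩ := hP.exists_le_sylow
        obtain ⟨c, hc⟩ := MulAction.exists_smul_eq G Q M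
        refine ⟨c, ?_⟩
        rw [hMg, ← hc]
        exact Subgroup.smul_mem_pointwise_smul x (MulAut.conj c) _ (hQ (mem_zpowers x))
      g_mem := hg
      g_ne := hg1
      g'_mem := hg'M
      g'_ne := hg'1
      span := hspan
      trans := fun m hm hm1 => (horb m hm hm1).elim fun i hi => ⟨a ^ i, hi⟩
      orderOf_a := ha
      orderOf_s := hb
      s_a := hab
      s_g := hbg
      s_g' := hbg'
      a_g := rfl
      a_M := hconj a haN
      z_inv := hinv
      cent := hcent }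

end Cfsg.Agent.M11Local
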