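import Cfsg.Agent.Lib.M11Local.Key
import Cfsg.Agent.Lib.CN.Basic

/-!
# `C(s)/⟨s⟩` nilpotent-by-`S₃`: general facts (S3717; owner helper21)

`TypeA L` : a surjection of `C(s)` onto `S₃` with nilpotent kernel `wSub` of order prime to 3.

* `TypeA.uSub`, `TypeA.good` : the Sylow 2-subgroup `U` of the kernel
* `TypeA.cV_cases` : `C(s) ∩ C(z) = C_W(z) ∪ C_W(z) z`
* `TypeA.odd_eq_one` : no odd element centralizes `⟨s, a ^ 2⟩`
* `TypeA.mem_centZ` : `C_U(z) ⊆ ⟨s⟩ (U ∩ U^(a ^ 2))`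
* `TypeA.odd_trivial` : if `z` is conjugate to `s z` in `U`, the odd part of the kernel is trivial
-/

set_option autoImplicit false
set_option linter.unusedSectionVars false

namespace Cfsg.Agent.M11Local

open Subgroup

variable {G : Type*} [Group G] {M : Subgroup G} {g g' a s : G}

/-- The hypothesis of case A. -/
structure TypeA {G : Type*} [Group G] (s : G) where
  hom : ↥(centralizer ({s} : Set G)) →* Equiv.Perm (Fin 3)
  surj : Function.Surjective hom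
  nil : Group.IsNilpotent hom.ker
  prime_to : ¬ 3 ∣ Nat.card hom.ker
  ker_s : hom ⟨s, mem_centralizer_singleton_iff.2 rfl⟩ = 1

theorem mem_C {s x : G} (h : x * s = s * x) : x ∈ centralizer ({s} : Set G) :=
  mem_centralizer_singleton_iff.2 h

/-- The kernel as a subgroup of `G`. -/
def TypeA.wSub (T : TypeA s) : Subgroup G := T.hom.ker.map (centralizer ({s} : Set G)).subtype

theorem TypeA.mem_wSub (T : TypeA s) {x : G} :
    x ∈ T.wSub ↔ ∃ h : x * s = s * x, T.hom ⟨x, mem_C h⟩ = 1 := by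
  constructor
  · rintro ⟨y, hy, rfl⟩
    exact ⟨mem_centralizer_singleton_iff.1 y.2, hy⟩
  · rintro ⟨h, h1⟩
    exact ⟨⟨x, mem_C h⟩, h1, rfl⟩

theorem TypeA.le_cent (T : TypeA s) {x : G} (hx : x ∈ T.wSub) : x * s = s * x :=
  (T.mem_wSub.1 hx).1

theorem TypeA.s_mem (T : TypeA s) : s ∈ T.wSub := T.mem_wSub.2 ⟨rfl, T.ker_s⟩

theorem TypeA.card_wSub (T : TypeA s) : Nat.card T.wSub = Nat.card T.hom.ker :=
  Subgroup.card_map_of_injective (centralizer ({s} : Set G)).subtype_injective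

theorem TypeA.card_cent [Finite G] (T : TypeA s) :
    Nat.card ↥(centralizer ({s} : Set G)) = 6 * Nat.card T.wSub := by
  rw [T.card_wSub, Subgroup.card_eq_card_quotient_mul_card_subgroup T.hom.ker,
    Nat.card_congr (QuotientGroup.quotientKerEquivOfSurjective T.hom T.surj).toEquiv, Nat.card_perm,
    Nat.card_fin]
  rfl

theorem TypeA.normal (T : TypeA s) {c x : G} (hc : c * s = s * c) (hx : x ∈ T.wSub) :
    cj c x ∈ T.wSub := by
  obtain ⟨h, h1⟩ := T.mem_wSub.1 hx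
  refine T.mem_wSub.2 ⟨?_, ?_⟩
  · have := cj_commute (c := c) h
    rwa [show cj c s = s from cj_eq_self.2 hc] at this
  · have : T.hom (⟨c, mem_C hc⟩ * ⟨x, mem_C h⟩ * ⟨c, mem_C hc⟩⁻¹) = 1 := by
      rw [map_mul, map_mul, h1, mul_one, map_inv, mul_inv_cancel]
    exact this

theorem perm3_comm : ∀ p z : Equiv.Perm (Fin 3), z * z = 1 → z ≠ 1 → p * z = z * p → p = 1 ∨ p = z := by
  decide

theorem TypeA.cube_notMem [Finite G] (T : TypeA s) {k : G} (hk : k ^ 3 = 1) (hk1 : k ≠ 1) :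
    k ∉ T.wSub := fun h => by
  have := Subgroup.orderOf_dvd_natCard T.wSub h
  rw [orderOf_eq_prime hk hk1, T.card_wSub] at this
  exact T.prime_to this

theorem TypeA.z_notMem [Finite G] (T : TypeA s) (L : Local M g g' a s) : a ^ 4 ∉ T.wSub := by
  intro hz
  obtain ⟨h, h1⟩ := T.mem_wSub.1 hz
  have hg : g * s = s * g := L.sg.symm
  refine T.cube_notMem L.g_cube L.g_ne (T.mem_wSub.2 ⟨hg, ?_⟩)
  set G' : ↥(centralizer ({s} : Set G)) := ⟨g, mem_C hg⟩
  have hzg : (⟨a ^ 4, mem_C h⟩ : ↥(centralizer ({s} : Set G))) * G' * ⟨a ^ 4, mem_C h⟩⁻¹ = G'⁻¹ :=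
    Subtype.ext L.z_g
  have h2 := congrArg T.hom hzg
  rw [map_mul, map_mul, h1, one_mul, map_inv T.hom, h1, inv_one, mul_one, map_inv] at h2
  have h3 : T.hom G' ^ 3 = 1 := by
    rw [← map_pow, show G' ^ 3 = 1 from Subtype.ext L.g_cube, map_one]
  exact eq_one_of_cube_sq h3 (by nth_rewrite 1 [h2]; exact inv_mul_cancel _)

/-- `C(V)` meets two cosets of the kernel. -/
theorem TypeA.cV_cases [Finite G] (T : TypeA s) (L : Local M g g' a s) {c : G} (hs : c * s = s * c)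
    (hz : c * a ^ 4 = a ^ 4 * c) : c ∈ T.wSub ∨ c * a ^ 4 ∈ T.wSub := by
  set Z : ↥(centralizer ({s} : Set G)) := ⟨a ^ 4, mem_C L.s_z.symm⟩
  set C : ↥(centralizer ({s} : Set G)) := ⟨c, mem_C hs⟩
  have hZ2 : T.hom Z * T.hom Z = 1 := by
    rw [← map_mul, show Z * Z = 1 from Subtype.ext L.z_sq, map_one]
  have hZ1 : T.hom Z ≠ 1 := fun h => T.z_notMem L (T.mem_wSub.2 ⟨L.s_z.symm, h⟩)
  rcases perm3_comm (T.hom C) (T.hom Z) hZ2 hZ1
    (by rw [← map_mul, ← map_mul]; exact congrArg T.hom (Subtype.ext hz)) with h | h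
  · exact Or.inl (T.mem_wSub.2 ⟨hs, h⟩)
  · refine Or.inr (T.mem_wSub.2 ⟨((show Commute c s from hs).mul_left L.s_z.symm).eq, ?_⟩)
    have : T.hom (C * Z) = 1 := by rw [map_mul, h, hZ2]
    exact this

/-- The Sylow 2-subgroup of the kernel. -/
noncomputable def TypeA.uSub [Finite G] (T : TypeA s) : Subgroup G :=
  ((default : Sylow 2 T.wSub) : Subgroup T.wSub).map T.wSub.subtype

instance TypeA.isNilpotent_wSub [Finite G] (T : TypeA s) : Group.IsNilpotent T.wSub := by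
  haveI := T.nil
  exact (Group.isNilpotent_congr
    (T.hom.ker.equivMapOfInjective _ (centralizer ({s} : Set G)).subtype_injective)).1 inferInstance

theorem TypeA.sylow_normal [Finite G] (T : TypeA s) {p : ℕ} [Fact p.Prime] (P : Sylow p T.wSub) :
    (P : Subgroup T.wSub).Normal :=
  ((Group.isNilpotent_of_finite_tfae (G := T.wSub)).out 0 3 rfl rfl).1 inferInstance p inferInstance P

theorem TypeA.mem_uSub [Finite G] (T : TypeA s) {x : G} :
    x ∈ T.uSub ↔ x ∈ T.wSub ∧ ∃ k : ℕ, x ^ 2 ^ k = 1 := by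
  haveI := Fact.mk Nat.prime_two
  constructor
  · rintro ⟨y, hy, rfl⟩
    obtain ⟨k, hk⟩ := (default : Sylow 2 T.wSub).2 ⟨y, hy⟩
    exact ⟨y.2, k, congrArg (fun q : ↥((default : Sylow 2 T.wSub) : Subgroup T.wSub) => ((q : T.wSub) : G)) hk⟩
  · rintro ⟨hx, k, hk⟩
    refine ⟨⟨x, hx⟩, ?_, rfl⟩
    have hp : IsPGroup 2 (zpowers (⟨x, hx⟩ : T.wSub)) := by
      rintro ⟨_, n, rfl⟩
      refine ⟨k, Subtype.ext ?_⟩
      show ((⟨x, hx⟩ : T.wSub) ^ n) ^ 2 ^ k = 1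
      rw [← zpow_natCast, ← zpow_mul, mul_comm, zpow_mul, zpow_natCast,
        show (⟨x, hx⟩ : T.wSub) ^ 2 ^ k = 1 from Subtype.ext hk, one_zpow]
    obtain ⟨Q, hQ⟩ := hp.exists_le_sylow
    haveI := T.sylow_normal (default : Sylow 2 T.wSub)
    haveI : Unique (Sylow 2 T.wSub) := Sylow.unique_of_normal (default : Sylow 2 T.wSub) inferInstance
    rw [Subsingleton.elim Q (default : Sylow 2 T.wSub)] at hQ
    exact hQ (mem_zpowers _)

theorem TypeA.u_le [Finite G] (T : TypeA s) {x : G} (hx : x ∈ T.uSub) : x ∈ T.wSub :=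
  (T.mem_uSub.1 hx).1

theorem TypeA.u_conj [Finite G] (T : TypeA s) {c x : G} (hc : c * s = s * c) (hx : x ∈ T.uSub) :
    cj c x ∈ T.uSub := by
  obtain ⟨h, k, hk⟩ := T.mem_uSub.1 hx
  exact T.mem_uSub.2 ⟨T.normal hc h, k, by rw [← cj_pow, hk]; simp [cj]⟩

theorem TypeA.s_mem_u [Finite G] (T : TypeA s) (L : Local M g g' a s) : s ∈ T.uSub :=
  T.mem_uSub.2 ⟨T.s_mem, 1, by rw [pow_one, pow_two, L.s_sq]⟩

theorem TypeA.good [Finite G] (T : TypeA s) (L : Local M g g' a s) : Good T.uSub g a s where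
  s_mem := T.s_mem_u L
  cent u hu := T.le_cent (T.u_le hu)
  z_notMem h := T.z_notMem L (T.u_le h)
  two := fun u => by
    obtain ⟨-, k, hk⟩ := T.mem_uSub.1 u.2
    exact ⟨k, Subtype.ext hk⟩
  g_inv _ hu := T.u_conj L.sg.symm hu
  z_inv _ hu := T.u_conj L.s_z.symm hu

/-- An element of odd order. -/
def IsOdd' (x : G) : Prop := ∃ n : ℕ, Odd n ∧ x ^ n = 1

theorem IsOdd'.eq_one_of_two {x : G} (h : IsOdd' x) {k : ℕ} (hk : x ^ 2 ^ k = 1) : x = 1 := by
  obtain ⟨n, hn, hx⟩ := h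
  have hd : orderOf x ∣ Nat.gcd n (2 ^ k) :=
    Nat.dvd_gcd (orderOf_dvd_of_pow_eq_one hx) (orderOf_dvd_of_pow_eq_one hk)
  rw [Nat.Coprime.pow_right k (Nat.coprime_two_right.2 hn), Nat.dvd_one, orderOf_eq_one_iff] at hd
  exact hd

theorem IsOdd'.cj {x : G} (h : IsOdd' x) (c : G) : IsOdd' (cj c x) := by
  obtain ⟨n, hn, hx⟩ := h
  exact ⟨n, hn, by rw [← cj_pow, hx]; simp [M11Local.cj]⟩

/-- The odd part commutes with the 2-part. -/
theorem TypeA.comm_odd [Finite G] (T : TypeA s) {u o : G} (hu : u ∈ T.uSub) (ho : o ∈ T.wSub)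
    (hodd : IsOdd' o) : u * o = o * u := by
  obtain ⟨hu', k, hk⟩ := T.mem_uSub.1 hu
  obtain ⟨n, hn, hx⟩ := hodd
  have hcop : (orderOf (⟨u, hu'⟩ : T.wSub)).Coprime (orderOf (⟨o, ho⟩ : T.wSub)) := by
    refine Nat.Coprime.coprime_dvd_left (orderOf_dvd_of_pow_eq_one (n := 2 ^ k) (Subtype.ext hk))
      (Nat.Coprime.coprime_dvd_right (orderOf_dvd_of_pow_eq_one (n := n) (Subtype.ext hx)) ?_)
    exact Nat.Coprime.pow_left k (Nat.coprime_two_left.2 hn)
  exact congrArg Subtype.val (CN.commute_of_isNilpotent (a := (⟨u, hu'⟩ : T.wSub)) (b := ⟨o, ho⟩) hcop).eq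

end Cfsg.Agent.M11Local
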