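import Cfsg.Agent.Lib.M11Local.TypeATwo

/-!
# Case A: counting (S3717; owner helper21)

* `TypeA.centZ_cases` : `C_U(z)` lies in `⟨s⟩ (U ∩ U^(a ^ 2) ∩ C(z))`
* `TypeA.card_w` : `|W| = |U| m` with `m` odd
* `TypeA.w_eq_u` : if `z` moves an element of `U` by `s`, then `W = U`
* `TypeA.conj_z` : and then `z` is conjugate to `s` by an element with given action
* `Good.three_dvd` : `|U / ⟨s⟩| ≡ 1 [MOD 3]`
-/

set_option autoImplicit false
set_option linter.unusedSectionVars false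

namespace Cfsg.Agent.M11Local

open Subgroup

variable {G : Type*} [Group G] [Finite G] {M U : Subgroup G} {g g' a s : G}

theorem Fpf.three_dvd {Q : Type*} [Group Q] [Finite Q] {φ : Q →* Q} (h : Fpf φ) :
    3 ∣ Nat.card Q - 1 := by
  classical
  haveI := Fintype.ofFinite Q
  haveI := Fact.mk Nat.prime_three
  let S := {q : Q // q ≠ 1}
  have hinj : Function.Injective φ := fun p q hpq => by rw [← h.cube p, hpq, h.cube]
  let f : S → S := fun q => ⟨φ q.1, fun e => q.2 (hinj (e.trans (map_one φ).symm))⟩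
  let σ : Equiv.Perm S :=
    ⟨f, fun q => f (f q), fun q => Subtype.ext (h.cube q.1), fun q => Subtype.ext (h.cube q.1)⟩
  by_contra hd
  have hcard : ¬ 3 ∣ Fintype.card S := by
    rwa [Fintype.card_subtype_compl, Fintype.card_subtype_eq, ← Nat.card_eq_fintype_card]
  obtain ⟨q, hq⟩ := Equiv.Perm.exists_fixed_point_of_prime hcard (σ := σ) (n := 1) (by
    ext q
    rw [pow_one, pow_three]
    exact h.cube q.1)
  exact q.2 (h.fix q.1 (congrArg Subtype.val hq))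

/-- `|U| = 2 n` with `n ≡ 1 [MOD 3]` a power of two. -/
theorem Good.card_shape (hU : Good U g a s) (L : Local M g g' a s) :
    ∃ k : ℕ, Nat.card U = 2 * 2 ^ k ∧ 3 ∣ 2 ^ k - 1 := by
  haveI := hU.normal L
  haveI := Fact.mk Nat.prime_two
  obtain ⟨φ, ζ, hφ, -, -, -, -⟩ := hU.exists_maps L
  obtain ⟨k, hk⟩ := IsPGroup.iff_card.1 (hU.two.to_quotient (sN U s))
  refine ⟨k, by rw [hU.card_quotient L, hk], ?_⟩
  rw [← hk]
  exact hφ.three_dvd

theorem TypeA.mem_u_of_mem (T : TypeA s) (L : Local M g g' a s) {u : G} (hu : u ∈ T.uSub)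
    (h : cj (a ^ 2)⁻¹ u ∈ T.wSub) : cj (a ^ 2)⁻¹ u ∈ T.uSub := by
  obtain ⟨k, hk⟩ := (T.mem_uSub.1 hu).2
  exact T.mem_uSub.2 ⟨h, k, by rw [← cj_pow, hk]; simp [cj]⟩

/-- The centralizer of `z` in `U`. -/
theorem TypeA.centZ_cases (T : TypeA s) (L : Local M g g' a s) {u : G} (hu : u ∈ T.uSub)
    (hz : u * a ^ 4 = a ^ 4 * u) :
    u ∈ Good.inter T.uSub a ∨ u * s ∈ Good.inter T.uSub a := by
  have hus : u * s = s * u := T.le_cent (T.u_le hu)
  have hcs : cj (a ^ 2)⁻¹ s = a ^ 4 * s := by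
    have h := congrArg (cj (a ^ 2)⁻¹) L.a_s
    rw [cj_inv_cj, cj_mul, show cj (a ^ 2)⁻¹ (a ^ 4) = a ^ 4 from
      cj_eq_self.2 (((Commute.refl a).pow_pow 2 4).inv_left).eq] at h
    have h2 := congrArg (a ^ 4 * ·) h
    simp only [← mul_assoc, L.z_sq, one_mul] at h2
    exact h2.symm
  have hzc : cj (a ^ 2)⁻¹ (a ^ 4) = a ^ 4 := cj_eq_self.2 (((Commute.refl a).pow_pow 2 4).inv_left).eq
  have h1 : cj (a ^ 2)⁻¹ u * s = s * cj (a ^ 2)⁻¹ u := by
    have hzs : u * (a ^ 4 * s) = a ^ 4 * s * u := ((show Commute u (a ^ 4) from hz).mul_right hus).eq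
    have := cj_commute (c := (a ^ 2)⁻¹) hzs
    rwa [cj_mul (a ^ 2)⁻¹ (a ^ 4) s, hzc, hcs,
      show a ^ 4 * (a ^ 4 * s) = s by rw [← mul_assoc, L.z_sq, one_mul]] at this
  have h2 : cj (a ^ 2)⁻¹ u * a ^ 4 = a ^ 4 * cj (a ^ 2)⁻¹ u := by
    have := cj_commute (c := (a ^ 2)⁻¹) hz
    rwa [hzc] at this
  rcases T.cV_cases L h1 h2 with h | h
  · exact Or.inl (Good.mem_inter.2 ⟨hu, T.mem_u_of_mem L hu h, hz⟩)
  · refine Or.inr (Good.mem_inter.2 ⟨T.uSub.mul_mem hu (T.s_mem_u L), ?_,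
      ((show Commute u _ from hz).mul_left L.s_z).eq⟩)
    refine T.mem_u_of_mem L (T.uSub.mul_mem hu (T.s_mem_u L)) ?_
    rw [cj_mul, hcs, ← mul_assoc]
    exact T.wSub.mul_mem h T.s_mem

/-- `|W| = |U| m` with `m` odd. -/
theorem TypeA.card_w (T : TypeA s) :
    ∃ m : ℕ, Odd m ∧ Nat.card T.wSub = Nat.card T.uSub * m := by
  haveI := Fact.mk Nat.prime_two
  refine ⟨((default : Sylow 2 T.wSub) : Subgroup T.wSub).index,
    Nat.odd_iff.2 (Nat.two_dvd_ne_zero.1 (default : Sylow 2 T.wSub).not_dvd_index), ?_⟩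
  rw [TypeA.uSub, Subgroup.card_map_of_injective T.wSub.subtype_injective, Subgroup.card_mul_index]

/-- Where `z` moves an element of `U` by `s`, it is conjugate to `s`. -/
theorem TypeA.conj_z (T : TypeA s) (L : Local M g g' a s) {w : G} (hw : w ∈ T.uSub)
    (hwz : cj (a ^ 4) w = w * s) :
    cj (a ^ 2 * w) (a ^ 4) = s ∧ cj (a ^ 2 * w) s = a ^ 4 * s ∧ cj (a ^ 2 * w) (a ^ 4 * s) = a ^ 4 := by
  have hws : w * s = s * w := T.le_cent (T.u_le hw)
  have h1 : cj w (a ^ 4) = a ^ 4 * s := by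
    rw [cj_eq_iff]
    have e : a ^ 4 * w * a ^ 4 = w * s := by
      have := hwz
      rwa [cj, L.z_inv_self] at this
    calc w * a ^ 4 = a ^ 4 * (a ^ 4 * w * a ^ 4) := by rw [← mul_assoc, ← mul_assoc, L.z_sq, one_mul]
      _ = a ^ 4 * s * w := by rw [e, hws, ← mul_assoc]
  have h2 : cj w s = s := cj_eq_self.2 hws
  refine ⟨?_, by rw [← cj_cj, h2, L.a_s], ?_⟩
  · rw [← cj_cj, h1, cj_mul, L.a_z, L.a_s, ← mul_assoc, L.z_sq, one_mul]
  · rw [← cj_cj, cj_mul w, h1, h2, mul_assoc, L.s_sq, mul_one, L.a_z]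

/-- The image of `a ^ 2` in `U`. -/
theorem TypeA.conj_a_sq (T : TypeA s) (L : Local M g g' a s) {w : G} (hw : w ∈ T.uSub)
    (hwz : cj (a ^ 4) w = w * s) :
    cj (a ^ 2 * w) (a ^ 2) ∈ T.uSub ∧ cj (a ^ 2 * w) (a ^ 2) * cj (a ^ 2 * w) (a ^ 2) = s ∧
      cj (a ^ 4) (cj (a ^ 2 * w) (a ^ 2)) = cj (a ^ 2 * w) (a ^ 2) * s := by
  obtain ⟨hc1, hc2, hc3⟩ := T.conj_z L hw hwz
  set c := a ^ 2 * w
  have hsq : cj c (a ^ 2) * cj c (a ^ 2) = s := by
    rw [← cj_mul, ← pow_add]; exact hc1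
  refine ⟨?_, hsq, ?_⟩
  · have ha : cj c a * s = s * cj c a := by
      have := cj_commute (c := c) (show a * a ^ 4 = a ^ 4 * a from ((Commute.refl a).pow_right 4).eq)
      rwa [hc1] at this
    have ha2 : cj c (a ^ 2) * s = s * cj c (a ^ 2) := by
      rw [cj_pow]; exact ((show Commute (cj c a) s from ha).pow_left 2).eq
    refine T.mem_uSub.2 ⟨T.mem_wSub.2 ⟨ha2, ?_⟩, 2, ?_⟩
    · set A : ↥(centralizer ({s} : Set G)) := ⟨cj c a, mem_C ha⟩
      have h8 : A * A * (A * A) * (A * A * (A * A)) = 1 := Subtype.ext (by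
        show cj c a * cj c a * (cj c a * cj c a) * (cj c a * cj c a * (cj c a * cj c a)) = 1
        simp only [← cj_mul]
        rw [show a * a * (a * a) * (a * a * (a * a)) = a ^ 8 by simp [pow_succ, mul_assoc], L.a_pow]
        simp [cj])
      have h := perm3_two (T.hom A) (by simp only [← map_mul, h8, map_one])
      rw [← map_mul] at h
      have e : (⟨cj c (a ^ 2), mem_C ha2⟩ : ↥(centralizer ({s} : Set G))) = A * A :=
        Subtype.ext (by show cj c (a ^ 2) = cj c a * cj c a; rw [← cj_mul, pow_two])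
      rw [e]; exact h
    · rw [show (2 : ℕ) ^ 2 = 2 + 2 from rfl, pow_add, pow_two, hsq, L.s_sq]
  · have e : cj (a ^ 4) (cj c (a ^ 2)) = cj c (cj (a ^ 4 * s) (a ^ 2)) := by
      nth_rewrite 1 [← hc3]
      simp [cj, mul_assoc]
    have e2 : cj (a ^ 4 * s) (a ^ 2) = a ^ 2 * a ^ 4 := by
      rw [← cj_cj, cj_pow s, L.s_a, ← pow_mul, cj_eq_self.2 ((Commute.refl a).pow_pow 4 (3 * 2)).eq,
        ← pow_add]
    rw [e, e2, cj_mul, hc1]

/-- Where `z` moves an element of `U` by `s`, the kernel is a 2-group. -/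
theorem TypeA.w_eq_u (T : TypeA s) (L : Local M g g' a s) {w : G} (hw : w ∈ T.uSub)
    (hwz : cj (a ^ 4) w = w * s) : T.wSub = T.uSub := by
  classical
  obtain ⟨hc1, hc2, hc3⟩ := T.conj_z L hw hwz
  obtain ⟨hv, -, -⟩ := T.conj_a_sq L hw hwz
  set c := a ^ 2 * w
  have hCz : ∀ o ∈ T.wSub, IsOdd' o → o * a ^ 4 = a ^ 4 * o → o = 1 := by
    intro o ho hodd hoz
    have hos := T.le_cent ho
    have h : cj c⁻¹ o = 1 := by
      refine T.odd_eq_one L (hodd.cj _) ?_ ?_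
      · have e1 : cj c⁻¹ (a ^ 4) = a ^ 4 * s := by rw [← cj_inv_cj c (a ^ 4 * s), hc3]
        have e2 : cj c⁻¹ s = a ^ 4 := by rw [← cj_inv_cj c (a ^ 4), hc1]
        have h1 : Commute (cj c⁻¹ o) (a ^ 4 * s) := by rw [← e1]; exact cj_commute hoz
        have h2 : Commute (cj c⁻¹ o) (a ^ 4) := by rw [← e2]; exact cj_commute hos
        have h3 := h2.mul_right h1
        rw [← mul_assoc, L.z_sq, one_mul] at h3
        exact h3.eq
      · have h1 := cj_commute (c := c⁻¹) (T.comm_odd hv ho hodd).symm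
        rwa [cj_inv_cj] at h1
    have := congrArg (cj c) h
    rwa [cj_cj_inv, show cj c 1 = 1 by simp [cj]] at this
  refine le_antisymm (fun x hx => ?_) (fun x hx => T.u_le hx)
  -- every odd prime divisor is absent
  haveI := Fact.mk Nat.prime_two
  have hp2 : ∀ p : ℕ, p.Prime → p ∣ Nat.card T.wSub → p = 2 := by
    intro p hp hpd
    by_contra hp2
    haveI := Fact.mk hp
    have hodd : Odd p := hp.odd_of_ne_two hp2
    set P : Sylow p T.wSub := default
    haveI := T.sylow_normal P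
    haveI : Unique (Sylow p T.wSub) := Sylow.unique_of_normal P inferInstance
    set O := (P : Subgroup T.wSub).map T.wSub.subtype
    have hmem : ∀ q : G, q ∈ O ↔ q ∈ T.wSub ∧ ∃ k : ℕ, q ^ p ^ k = 1 := by
      intro q
      constructor
      · rintro ⟨y, hy, rfl⟩
        obtain ⟨k, hk⟩ := P.2 ⟨y, hy⟩
        exact ⟨y.2, k, congrArg (fun r : (P : Subgroup T.wSub) => ((r : T.wSub) : G)) hk⟩
      · rintro ⟨hq, k, hk⟩
        refine ⟨⟨q, hq⟩, ?_, rfl⟩
        have hp' : IsPGroup p (zpowers (⟨q, hq⟩ : T.wSub)) := by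
          rintro ⟨_, n, rfl⟩
          refine ⟨k, Subtype.ext ?_⟩
          show ((⟨q, hq⟩ : T.wSub) ^ n) ^ p ^ k = 1
          rw [← zpow_natCast, ← zpow_mul, mul_comm, zpow_mul, zpow_natCast,
            show (⟨q, hq⟩ : T.wSub) ^ p ^ k = 1 from Subtype.ext hk, one_zpow]
        obtain ⟨Q, hQ⟩ := hp'.exists_le_sylow
        rw [Subsingleton.elim Q P] at hQ
        exact hQ (mem_zpowers _)
    have hinv : ∀ k : G, k * s = s * k → ∀ o ∈ O, cj k o ∈ O := by
      intro k hk o ho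
      obtain ⟨h1, n, hn⟩ := (hmem o).1 ho
      exact (hmem _).2 ⟨T.normal hk h1, n, by rw [← cj_pow, hn]; simp [cj]⟩
    have hO : ∀ o ∈ O, IsOdd' o := fun o ho => by
      obtain ⟨-, n, hn⟩ := (hmem o).1 ho
      exact ⟨p ^ n, hodd.pow, hn⟩
    obtain ⟨φ, ζ, hφ, hζ, hζφ, -, hζv⟩ := T.odd_maps L (O := O) (fun o ho => ((hmem o).1 ho).1) hO
      (hinv g L.sg.symm) (hinv _ L.s_z.symm)
    have h1 : Nat.card {q : O // ζ q = q} = 1 := by
      rw [Nat.card_eq_one_iff_unique]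
      refine ⟨⟨fun q r => ?_⟩, ⟨⟨1, map_one ζ⟩⟩⟩
      have key : ∀ q : {q : O // ζ q = q}, ((q : O) : G) = 1 := fun q =>
        hCz _ ((hmem _).1 (q : O).2).1 (hO _ (q : O).2)
          (cj_eq_self.1 ((hζv q.1).symm.trans (congrArg Subtype.val q.2))).symm
      exact Subtype.ext (Subtype.ext ((key q).trans (key r).symm))
    have h2 := hφ.card_le_sq ζ hζ hζφ
    rw [h1, one_pow] at h2
    have h3 : p ∣ Nat.card O := by
      rw [Subgroup.card_map_of_injective T.wSub.subtype_injective, P.card_eq_multiplicity]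
      exact dvd_pow_self p (hp.factorization_pos_of_dvd Nat.card_pos.ne' hpd).ne'
    have := Nat.le_of_dvd Nat.card_pos h3
    have := hp.two_le
    omega
  have hpg : IsPGroup 2 T.wSub := by
    refine IsPGroup.of_card (n := (Nat.card T.wSub).primeFactorsList.length) ?_
    exact Nat.eq_prime_pow_of_unique_prime_dvd Nat.card_pos.ne' fun {q} hq hd => hp2 q hq hd
  obtain ⟨k, hk⟩ := hpg ⟨x, hx⟩
  exact T.mem_uSub.2 ⟨hx, k, congrArg Subtype.val hk⟩

end Cfsg.Agent.M11Local
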