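import Cfsg.Agent.Lib.M11Local.TypeA

/-!
# Case A: the odd part and the bound on `U` (S3717; owner helper21)

* `TypeA.odd_eq_one` : no odd element centralizes `⟨s, a ^ 2⟩`
* `TypeA.centZ_cases` : `C_U(z)` lies in `⟨s⟩ (U ∩ U^(a ^ 2) ∩ C(z))`
* `TypeA.card_w` : `|W| = |U| m` with `m` odd
* `TypeA.w_eq_u` : if `z` moves an element of `U` by `s`, then `W = U` and `z` is conjugate to `s`
* `Good.three_dvd` : `|U / ⟨s⟩| ≡ 1 [MOD 3]`
-/

set_option autoImplicit false
set_option linter.unusedSectionVars false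

namespace Cfsg.Agent.M11Local

open Subgroup

variable {G : Type*} [Group G] [Finite G] {M : Subgroup G} {g g' a s : G}

set_option maxRecDepth 100000 in
theorem perm3_two : ∀ p : Equiv.Perm (Fin 3), p * p * (p * p) * (p * p * (p * p)) = 1 → p * p = 1 := by
  decide +kernel

/-- Odd elements of `C(V)` lie in the kernel. -/
theorem TypeA.odd_mem (T : TypeA s) (L : Local M g g' a s) {c : G} (hc : IsOdd' c)
    (hs : c * s = s * c) (hz : c * a ^ 4 = a ^ 4 * c) : c ∈ T.wSub := by
  obtain ⟨n, hn, hcn⟩ := hc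
  rcases T.cV_cases L hs hz with h | h
  · exact h
  exfalso
  obtain ⟨k, hk⟩ := hn
  obtain ⟨h', h1⟩ := T.mem_wSub.1 h
  set C : ↥(centralizer ({s} : Set G)) := ⟨c, mem_C hs⟩
  set Z : ↥(centralizer ({s} : Set G)) := ⟨a ^ 4, mem_C L.s_z.symm⟩
  have hC : T.hom C * T.hom Z = 1 := by rw [← map_mul]; exact h1
  have hCn : T.hom C ^ n = 1 := by
    rw [← map_pow, show C ^ n = 1 from Subtype.ext hcn, map_one]
  have hC2 : T.hom C ^ 2 = 1 := by
    rw [eq_inv_of_mul_eq_one_left hC, inv_pow, pow_two, ← map_mul,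
      show Z * Z = 1 from Subtype.ext L.z_sq, map_one, inv_one]
  rw [hk, pow_succ, pow_mul, hC2, one_pow, one_mul] at hCn
  rw [hCn, one_mul] at hC
  exact T.z_notMem L (T.mem_wSub.2 ⟨L.s_z.symm, hC⟩)

/-- The elements of `W` of order prime to 3 fixed by `g`. -/
theorem TypeA.cent_g (T : TypeA s) (L : Local M g g' a s) {u : G} (hu : u ∈ T.wSub)
    (hg : u * g = g * u) : u = 1 ∨ u = s := by
  obtain ⟨i, hi⟩ := L.cent3 L.g_cube L.g_ne L.s_sq L.s_ne L.sg hg (T.le_cent hu)
  have key : g ^ i ∈ T.wSub := by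
    rcases hi with hi | hi
    · exact hi ▸ hu
    · have := T.wSub.mul_mem hu T.s_mem
      rwa [hi, mul_assoc, L.s_sq, mul_one] at this
  rcases pow_three_cases L.g_cube i with h | h | h
  · rw [h, one_mul] at hi; exact hi
  · exact absurd (h ▸ key) (T.cube_notMem L.g_cube L.g_ne)
  · exact absurd (h ▸ key)
      (T.cube_notMem (by rw [inv_pow, L.g_cube, inv_one]) (inv_ne_one.2 L.g_ne))

/-- The maps induced by `g` and `z` on an invariant odd subgroup of the kernel. -/
theorem TypeA.odd_maps (T : TypeA s) (L : Local M g g' a s) {O : Subgroup G} (hO : O ≤ T.wSub)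
    (hodd : ∀ o ∈ O, IsOdd' o) (hg : ∀ o ∈ O, cj g o ∈ O) (hz : ∀ o ∈ O, cj (a ^ 4) o ∈ O) :
    ∃ φ ζ : O →* O, Fpf φ ∧ (∀ w, ζ (ζ w) = w) ∧ (∀ w, ζ (φ w) = φ (φ (ζ w))) ∧
      (∀ o : O, ((φ o : O) : G) = cj g o) ∧ (∀ o : O, ((ζ o : O) : G) = cj (a ^ 4) o) := by
  let φ : O →* O :=
    { toFun := fun o => ⟨cj g o, hg o o.2⟩
      map_one' := Subtype.ext (by simp [cj])
      map_mul' := fun u v => Subtype.ext (cj_mul g u v) }
  let ζ : O →* O :=
    { toFun := fun o => ⟨cj (a ^ 4) o, hz o o.2⟩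
      map_one' := Subtype.ext (by simp [cj])
      map_mul' := fun u v => Subtype.ext (cj_mul (a ^ 4) u v) }
  refine ⟨φ, ζ, ⟨fun w => Subtype.ext ?_, fun w hw => ?_⟩, fun w => Subtype.ext ?_,
    fun w => Subtype.ext ?_, fun _ => rfl, fun _ => rfl⟩
  · show cj g (cj g (cj g (w : G))) = w
    rw [cj_cj, cj_cj, ← pow_three', L.g_cube, cj_one]
  · have h : cj g (w : G) = w := congrArg Subtype.val hw
    refine Subtype.ext ?_
    rcases T.cent_g L (hO w.2) (cj_eq_self.1 h).symm with h1 | h1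
    · exact h1
    · exact absurd ((hodd s (h1 ▸ w.2)).eq_one_of_two (k := 1) (by rw [pow_one, pow_two, L.s_sq])) L.s_ne
  · show cj (a ^ 4) (cj (a ^ 4) (w : G)) = w
    rw [cj_cj, L.z_sq, cj_one]
  · show cj (a ^ 4) (cj g (w : G)) = cj g (cj g (cj (a ^ 4) (w : G)))
    rw [cj_cj, cj_cj, cj_cj, cj_eq_iff.1 L.z_g]
    congr 2
    rw [inv_eq_iff_mul_eq_one, ← pow_three, L.g_cube]

/-- An odd element of the kernel commutes with its translate. -/
theorem TypeA.odd_comm_g (T : TypeA s) (L : Local M g g' a s) {c : G} (hc : c ∈ T.wSub)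
    (hodd : IsOdd' c) : c * cj g c = cj g c * c := by
  classical
  -- the odd elements form a subgroup
  haveI := Fact.mk Nat.prime_two
  let O : Subgroup G :=
    { carrier := {o | o ∈ T.wSub ∧ IsOdd' o}
      one_mem' := ⟨T.wSub.one_mem, 1, odd_one, pow_one 1⟩
      mul_mem' := by
        rintro p q ⟨hp, m, hm, hpm⟩ ⟨hq, n, hn, hqn⟩
        refine ⟨T.wSub.mul_mem hp hq, ?_⟩
        let P : T.wSub := ⟨p, hp⟩
        let Q : T.wSub := ⟨q, hq⟩
        obtain ⟨N, hN, hN2⟩ : ∃ N : Subgroup T.wSub, (∀ r : T.wSub, IsOdd' (r : G) → r ∈ N) ∧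
            ∀ r ∈ N, IsOdd' (r : G) := by
          haveI := T.sylow_normal (default : Sylow 2 T.wSub)
          obtain ⟨N, hN⟩ := Subgroup.exists_left_complement'_of_coprime
            (default : Sylow 2 T.wSub).card_coprime_index
          refine ⟨N, fun r hr => ?_, fun r hr => ⟨Nat.card N, ?_, ?_⟩⟩
          · obtain ⟨k, hk, hrk⟩ := hr
            obtain ⟨⟨n0, u0⟩, h⟩ := hN.2 r
            have hc : Commute (n0 : T.wSub) (u0 : T.wSub) := by
              refine CN.commute_of_isNilpotent ?_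
              refine Nat.Coprime.coprime_dvd_left (Subgroup.orderOf_dvd_natCard N n0.2) ?_
              refine Nat.Coprime.coprime_dvd_right (Subgroup.orderOf_dvd_natCard _ u0.2) ?_
              rw [← hN.index_eq_card]
              exact (default : Sylow 2 T.wSub).card_coprime_index.symm
            have hu : (u0 : T.wSub) = 1 := by
              obtain ⟨j, hj⟩ := (default : Sylow 2 T.wSub).2 u0
              have h1 : (r : T.wSub) ^ k = 1 := Subtype.ext hrk
              change (n0 : T.wSub) * (u0 : T.wSub) = r at h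
              rw [← h, hc.mul_pow] at h1
              have h2 : (u0 : T.wSub) ^ k ∈ N := by
                rw [eq_inv_of_mul_eq_one_right h1]
                exact N.inv_mem (N.pow_mem n0.2 k)
              have h3 : (u0 : T.wSub) ^ k = 1 := Subgroup.mem_bot.1
                (hN.disjoint.le_bot ⟨h2, Subgroup.pow_mem _ u0.2 k⟩)
              have hd : orderOf (u0 : T.wSub) ∣ Nat.gcd k (2 ^ j) :=
                Nat.dvd_gcd (orderOf_dvd_of_pow_eq_one h3)
                  (orderOf_dvd_of_pow_eq_one (congrArg Subtype.val hj))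
              rw [Nat.Coprime.pow_right j (Nat.coprime_two_right.2 hk), Nat.dvd_one,
                orderOf_eq_one_iff] at hd
              exact hd
            change (n0 : T.wSub) * (u0 : T.wSub) = r at h
            rw [← h, hu, mul_one]; exact n0.2
          · rw [← hN.index_eq_card]
            exact Nat.odd_iff.2 (Nat.two_dvd_ne_zero.1 (default : Sylow 2 T.wSub).not_dvd_index)
          · exact congrArg Subtype.val (orderOf_dvd_iff_pow_eq_one.1 (Subgroup.orderOf_dvd_natCard N hr))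
        exact hN2 (P * Q) (N.mul_mem (hN P ⟨m, hm, hpm⟩) (hN Q ⟨n, hn, hqn⟩))
      inv_mem' := by
        rintro p ⟨hp, m, hm, hpm⟩
        exact ⟨T.wSub.inv_mem hp, m, hm, by rw [inv_pow, hpm, inv_one]⟩ }
  have hcO : c ∈ O := ⟨hc, hodd⟩
  obtain ⟨φ, ζ, hφ, -, -, hφv, -⟩ := T.odd_maps L (O := O) (fun o ho => ho.1) (fun o ho => ho.2)
    (fun o ho => ⟨T.normal L.sg.symm ho.1, ho.2.cj g⟩)
    (fun o ho => ⟨T.normal L.s_z.symm ho.1, ho.2.cj _⟩)
  have := congrArg Subtype.val (hφ.comm_self ⟨c, hcO⟩)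
  simpa [hφv] using this

/-- Every non-identity element of `M` is a translate of `g` under `⟨a⟩`. -/
theorem Local.exists_pow_conj (L : Local M g g' a s) {m : G} (hm : m ∈ M) (hm1 : m ≠ 1) :
    ∃ i : ℕ, cj (a ^ i) g = m := by
  classical
  have haM : ∀ i : ℕ, cj (a ^ i) g ∈ M := by
    intro i
    induction i with
    | zero => rw [pow_zero, cj_one]; exact L.g_mem
    | succ i ih => rw [pow_succ', ← cj_cj]; exact L.a_M _ ih
  let f : Fin 8 → {q : M // q ≠ 1} := fun i =>
    ⟨⟨cj (a ^ (i : ℕ)) g, haM i⟩, fun h => L.g_ne (conj_eq_one_iff.1 (congrArg Subtype.val h))⟩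
  have hfix : ∀ j : ℕ, j < 8 → cj (a ^ j) g = g → j = 0 := by
    intro j hj h
    have hpow : ∀ n : G, n ∈ M → ∀ k : ℕ, n = a ^ k → k % 8 = 0 := by
      intro n hn k hk
      have h1 : n ^ 3 = 1 := L.cube n hn
      rw [hk, ← pow_mul] at h1
      have := orderOf_dvd_of_pow_eq_one h1
      rw [L.orderOf_a] at this
      omega
    obtain ⟨m, hm, h' | h'⟩ := L.cent (a ^ j) (cj_eq_self.1 h)
    · have := hpow m hm j h'.symm; omega
    · -- the square lies in `M`
      have hms : cj s m ∈ M := by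
        obtain ⟨p, q, rfl⟩ := L.span m hm
        rw [cj_mul, cj_pow, cj_pow, L.s_g, L.s_g']
        exact M.mul_mem (M.pow_mem L.g_mem p) (M.pow_mem (M.inv_mem L.g'_mem) q)
      have e : a ^ (2 * j) = m * cj s m := by
        rw [two_mul, pow_add, h']
        show m * s * (m * s) = m * (s * m * s⁻¹)
        rw [L.s_inv]; simp only [mul_assoc]
      have h8 := hpow _ (M.mul_mem hm hms) (2 * j) e.symm
      have h4 : j = 4 ∨ j = 0 := by omega
      rcases h4 with rfl | rfl
      · exfalso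
        rw [L.z_g] at h
        exact L.g_ne (eq_one_of_cube_sq L.g_cube (by nth_rewrite 1 [← h]; exact inv_mul_cancel g))
      · rfl
  have hinj : Function.Injective f := by
    intro i j e
    have e' : cj (a ^ (i : ℕ)) g = cj (a ^ (j : ℕ)) g := congrArg (fun q : {q : M // q ≠ 1} => ((q.1 : M) : G)) e
    have h1 : cj (a ^ ((8 - (j : ℕ) + i) % 8)) g = g := by
      have : cj (a ^ (8 - (j : ℕ))) (cj (a ^ (i : ℕ)) g) = g := by
        rw [e', cj_cj, ← pow_add, Nat.sub_add_cancel j.2.le, L.a_pow, cj_one]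
      rwa [cj_cj, ← pow_add, pow_eq_pow_mod _ L.a_pow] at this
    have := hfix _ (Nat.mod_lt _ (by norm_num)) h1
    have := i.2
    have := j.2
    exact Fin.ext (by omega)
  have hcard : Nat.card {q : M // q ≠ 1} = 8 := by
    haveI := Fintype.ofFinite M
    have h9 := L.card
    rw [Nat.card_eq_fintype_card] at h9 ⊢
    rw [Fintype.card_subtype_compl, h9, Fintype.card_subtype_eq]
  have hbij : Function.Bijective f := hinj.bijective_of_nat_card_le (by rw [hcard]; simp)
  obtain ⟨i, hi⟩ := hbij.2 ⟨⟨m, hm⟩, fun h => hm1 (congrArg Subtype.val h)⟩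
  exact ⟨i, congrArg (fun q : {q : M // q ≠ 1} => ((q.1 : M) : G)) hi⟩

/-- No odd element centralizes `⟨s, a ^ 2⟩`. -/
theorem TypeA.odd_eq_one (T : TypeA s) (L : Local M g g' a s) {c : G} (hodd : IsOdd' c)
    (hs : c * s = s * c) (ha : c * a ^ 2 = a ^ 2 * c) : c = 1 := by
  obtain ⟨n, hn, hcn⟩ := id hodd
  have h3 : ¬ 3 ∣ orderOf c := fun h => by
    set k := c ^ (orderOf c / 3) with hk
    have ho : orderOf k = 3 := by
      rw [hk, orderOf_pow_orderOf_div (orderOf_pos c).ne' h]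
    have hz : c * a ^ 4 = a ^ 4 * c := by
      rw [show a ^ 4 = a ^ 2 * a ^ 2 by rw [← pow_add], ← mul_assoc, ha, mul_assoc, ha, mul_assoc]
    have := L.cV (k := k) (by rw [← ho]; exact pow_orderOf_eq_one k)
      (((show Commute c s from hs).pow_left _).eq) (((show Commute c _ from hz).pow_left _).eq)
    rw [this, orderOf_one] at ho
    omega
  refine L.eq_one_of_commute h3 (pow_orderOf_eq_one c) fun m hm => ?_
  by_cases hm1 : m = 1
  · rw [hm1, cj_one]
  obtain ⟨i, rfl⟩ := L.exists_pow_conj hm hm1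
  set c' := cj (a ^ i)⁻¹ c with hc'
  have hz : c * a ^ 4 = a ^ 4 * c := by
    rw [show a ^ 4 = a ^ 2 * a ^ 2 by rw [← pow_add], ← mul_assoc, ha, mul_assoc, ha, mul_assoc]
  -- `c'` centralizes `V`
  have hsi : ∀ j : ℕ, ∃ k : ℕ, cj (a ^ j) s = (a ^ 2) ^ k * s := by
    intro j
    refine ⟨7 * j, ?_⟩
    have h1 : ∀ k : ℕ, s * a ^ k = a ^ (3 * k) * s := fun k => by
      rw [← cj_eq_iff, cj_pow, L.s_a, ← pow_mul]
    rw [cj_eq_iff, mul_assoc, h1, ← mul_assoc, ← pow_mul, ← pow_add]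
    congr 1
    rw [pow_eq_pow_mod j L.a_pow, pow_eq_pow_mod (2 * (7 * j) + 3 * j) L.a_pow]
    congr 1
    omega
  have hs' : c' * s = s * c' := by
    obtain ⟨k, hk⟩ := hsi i
    have h1 : c * cj (a ^ i) s = cj (a ^ i) s * c := by
      rw [hk]
      exact (((show Commute c (a ^ 2) from ha).pow_right k).mul_right hs).eq
    have := cj_commute (c := (a ^ i)⁻¹) h1
    rwa [cj_inv_cj] at this
  have hz' : c' * a ^ 4 = a ^ 4 * c' := by
    have := cj_commute (c := (a ^ i)⁻¹) hz
    rwa [show cj (a ^ i)⁻¹ (a ^ 4) = a ^ 4 from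
      cj_eq_self.2 (((Commute.refl a).pow_pow i 4).inv_left).eq] at this
  have h := cj_commute (c := a ^ i) (T.odd_comm_g L (T.odd_mem L (hodd.cj _) hs' hz') (hodd.cj _))
  rw [cj_cj_inv] at h
  have e : cj (a ^ i) (cj g (cj (a ^ i)⁻¹ c)) = cj (cj (a ^ i) g) c := by simp [cj, mul_assoc]
  rwa [e] at h

end Cfsg.Agent.M11Local
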