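import Cfsg.Agent.Lib.M11Local.Basic

/-!
# No involution commuting with `s` with trivial norms along both axes (S3717; owner helper21)

* `Local.no_zero` : there is no involution `x` in `C(s)` with `x x^g x^(g^2) = 1 = x x^g' x^(g'^2)`
-/

set_option autoImplicit false
set_option linter.unusedSectionVars false

namespace Cfsg.Agent.M11Local

variable {G : Type*} [Group G] {M : Subgroup G} {g g' a s : G}

theorem cj_sq_eq {x h : G} (hx : x * x = 1) (hn : x * cj h x * cj (h ^ 2) x = 1) :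
    cj (h ^ 2) x = x * cj h x ∧ x * cj h x = cj h x * x := by
  have hP : cj h x * cj h x = 1 := by rw [← cj_mul, hx]; simp [cj]
  have hP2 : cj (h ^ 2) x * cj (h ^ 2) x = 1 := by rw [← cj_mul, hx]; simp [cj]
  have e : x * cj h x = cj (h ^ 2) x := by rw [eq_inv_of_mul_eq_one_left hn, inv_of_sq hP2]
  refine ⟨e.symm, ?_⟩
  calc x * cj h x = (x * cj h x)⁻¹ := by rw [e, inv_of_sq hP2]
    _ = cj h x * x := by rw [mul_inv_rev, inv_of_sq hP, inv_of_sq hx]

theorem Local.no_zero [Finite G] (L : Local M g g' a s) {x : G} (hx : x * x = 1) (hx1 : x ≠ 1)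
    (hxs : x * s = s * x) (hn : x * cj g x * cj (g ^ 2) x = 1)
    (hn' : x * cj g' x * cj (g' ^ 2) x = 1) : False := by
  set P := cj g x with hP
  set Q := cj g' x with hQ
  obtain ⟨eP, cP⟩ := cj_sq_eq hx hn
  obtain ⟨eQ, cQ⟩ := cj_sq_eq hx hn'
  have hPP : P * P = 1 := by rw [hP, ← cj_mul, hx]; simp [cj]
  have hQQ : Q * Q = 1 := by rw [hQ, ← cj_mul, hx]; simp [cj]
  set R := cj (g * g') x with hR
  set u := P * Q * (P * Q) with hu
  have hxPQ : x * (P * Q) = P * Q * x := by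
    rw [← mul_assoc, cP, mul_assoc, cQ, ← mul_assoc]
  have h2 : (g : G) * g ^ 2 = 1 := by rw [← pow_succ', L.g_cube]
  have h2' : (g' : G) * g' ^ 2 = 1 := by rw [← pow_succ', L.g'_cube]
  have hA : x * R * (x * R) = cj g u := by
    have e : cj (g ^ 2) x * Q * (cj (g ^ 2) x * Q) = u := by
      rw [eP, mul_assoc x P Q]
      calc x * (P * Q) * (x * (P * Q)) = x * ((P * Q) * x) * (P * Q) := by simp only [mul_assoc]
        _ = x * (x * (P * Q)) * (P * Q) := by rw [hxPQ]
        _ = u := by rw [hu, ← mul_assoc x x, hx, one_mul]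
    rw [← e]
    rw [cj_mul g (cj (g ^ 2) x * Q) (cj (g ^ 2) x * Q), cj_mul g (cj (g ^ 2) x) Q, hQ,
      cj_cj g (g ^ 2) x, cj_cj g g' x, h2, cj_one, hR]
  have hxQP : x * (Q * P) = Q * P * x := by
    rw [← mul_assoc, cQ, mul_assoc, cP, ← mul_assoc]
  have hB : R * x * (R * x) = cj g' u := by
    have e : P * cj (g' ^ 2) x * (P * cj (g' ^ 2) x) = u := by
      rw [eQ]
      calc P * (x * Q) * (P * (x * Q)) = P * x * Q * P * (x * Q) := by simp only [mul_assoc]
        _ = P * (x * (Q * P)) * (x * Q) := by simp only [mul_assoc]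
        _ = P * (Q * P) * (x * x) * Q := by rw [hxQP]; simp only [mul_assoc]
        _ = u := by rw [hu, hx, mul_one]; simp only [mul_assoc]
    rw [← e]
    rw [cj_mul g' (P * cj (g' ^ 2) x) (P * cj (g' ^ 2) x), cj_mul g' P (cj (g' ^ 2) x), hP,
      cj_cj g' g x, cj_cj g' (g' ^ 2) x, h2', cj_one, hR, ← L.gg']
  have hRR : R * R = 1 := by rw [hR, ← cj_mul, hx]; simp [cj]
  have hgg : cj g' u = (cj g u)⁻¹ := by
    rw [← hA, ← hB, mul_inv_rev, mul_inv_rev, inv_of_sq hx, inv_of_sq hRR]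
  set m := g⁻¹ * g' with hm
  have hmM : m ∈ M := M.mul_mem (M.inv_mem L.g_mem) L.g'_mem
  have hmu : cj m u = u⁻¹ := by rw [hm, ← cj_cj, hgg, cj_inv, cj_inv_cj]
  have huu : u⁻¹ = u := by
    have h3 : cj (m ^ 3) u = u⁻¹ := by
      rw [show m ^ 3 = m * (m * m) by rw [pow_three]]
      simp only [← cj_cj, hmu, cj_inv, inv_inv]
    rw [L.cube m hmM, cj_one] at h3
    exact h3.symm
  rw [huu] at hmu
  have hsu : cj s u = u := by
    have hsP : cj s P = P := by
      rw [hP, cj_cj, L.sg, ← cj_cj, show cj s x = x from cj_eq_self.2 hxs.symm]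
    have hsQ : cj s Q = x * Q := by
      have e : s * g' = g'⁻¹ * s := cj_eq_iff.1 L.s_g'
      rw [hQ, cj_cj, e, ← cj_cj, show cj s x = x from cj_eq_self.2 hxs.symm, ← eQ]
      congr 1
      rw [inv_eq_iff_mul_eq_one, h2']
    rw [hu, cj_mul, cj_mul, hsP, hsQ]
    calc P * (x * Q) * (P * (x * Q)) = P * x * Q * P * (x * Q) := by simp only [mul_assoc]
      _ = P * (x * (Q * P)) * (x * Q) := by simp only [mul_assoc]
      _ = P * (Q * P) * (x * x) * Q := by rw [hxQP]; simp only [mul_assoc]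
      _ = P * Q * (P * Q) := by rw [hx, mul_one]; simp only [mul_assoc]
  have hgu : cj g u = u := by
    have e : s * m * s⁻¹ = g⁻¹ * g'⁻¹ := by
      show cj s m = _
      rw [hm, cj_mul, cj_inv, L.s_g, L.s_g']
    have h1 : cj (g⁻¹ * g'⁻¹) u = u := by
      rw [← e, ← cj_cj, ← cj_cj, L.s_inv, hsu, hmu, hsu]
    have h2 : cj (g⁻¹ * g'⁻¹ * m) u = u := by rw [← cj_cj, hmu, h1]
    have e2 : g⁻¹ * g'⁻¹ * m = g := by
      have hc : g'⁻¹ * g⁻¹ = g⁻¹ * g'⁻¹ := by rw [← mul_inv_rev, L.gg', mul_inv_rev]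
      rw [hm, show g⁻¹ * g'⁻¹ * (g⁻¹ * g') = g⁻¹ * (g'⁻¹ * g⁻¹) * g' by simp only [mul_assoc], hc]
      rw [show g⁻¹ * (g⁻¹ * g'⁻¹) * g' = g⁻¹ * g⁻¹ by group, ← mul_inv_rev, inv_eq_iff_mul_eq_one,
        ← pow_three', L.g_cube]
    rwa [e2] at h2
  have hg'u : cj g' u = u := by rw [hgg, hgu, huu]
  have huM : u ∈ M := by
    refine L.self u fun n hn => ?_
    obtain ⟨i, j, rfl⟩ := L.span n hn
    have c1 : Commute u g := (cj_eq_self.1 hgu).symm
    have c2 : Commute u g' := (cj_eq_self.1 hg'u).symm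
    exact (Commute.mul_right (c1.pow_right i) (c2.pow_right j)).eq
  have hu1 : u = 1 := eq_one_of_cube_sq (L.cube u huM) (by
    nth_rewrite 1 [← huu]; exact inv_mul_cancel u)
  -- so all conjugates commute
  have hxR : x * R = R * x := by
    have h := hA
    rw [hu1] at h
    have h' : x * R * (x * R) = 1 := by rw [h]; simp [cj]
    rw [← inv_of_sq h', mul_inv_rev, inv_of_sq hRR, inv_of_sq hx]
  have hPQ : P * Q = Q * P := by
    have h' : P * Q * (P * Q) = 1 := by rw [← hu, hu1]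
    rw [← inv_of_sq h', mul_inv_rev, inv_of_sq hQQ, inv_of_sq hPP]
  refine hx1 (L.eq_one_of_commute (n := 2) (by norm_num) (by rw [pow_two, hx]) fun n hn => ?_)
  have back : ∀ k : G, x * cj k x = cj k x * x → x * cj k⁻¹ x = cj k⁻¹ x * x := fun k hk => by
    have := cj_commute (c := k⁻¹) hk
    rw [cj_inv_cj] at this
    exact this.symm
  have hP' : x * P = P * x := cP
  have hg2 : g ^ 2 = g⁻¹ := eq_inv_of_mul_eq_one_left (by rw [← pow_succ, L.g_cube])
  have hT : x * cj (g⁻¹ * g') x = cj (g⁻¹ * g') x * x := by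
    have := cj_commute (c := g⁻¹) hPQ
    rwa [hP, cj_inv_cj, hQ, cj_cj] at this
  obtain ⟨i, j, rfl⟩ := L.span n hn
  rcases pow_three_cases L.g_cube i with hi | hi | hi <;>
    rcases pow_three_cases L.g'_cube j with hj | hj | hj <;> rw [hi, hj]
  · simp [cj]
  · rw [one_mul]; exact cQ
  · rw [one_mul]; exact back g' cQ
  · rw [mul_one]; exact cP
  · exact hxR
  · have e : g * g'⁻¹ = (g⁻¹ * g')⁻¹ := by
      rw [mul_inv_rev, inv_inv]
      exact (Commute.inv_right (show Commute g g' from L.gg')).eq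
    rw [e]; exact back _ hT
  · rw [mul_one]; exact back g cP
  · exact hT
  · have e : g⁻¹ * g'⁻¹ = (g * g')⁻¹ := by rw [L.gg', mul_inv_rev]
    rw [e]; exact back _ hxR

end Cfsg.Agent.M11Local
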